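import Mathlib
import Cfsg.Agent.Lib.DicksonFull.Subgroups

/-!
The normaliser of the torus of a semisimple element.
-/

set_option autoImplicit false

namespace CfsgLib.PSL2Max

open CfsgLib.DicksonFull Matrix
open CfsgLib.PSL2 (mk)

variable {F : Type*} [Field F] [Fintype F] (p : ℕ) [Fact p.Prime] [CharP F p]

local notation "M2" => Matrix (Fin 2) (Fin 2) F
local notation "SL" => Matrix.SpecialLinearGroup (Fin 2) F
local notation "PSL" => Matrix.ProjectiveSpecialLinearGroup (Fin 2) F
local notation "q" => Fintype.card F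

/-- An element inverting a semisimple element from outside its torus. -/
theorem exists_inverting {x : PSL} (hx : SS p x) :
    ∃ g : PSL, g ∉ (psl p).T x ∧ g * x * g⁻¹ = x⁻¹ := by
  obtain ⟨b, rfl⟩ := mk_surj x
  have hbt : b.1.trace ^ 2 ≠ 4 := (ss_iff p).mp hx
  obtain ⟨i00, -, -, i11⟩ := Dickson.inv_entries b
  obtain ⟨a, ha⟩ := isConj_iff.mp (PSL2Product.isConj_of_trace hbt (h := b⁻¹) (by
    rw [Matrix.trace_fin_two, Matrix.trace_fin_two, i00, i11, add_comm]))
  refine ⟨mk a, ?_, by rw [← map_inv, ← map_mul, ← map_mul, ha, map_inv]⟩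
  rw [show (psl p).T (mk b) = cT b from cT_congr (QuotientGroup.out_eq' _), mem_cT]
  intro hab
  rw [hab, mul_inv_cancel_right] at ha
  have h1 : b * b = 1 := by nth_rw 2 [ha]; exact mul_inv_cancel b
  have h2 := congrArg Subtype.val h1
  rw [Matrix.SpecialLinearGroup.coe_mul, SL2Orders.sq_eq, Matrix.SpecialLinearGroup.coe_one,
    sub_eq_iff_eq_add] at h2
  by_cases hτ : b.1.trace = 0
  · rw [hτ, zero_smul] at h2
    have h3 : (0 : F) = 1 + 1 := by simpa using congrFun (congrFun h2 0) 0
    refine hbt ?_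
    rw [hτ]
    linear_combination (2 : F) * h3
  · refine SL2Centralizer.not_scalar_of_trace hbt (2 / b.1.trace) ?_
    have h3 := congrArg (fun M => b.1.trace⁻¹ • M) h2
    simp only [smul_smul, inv_mul_cancel₀ hτ, one_smul] at h3
    refine h3.trans ?_
    rw [smul_add, ← add_smul, div_eq_mul_inv]
    congr 1
    ring

/-- The torus has order `(q ± 1) / d` and a dihedral normaliser of twice that order. -/
theorem torus_data (h4 : 4 ≤ q) {x : PSL} (hx : SS p x) :
    ∃ n g, (Nat.gcd 2 (q - 1) * n = q + 1 ∨ Nat.gcd 2 (q - 1) * n = q - 1) ∧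
      Nat.card ((psl p).T x) = n ∧
      Nat.card (Subgroup.normalizer ((psl p).T x : Set PSL)) = 2 * n ∧
      Nonempty (Subgroup.normalizer ((psl p).T x : Set PSL) ≃* DihedralGroup n) ∧
      Subgroup.normalizer ((psl p).T x : Set PSL) ≠ ⊤ ∧
      g ∈ Subgroup.normalizer ((psl p).T x : Set PSL) ∧ g ∉ (psl p).T x := by
  classical
  obtain ⟨g, hgT, hgx⟩ := exists_inverting p hx
  set n := Nat.card ((psl p).T x) with hn
  have hn0 : 0 < n := Nat.card_pos
  set N := Subgroup.normalizer ((psl p).T x : Set PSL) with hN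
  have hgN : g ∈ N := mem_norm hx (by rw [hgx]; exact inv_mem ((psl p).mem_T x hx))
  have hdn : Nat.gcd 2 (q - 1) * n = q + 1 ∨ Nat.gcd 2 (q - 1) * n = q - 1 := by
    obtain ⟨b, rfl⟩ := mk_surj x
    have hbt : b.1.trace ^ 2 ≠ 4 := (ss_iff p).mp hx
    rw [hn, show (psl p).T (mk b) = cT b from cT_congr (QuotientGroup.out_eq' _)]
    have hC : Nat.gcd 2 (q - 1) * Nat.card (cT b) =
        Nat.card (Subgroup.centralizer ({b} : Set SL)) := by
      have hker : (mk : SL →* PSL).ker ≤ Subgroup.centralizer ({b} : Set SL) := fun z hz => by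
        rw [QuotientGroup.ker_mk'] at hz
        rw [Subgroup.mem_centralizer_singleton_iff]
        exact (Subgroup.mem_center_iff.mp hz b).symm
      have h1 := (cT b).card_mul_index
      have h2 := (Subgroup.centralizer ({b} : Set SL)).card_mul_index
      have h3 := card_psl (F := F)
      rw [show (cT b).index = (Subgroup.centralizer ({b} : Set SL)).index from
        Subgroup.index_map_eq _ mk_surj hker] at h1
      rw [← h1, ← mul_assoc, ← SLCard.card_SL_two, ← h2] at h3
      exact Nat.eq_of_mul_eq_mul_right (Nat.pos_of_ne_zero Subgroup.index_ne_zero_of_finite) h3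
    rw [hC]
    have h5 := SL2Centralizer.card_centralizer hbt
    rcases SL2Centralizer.card_roots (F := F) hbt with e | e <;> omega
  have hN2 : Nat.card N = 2 * n := by
    have hnor : nor (psl p) ⊤ x = N := top_inf_eq _
    have h2 : tor (psl p) ⊤ x = (psl p).T x := top_inf_eq _
    rcases nor_card (A := psl p) (H := ⊤) hx with h | h <;> rw [hnor, h2] at h
    · exfalso
      exact hgT (by rw [Subgroup.eq_of_le_of_card_ge Subgroup.le_normalizer h.le]; exact hgN)
    · exact h
  have hxN : x ∈ N := Subgroup.le_normalizer ((psl p).mem_T x hx)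
  have htN : tor (psl p) N x = (psl p).T x := inf_eq_right.mpr Subgroup.le_normalizer
  refine ⟨n, g, hdn, rfl, hN2, ?_, fun htop => ?_, hgN, hgT⟩
  · have := dihedral_of_half (A := psl p) (H := N) hx hxN (by rw [htN, hN2])
    rwa [htN] at this
  · rw [htop, Subgroup.card_top] at hN2
    have hcard := card_psl (F := F)
    rw [hN2] at hcard
    have hbig : q * 15 ≤ q * (q ^ 2 - 1) := Nat.mul_le_mul_left _ (by
      have := Nat.pow_le_pow_left h4 2
      omega)
    rcases gcd_cases (F := F) p with ⟨hg, -⟩ | ⟨hg, -⟩ <;> rw [hg] at hcard hdn <;> omega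

end CfsgLib.PSL2Max
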