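import Mathlib
import Cfsg.Agent.Lib.DicksonFull.Subgroups
import Cfsg.Agent.Lib.SLCard

/-!
The subgroup of `PSL₂(F)` of the matrices proportional to matrices over a subfield.
-/

set_option autoImplicit false

namespace CfsgLib.PSL2Max

open Matrix
open CfsgLib.Dickson (mul_entry inv_entries)
open CfsgLib.PSL2 (mk uu)

variable {F : Type*} [Field F]

local notation "M2" => Matrix (Fin 2) (Fin 2) F
local notation "SL" => Matrix.SpecialLinearGroup (Fin 2) F
local notation "PSL" => Matrix.ProjectiveSpecialLinearGroup (Fin 2) F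

/-- The classes of the matrices with a multiple over `S`. -/
def scaled (S : Subfield F) : Subgroup PSL where
  carrier := {g | ∃ G : SL, mk G = g ∧ ∃ c : F, c ≠ 0 ∧ ∀ i j, c * G.1 i j ∈ S}
  one_mem' := ⟨1, map_one _, 1, one_ne_zero, fun i j => by
    by_cases h : i = j <;> simp [h, S.one_mem, S.zero_mem]⟩
  mul_mem' := by
    rintro _ _ ⟨G, rfl, c, hc, hG⟩ ⟨H, rfl, d, hd, hH⟩
    refine ⟨G * H, map_mul _ _ _, c * d, mul_ne_zero hc hd, fun i j => ?_⟩
    have := S.add_mem (S.mul_mem (hG i 0) (hH 0 j)) (S.mul_mem (hG i 1) (hH 1 j))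
    convert this using 1
    rw [mul_entry]
    ring
  inv_mem' := by
    rintro _ ⟨G, rfl, c, hc, hG⟩
    obtain ⟨i00, i01, i10, i11⟩ := inv_entries G
    refine ⟨G⁻¹, map_inv _ _, c, hc, fun i j => ?_⟩
    fin_cases i <;> fin_cases j
    · show c * (G⁻¹).1 0 0 ∈ S
      rw [i00]; exact hG 1 1
    · show c * (G⁻¹).1 0 1 ∈ S
      rw [i01, mul_neg]; exact S.neg_mem (hG 0 1)
    · show c * (G⁻¹).1 1 0 ∈ S
      rw [i10, mul_neg]; exact S.neg_mem (hG 1 0)
    · show c * (G⁻¹).1 1 1 ∈ S
      rw [i11]; exact hG 0 0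

theorem mem_scaled {S : Subfield F} {G : SL} {c : F} (hc : c ≠ 0) (h : ∀ i j, c * G.1 i j ∈ S) :
    mk G ∈ scaled S := ⟨G, rfl, c, hc, h⟩

theorem uu_mem_iff {S : Subfield F} {t : F} : uu t ∈ scaled S ↔ t ∈ S := by
  constructor
  · rintro ⟨G, hG, c, hc, h⟩
    rw [PSL2.uu_eq] at hG
    have h00 := h 0 0
    have h01 := h 0 1
    rcases DicksonFull.eq_or_neg hG with e | e
    · subst e
      simp [PSL2.coe_uSL] at h00 h01
      have := S.div_mem h01 h00
      rwa [mul_div_cancel_left₀ _ hc] at this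
    · have e' : G = -PSL2.uSL t := by rw [e, neg_neg]
      subst e'
      simp [PSL2.coe_uSL] at h00 h01
      have := S.div_mem h01 h00
      rwa [mul_div_cancel_left₀ _ hc] at this
  · intro ht
    refine ⟨PSL2.uSL t, (PSL2.uu_eq t).symm, 1, one_ne_zero, fun i j => ?_⟩
    fin_cases i <;> fin_cases j <;> simp [PSL2.coe_uSL, S.one_mem, S.zero_mem, ht]

theorem scaled_ne_top {S : Subfield F} (h : S ≠ ⊤) : scaled S ≠ ⊤ := fun e =>
  h (eq_top_iff.mpr fun t _ => uu_mem_iff.mp (e ▸ Subgroup.mem_top (uu t)))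

theorem scaled_mono {S S' : Subfield F} (h : S ≤ S') : scaled S ≤ scaled S' := by
  rintro _ ⟨G, rfl, c, hc, hG⟩
  exact mem_scaled hc fun i j => h (hG i j)

variable [Fintype F]

theorem card_dvd_scaled (S : Subfield F) : Nat.card S ∣ Nat.card (scaled S) := by
  let f : Multiplicative S →* scaled S := MonoidHom.mk'
    (fun s => ⟨uu ((Multiplicative.toAdd s : S) : F), uu_mem_iff.mpr (Multiplicative.toAdd s : S).2⟩)
    (fun a b => Subtype.ext (by
      show uu _ = uu _ * uu _
      simp [PSL2.uu, ofAdd_add]))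
  have hf : Function.Injective f := fun a b e =>
    Multiplicative.toAdd.injective (Subtype.ext (PSL2.uu_injective (congrArg Subtype.val e)))
  rw [← Nat.card_congr (Multiplicative.toAdd (α := S)), Nat.card_congr (MonoidHom.ofInjective hf).toEquiv]
  exact f.range.card_subgroup_dvd_card

/-- A maximal subgroup inside a proper `scaled S` fills it, and `S` has no proper extension. -/
theorem maximal {M : Subgroup PSL} (hM : IsCoatom M) (φ : MulAut PSL) {S : Subfield F} (hS : S ≠ ⊤)
    (h : M.map φ.toMonoidHom ≤ scaled S) :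
    M.map φ.toMonoidHom = scaled S ∧ (∀ S', S ≤ S' → S' = S ∨ S' = ⊤) ∧ Nat.card S ∣ Nat.card M := by
  have hc : IsCoatom (M.map φ.toMonoidHom) := by
    rw [show M.map φ.toMonoidHom = φ.mapSubgroup M from rfl, OrderIso.isCoatom_iff]
    exact hM
  have e : M.map φ.toMonoidHom = scaled S :=
    h.eq_or_lt.resolve_right fun hlt => scaled_ne_top hS (hc.2 _ hlt)
  refine ⟨e, fun S' hS' => or_iff_not_imp_right.mpr fun hne => ?_, ?_⟩
  · have e' : scaled S' = scaled S := by
      rcases (scaled_mono hS').eq_or_lt with e1 | e1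
      · exact e1.symm
      · exact absurd (hc.2 _ (e ▸ e1)) (scaled_ne_top hne)
    exact le_antisymm (fun t ht => uu_mem_iff.mp (e' ▸ uu_mem_iff.mpr ht)) hS'
  · rw [Nat.card_congr (M.equivMapOfInjective φ.toMonoidHom φ.injective).toEquiv, e]
    exact card_dvd_scaled S

variable (p : ℕ) [Fact p.Prime] [CharP F p]

/-- The subfields: `t ∈ S ↔ t ^ #S = t`. -/
theorem mem_subfield_iff (S : Subfield F) (t : F) : t ∈ S ↔ t ^ Nat.card S = t := by
  classical
  haveI : Fintype S := Fintype.ofFinite _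
  have hpow : ∀ s : F, s ∈ S → s ^ Nat.card S = s := fun s hs => by
    rw [Nat.card_eq_fintype_card]
    exact congrArg Subtype.val (FiniteField.pow_card (⟨s, hs⟩ : S))
  refine ⟨hpow t, fun ht => ?_⟩
  have h2 : 1 < Nat.card S := Finite.one_lt_card
  have hne : (Polynomial.X ^ Nat.card S - Polynomial.X : Polynomial F) ≠ 0 :=
    FiniteField.X_pow_card_sub_X_ne_zero F h2
  have hsub : (S : Set F) ⊆ {s | s ^ Nat.card S = s} := hpow
  have hle : {s : F | s ^ Nat.card S = s}.ncard ≤ (S : Set F).ncard := by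
    have e : {s : F | s ^ Nat.card S = s} =
        ↑(Polynomial.X ^ Nat.card S - Polynomial.X : Polynomial F).roots.toFinset := by
      ext s
      rw [Set.mem_ofPred_eq, Finset.mem_coe, Multiset.mem_toFinset, Polynomial.mem_roots hne,
        Polynomial.IsRoot.def, Polynomial.eval_sub, Polynomial.eval_pow, Polynomial.eval_X, sub_eq_zero]
    rw [e, Set.ncard_coe_finset, show (S : Set F).ncard = Nat.card S from (Nat.card_coe_set_eq _).symm]
    refine (Multiset.toFinset_card_le _).trans ((Polynomial.card_roots' _).trans (le_of_eq ?_))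
    exact FiniteField.X_pow_card_sub_X_natDegree_eq F h2
  have : t ∈ (S : Set F) := by rw [Set.eq_of_subset_of_ncard_le hsub hle]; exact ht
  exact this

theorem subfield_eq_of_card {S T : Subfield F} (h : Nat.card S = Nat.card T) : S = T :=
  SetLike.ext fun t => by rw [mem_subfield_iff, mem_subfield_iff, h]

theorem eq_top_iff_card (S : Subfield F) : S = ⊤ ↔ Nat.card S = Fintype.card F := by
  constructor
  · rintro rfl
    rw [← Nat.card_eq_fintype_card]
    exact Nat.card_congr Subfield.topEquiv.toEquiv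
  · intro h
    exact eq_top_iff.mpr fun t _ => (mem_subfield_iff S t).mpr (by rw [h]; exact FiniteField.pow_card t)

/-- The subfield of degree `k`. -/
theorem exists_subfield_card {n k : ℕ} (hn : Fintype.card F = p ^ n) (hk : k ∣ n) :
    ∃ S : Subfield F, Nat.card S = p ^ k := by
  obtain ⟨m, rfl⟩ := hk
  have hp := (Fact.out : p.Prime)
  have hkm : k ≠ 0 ∧ m ≠ 0 := by
    rw [← mul_ne_zero_iff]
    intro h
    rw [h, pow_zero] at hn
    have := Fintype.one_lt_card (α := F)
    omega
  obtain ⟨φ⟩ : Nonempty (GaloisField p k →+* F) := by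
    letI := Fintype.ofFinite (GaloisField p k)
    haveI : NeZero m := ⟨hkm.2⟩
    letI := Fintype.ofFinite (FiniteField.Extension (GaloisField p k) p m)
    have e : FiniteField.Extension (GaloisField p k) p m ≃+* F := FiniteField.ringEquivOfCardEq (by
      rw [Fintype.card_eq_nat_card, FiniteField.natCard_extension, GaloisField.card p k hkm.1,
        ← pow_mul, hn])
    exact ⟨e.toRingHom.comp (algebraMap _ _)⟩
  exact ⟨φ.fieldRange, by
    rw [← GaloisField.card p k hkm.1]
    exact (Nat.card_congr (φ.rangeRestrictFieldEquiv).toEquiv).symm⟩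

/-- The degree over a maximal subfield is prime. -/
theorem prime_degree {n s : ℕ} (hn : Fintype.card F = p ^ n) {S : Subfield F} (hS : Nat.card S = p ^ s)
    (hne : S ≠ ⊤) (hmax : ∀ S', S ≤ S' → S' = S ∨ S' = ⊤) : ∃ m, m.Prime ∧ n = s * m := by
  classical
  have hp := (Fact.out : p.Prime)
  have hs : s ≠ 0 := by
    rintro rfl
    have : 1 < Nat.card S := Finite.one_lt_card
    rw [hS, pow_zero] at this
    omega
  obtain ⟨m, hm⟩ : s ∣ n := by
    haveI : Fintype S := Fintype.ofFinite _
    have h := Module.card_eq_pow_finrank (K := S) (V := F)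
    rw [hn, ← Nat.card_eq_fintype_card, hS, ← pow_mul] at h
    exact ⟨_, Nat.pow_right_injective hp.two_le h⟩
  refine ⟨m, ?_, hm⟩
  have hm1 : m ≠ 1 := fun e => hne ((eq_top_iff_card S).mpr (by rw [hS, hn, hm, e, mul_one]))
  by_contra hmp
  have hm0 : m ≠ 0 := by
    rintro rfl
    rw [hm, mul_zero, pow_zero] at hn
    have := Fintype.one_lt_card (α := F)
    omega
  obtain ⟨d, ⟨e, hde⟩, hd2, hdm⟩ := Nat.exists_dvd_of_not_prime2 (by omega) hmp
  obtain ⟨S', hS'⟩ := exists_subfield_card p hn (k := s * d) (hm ▸ Nat.mul_dvd_mul_left s ⟨e, hde⟩)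
  have hle : S ≤ S' := fun t ht => by
    rw [mem_subfield_iff, hS', pow_mul]
    have h1 : t ^ p ^ s = t := hS ▸ (mem_subfield_iff S t).mp ht
    have h2 : ∀ j, t ^ (p ^ s) ^ j = t := by
      intro j
      induction j with
      | zero => simp
      | succ j ih => rw [pow_succ, pow_mul, ih, h1]
    exact h2 d
  rcases hmax S' hle with e' | e'
  · subst e'
    rw [hS] at hS'
    have h1 := Nat.pow_right_injective hp.two_le hS'
    have : s * 1 < s * d := Nat.mul_lt_mul_of_pos_left (by omega) (by omega)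
    omega
  · have h1 := (eq_top_iff_card S').mp e'
    rw [hS', hn, hm] at h1
    have h2 := Nat.eq_of_mul_eq_mul_left (by omega) (Nat.pow_right_injective hp.two_le h1)
    omega

end CfsgLib.PSL2Max
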