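import Mathlib
import Cfsg.Agent.Lib.PSL2Max.Scaled
import Cfsg.Agent.Lib.PSL2.Out
import Cfsg.Agent.Lib.SLCard

/-!
Maximal subgroups of `PGL₂(q)` seen inside `PSL₂(q)`.
-/

set_option autoImplicit false

namespace CfsgLib.PSL2Max

open Matrix CfsgLib.DicksonFull
open CfsgLib.PSL2 (mk diagAut conjSL)

section Defs

variable {F : Type*} [Field F]

local notation "M2" => Matrix (Fin 2) (Fin 2) F
local notation "SL" => Matrix.SpecialLinearGroup (Fin 2) F
local notation "PSL" => Matrix.ProjectiveSpecialLinearGroup (Fin 2) F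
local notation "PGL" => Matrix.ProjGenLinGroup (Fin 2) F

/-- The projection to `PGL₂`. -/
abbrev pgm : GL (Fin 2) F →* PGL := Matrix.ProjGenLinGroup.mk

theorem scalar_of_pgm_one {g : GL (Fin 2) F} (h : pgm g = 1) : ∃ z : F, z ≠ 0 ∧ g.1 = z • (1 : M2) := by
  have h' := (QuotientGroup.eq_one_iff _).mp h
  rw [Matrix.GeneralLinearGroup.center_eq_range_scalar, MonoidHom.mem_range] at h'
  obtain ⟨u, rfl⟩ := h'
  exact ⟨u, u.ne_zero, by ext i j; by_cases hij : i = j <;> simp [hij]⟩

theorem pgm_one_of_scalar {g : GL (Fin 2) F} {z : F} (h : g.1 = z • (1 : M2)) : pgm g = 1 := by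
  refine (QuotientGroup.eq_one_iff _).mpr ?_
  rw [Subgroup.mem_center_iff]
  intro x
  exact Units.ext (by rw [Units.val_mul, Units.val_mul, h]; simp)

theorem diagAut_of_scalar {g : GL (Fin 2) F} {z : F} (h : g.1 = z • (1 : M2)) : diagAut g = 1 := by
  refine MulEquiv.ext fun x => ?_
  obtain ⟨A, rfl⟩ := mk_surj x
  rw [PSL2.diagAut_apply, MulAut.one_apply]
  congr 1
  refine Subtype.ext ?_
  rw [PSL2.coe_conjSL, h, smul_mul_assoc, one_mul]
  have e : g.1 * (g⁻¹).1 = 1 := g.mul_inv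
  rw [h, smul_mul_assoc, one_mul] at e
  rw [smul_mul_assoc, ← mul_smul_comm, e, mul_one]

/-- `PGL₂` acting on `PSL₂`. -/
def act : PGL →* MulAut PSL :=
  QuotientGroup.lift _ diagAut fun g hg => by
    have h1 : pgm g = 1 := (QuotientGroup.eq_one_iff _).mpr hg
    obtain ⟨z, -, hz⟩ := scalar_of_pgm_one h1
    exact MonoidHom.mem_ker.mpr (diagAut_of_scalar hz)

@[simp] theorem act_pgm (g : GL (Fin 2) F) : act (pgm g) = diagAut g := rfl

/-- `PSL₂` inside `PGL₂`. -/
def phi : PSL →* PGL :=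
  QuotientGroup.lift _ (pgm.comp Matrix.SpecialLinearGroup.toGL) fun s hs => by
    obtain ⟨r, -, hA⟩ := Matrix.SpecialLinearGroup.mem_center_iff.mp hs
    refine MonoidHom.mem_ker.mpr (pgm_one_of_scalar (z := r) ?_)
    show s.1 = _
    rw [← hA]
    ext i j; by_cases hij : i = j <;> simp [hij]

theorem phi_mk (s : SL) : phi (mk s) = pgm (Matrix.SpecialLinearGroup.toGL s) := rfl

theorem range_phi : (phi (F := F)).range = (pgm.comp Matrix.SpecialLinearGroup.toGL).range := by
  ext x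
  constructor
  · rintro ⟨y, rfl⟩
    obtain ⟨s, rfl⟩ := mk_surj y
    exact ⟨s, rfl⟩
  · rintro ⟨s, rfl⟩
    exact ⟨mk s, rfl⟩

theorem phi_injective : Function.Injective (phi (F := F)) := by
  rw [injective_iff_map_eq_one]
  intro x hx
  obtain ⟨s, rfl⟩ := mk_surj x
  obtain ⟨z, -, hz⟩ := scalar_of_pgm_one hx
  have hs : s.1 = z • (1 : M2) := hz
  have hd := s.2
  rw [hs, Matrix.det_smul, Matrix.det_one, mul_one, Fintype.card_fin] at hd
  rw [← map_one (mk : SL →* PSL), PSL2.mk_eq_mk]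
  rcases sq_eq_one_iff.mp hd with e | e <;> rw [hs, e, Matrix.SpecialLinearGroup.coe_one]
  · left; rw [one_smul]
  · right; rw [neg_smul, one_smul, neg_neg]

theorem phi_act (g : PGL) (x : PSL) : phi (act g x) = g * phi x * g⁻¹ := by
  obtain ⟨G, rfl⟩ := Matrix.ProjGenLinGroup.mk_surjective g
  obtain ⟨s, rfl⟩ := mk_surj x
  show phi (diagAut G (mk s)) = _
  rw [PSL2.diagAut_apply, phi_mk, phi_mk, ← map_inv, ← map_mul, ← map_mul]
  exact congrArg pgm (Units.ext rfl)

theorem act_phi (y : PSL) : act (phi y) = MulAut.conj y := by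
  refine MulEquiv.ext fun x => phi_injective ?_
  rw [phi_act, MulAut.conj_apply, map_mul, map_mul, map_inv]

theorem range_normal : (phi (F := F)).range.Normal := by
  constructor
  rintro _ ⟨x, rfl⟩ g
  exact ⟨act g x, phi_act g x⟩

theorem isSquare_det_of_mem {g : GL (Fin 2) F} (h : pgm g ∈ (phi (F := F)).range) : IsSquare g.1.det := by
  rw [range_phi] at h
  obtain ⟨s, hs⟩ := h
  obtain ⟨u, hu⟩ := Matrix.ProjGenLinGroup.mk_eq_mk_iff.mp hs
  refine ⟨u, ?_⟩
  rw [← hu, Units.val_mul, Matrix.det_mul, show (Matrix.SpecialLinearGroup.toGL s).1 = s.1 from rfl, s.2,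
    one_mul]
  simp [Matrix.det_fin_two, pow_two]

/-- The image of `GL₂` of a subfield in `PGL₂`. -/
def phat {K : Type*} [Field K] (ι : K →+* F) : Subgroup PGL :=
  (pgm.comp (Matrix.GeneralLinearGroup.map ι)).range

theorem phat_iso {K : Type*} [Field K] (ι : K →+* F) :
    Nonempty (phat ι ≃* Matrix.ProjGenLinGroup (Fin 2) K) := by
  have hker : (pgm.comp (Matrix.GeneralLinearGroup.map ι)).ker = Subgroup.center (GL (Fin 2) K) := by
    ext g
    rw [MonoidHom.mem_ker]
    constructor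
    · intro h
      obtain ⟨z, -, hz⟩ := scalar_of_pgm_one h
      have e : ∀ i j, ι (g.1 i j) = z * (1 : M2) i j := fun i j => congrFun (congrFun hz i) j
      rw [Subgroup.mem_center_iff]
      intro x
      have h00 := e 0 0
      have h11 := e 1 1
      have h01 : g.1 0 1 = 0 := ι.injective (by rw [e 0 1, map_zero]; simp)
      have h10 : g.1 1 0 = 0 := ι.injective (by rw [e 1 0, map_zero]; simp)
      have h : g.1 0 0 = g.1 1 1 := ι.injective (by rw [h00, h11]; simp)
      refine Units.ext ?_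
      ext i j
      fin_cases i <;> fin_cases j <;> simp [Matrix.mul_apply, Fin.sum_univ_two, h01, h10, h, mul_comm]
    · intro h
      rw [Matrix.GeneralLinearGroup.center_eq_range_scalar, MonoidHom.mem_range] at h
      obtain ⟨u, rfl⟩ := h
      refine pgm_one_of_scalar (z := ι u) ?_
      ext i j; by_cases hij : i = j <;> simp [hij]
  exact ⟨(QuotientGroup.quotientKerEquivRange _).symm.trans (QuotientGroup.quotientMulEquivOfEq hker)⟩

theorem phi_mem_phat {K : Type*} [Field K] {ι : K →+* F} {x : PSL} :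
    phi x ∈ phat ι ↔ x ∈ scaled ι.fieldRange := by
  constructor
  · rintro ⟨G, hG⟩
    obtain ⟨s, rfl⟩ := mk_surj x
    obtain ⟨u, hu⟩ := Matrix.ProjGenLinGroup.mk_eq_mk_iff.mp hG
    refine mem_scaled (c := ((u⁻¹ : Fˣ) : F)) (Units.ne_zero _) fun i j => ⟨G.1 i j, ?_⟩
    have e := congrArg (fun M : GL (Fin 2) F => M.1 i j) hu
    simp [Matrix.mul_apply, Fin.sum_univ_two] at e
    fin_cases i <;> fin_cases j <;> simp at e ⊢ <;> rw [← e] <;> field_simp
  · rintro ⟨s, rfl, c, hc, h⟩
    choose f hf using h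
    have hdet : Matrix.det (Matrix.of f) ≠ 0 := fun e => by
      have h1 := congrArg ι e
      rw [Matrix.det_fin_two, map_sub, map_mul, map_mul, map_zero] at h1
      simp only [Matrix.of_apply, hf] at h1
      have hd := Dickson.det_eq s
      exact mul_ne_zero hc hc (by linear_combination h1 - c * c * hd)
    refine ⟨Matrix.GeneralLinearGroup.mkOfDetNeZero (Matrix.of f) hdet, ?_⟩
    refine Matrix.ProjGenLinGroup.mk_eq_mk_iff.mpr ⟨Units.mk0 c⁻¹ (inv_ne_zero hc), Units.ext ?_⟩
    ext i j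
    fin_cases i <;> fin_cases j <;>
      simp [Matrix.GeneralLinearGroup.mkOfDetNeZero, Matrix.mul_apply, Fin.sum_univ_two, hf] <;> field_simp

/-- An element moving `u(1)` and `v(1)` into `scaled S` lies in the subfield `PGL₂`. -/
theorem mem_phat (h2 : (2 : F) ≠ 0) {K : Type*} [Field K] {ι : K →+* F} {g : PGL}
    (hu : act g (PSL2.uu 1) ∈ scaled ι.fieldRange) (hv : act g (PSL2.vv 1) ∈ scaled ι.fieldRange) :
    g ∈ phat ι := by
  obtain ⟨G, rfl⟩ := Matrix.ProjGenLinGroup.mk_surjective g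
  set S := ι.fieldRange with hS
  have hent : ∀ {B : SL}, B.1.trace = 2 → mk B ∈ scaled S → ∀ i j, B.1 i j ∈ S := by
    rintro B hB ⟨B', hB', c, hc, h⟩
    have h2S : (2 : F) ∈ S := by exact_mod_cast natCast_mem S 2
    have key : ∀ i j, c * B.1 i j ∈ S := by
      intro i j
      rcases eq_or_neg hB' with e | e
      · subst e; exact h i j
      · rw [e, Matrix.SpecialLinearGroup.coe_neg, Matrix.neg_apply, mul_neg]; exact S.neg_mem (h i j)
    have hcS : c ∈ S := by
      have := S.div_mem (S.add_mem (key 0 0) (key 1 1)) h2S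
      rw [← mul_add, ← Matrix.trace_fin_two, hB, mul_div_cancel_right₀ _ h2] at this
      exact this
    intro i j
    have := S.div_mem (key i j) hcS
    rwa [mul_div_cancel_left₀ _ hc] at this
  -- move the fixed vector to the first axis
  rw [act_pgm] at hu hv
  have tru : (PSL2.uSL (1 : F)).1.trace = 2 := by
    rw [PSL2.coe_uSL, Matrix.trace_fin_two]; simp [one_add_one_eq_two]
  have htu : (conjSL G (PSL2.uSL 1)).1.trace = 2 := by
    rw [PSL2.coe_conjSL, Matrix.trace_units_conj, tru]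
  have hX := hent htu (by rw [← PSL2.diagAut_apply, ← PSL2.uu_eq]; exact hu)
  choose X hX' using hX
  set N : Matrix (Fin 2) (Fin 2) K := Matrix.of X - 1 with hN
  have hNm : N.map ι = G.1 * !![0, 1; 0, 0] * (G⁻¹).1 := by
    have e1 : (Matrix.of X).map ι = (conjSL G (PSL2.uSL 1)).1 := by ext i j; exact hX' i j
    rw [hN, Matrix.map_sub ι (fun a b => map_sub ι a b), e1, PSL2.coe_conjSL, PSL2.coe_uSL,
      Matrix.map_one ι (map_zero ι) (map_one ι)]
    rw [show (!![1, 1; 0, 1] : M2) = 1 + !![0, 1; 0, 0] by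
      ext i j; fin_cases i <;> fin_cases j <;> simp, mul_add, mul_one, add_mul, Units.mul_inv,
      add_sub_cancel_left]
  have hN2 : N * N = 0 := by
    have h : (N * N).map ι = (0 : Matrix (Fin 2) (Fin 2) K).map ι := by
      have hE : (!![0, 1; 0, 0] : M2) * !![0, 1; 0, 0] = 0 := by
        ext i j; fin_cases i <;> fin_cases j <;> simp
      rw [Matrix.map_mul, hNm,
        show G.1 * !![0, 1; 0, 0] * (G⁻¹).1 * (G.1 * !![0, 1; 0, 0] * (G⁻¹).1) =
          G.1 * (!![0, 1; 0, 0] * ((G⁻¹).1 * G.1) * !![0, 1; 0, 0]) * (G⁻¹).1 by simp only [mul_assoc],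
        Units.inv_mul, mul_one, hE]
      simp
    exact Matrix.map_injective ι.injective h
  have hN0 : N ≠ 0 := fun e => by
    rw [e] at hNm
    have h := congrArg (fun M => (G⁻¹).1 * M * G.1) hNm
    rw [Matrix.map_zero _ (map_zero ι)] at h
    simp only [mul_zero, zero_mul, ← mul_assoc, Units.inv_mul, one_mul] at h
    rw [mul_assoc, Units.inv_mul, mul_one] at h
    exact one_ne_zero (congrFun (congrFun h 0) 1).symm
  have a00 := congrFun (congrFun hN2 0) 0
  have a01 := congrFun (congrFun hN2 0) 1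
  have a10 := congrFun (congrFun hN2 1) 0
  have a11 := congrFun (congrFun hN2 1) 1
  simp [Matrix.mul_apply, Fin.sum_univ_two] at a00 a01 a10 a11
  obtain ⟨H, hH, hdH⟩ : ∃ H : Matrix (Fin 2) (Fin 2) K, N * H = H * !![0, 1; 0, 0] ∧ H.det ≠ 0 := by
    by_cases h10 : N 1 0 = 0
    · have h00 : N 0 0 = 0 := by
        rw [h10, mul_zero, add_zero] at a00; exact mul_self_eq_zero.mp a00
      have h11 : N 1 1 = 0 := by
        rw [h10, zero_mul, zero_add] at a11; exact mul_self_eq_zero.mp a11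
      have h01 : N 0 1 ≠ 0 := fun e => hN0 (by
        ext i j; fin_cases i <;> fin_cases j <;> simp [h10, h00, h11, e])
      exact ⟨!![N 0 1, 0; 0, 1], by
        ext i j; fin_cases i <;> fin_cases j <;> simp [Matrix.mul_apply, Fin.sum_univ_two, h10, h00, h11],
        by simp [Matrix.det_fin_two, h01]⟩
    · refine ⟨!![N 0 0, 1; N 1 0, 0], ?_, by simp [Matrix.det_fin_two, h10]⟩
      ext i j
      fin_cases i <;> fin_cases j <;> simp [Matrix.mul_apply, Fin.sum_univ_two]
      · linear_combination a00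
      · linear_combination a10
  let H₀ : GL (Fin 2) K := Matrix.GeneralLinearGroup.mkOfDetNeZero H hdH
  set H' := Matrix.GeneralLinearGroup.map ι H₀ with hH'
  set G' := H'⁻¹ * G with hG'
  have hHP : pgm H' ∈ phat ι := ⟨H₀, rfl⟩
  suffices pgm G' ∈ phat ι by
    have h := (phat ι).mul_mem hHP this
    rwa [← map_mul, hG', mul_inv_cancel_left] at h
  have hcomm : G'.1 * !![0, 1; 0, 0] = !![0, 1; 0, 0] * G'.1 := by
    have e1 : N.map ι * H'.1 = H'.1 * !![0, 1; 0, 0] := by
      rw [show H'.1 = H.map ι from rfl, ← Matrix.map_mul, hH, Matrix.map_mul]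
      congr 1
      ext i j; fin_cases i <;> fin_cases j <;> simp
    rw [hNm] at e1
    calc G'.1 * !![0, 1; 0, 0]
        = (H'⁻¹).1 * (G.1 * !![0, 1; 0, 0] * (G⁻¹).1 * H'.1) * ((H'⁻¹).1 * G.1) := by
          rw [hG', Units.val_mul]
          simp [mul_assoc]
      _ = !![0, 1; 0, 0] * G'.1 := by
          rw [e1, hG', Units.val_mul]; simp [mul_assoc]
  have b00 := congrFun (congrFun hcomm 0) 0
  have b01 := congrFun (congrFun hcomm 0) 1
  simp [Matrix.mul_apply, Fin.sum_univ_two] at b00 b01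
  set a := G'.1 0 0
  set b := G'.1 0 1
  have h10 : G'.1 1 0 = 0 := b00.symm
  have h11 : G'.1 1 1 = a := b01.symm
  have ha : a ≠ 0 := fun e => by
    have := ((Matrix.isUnit_iff_isUnit_det _).mp G'.isUnit).ne_zero
    rw [Matrix.det_fin_two, h10, h11, show G'.1 0 0 = a from rfl, e] at this
    simp at this
  have hv' : diagAut G' (mk (PSL2.vSL 1)) ∈ scaled S := by
    rw [hG', map_mul, MulAut.mul_apply, ← PSL2.vv_eq, hS, ← phi_mem_phat, ← act_pgm, phi_act, map_inv]
    refine (phat ι).mul_mem ((phat ι).mul_mem ((phat ι).inv_mem hHP) (phi_mem_phat.mpr hv)) ?_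
    rw [inv_inv]; exact hHP
  rw [PSL2.diagAut_apply] at hv'
  have hW : (conjSL G' (PSL2.vSL 1)).1 = !![1 + b / a, -(b / a) ^ 2; 1, 1 - b / a] := by
    refine G'.isUnit.mul_left_injective ?_
    rw [PSL2.coe_conjSL]
    show G'.1 * (PSL2.vSL 1).1 * (G'⁻¹).1 * G'.1 = _
    rw [mul_assoc, Units.inv_mul, mul_one]
    ext i j
    fin_cases i <;> fin_cases j <;>
      simp [PSL2.coe_vSL, Matrix.mul_apply, Fin.sum_univ_two, h10, h11] <;> (try field_simp) <;> (try ring)
  have hWS := hent (B := conjSL G' (PSL2.vSL 1)) (by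
    rw [hW, Matrix.trace_fin_two]; simp; ring) hv' 0 0
  rw [hW] at hWS
  have hbS : b / a ∈ S := by
    have h := S.sub_mem hWS S.one_mem
    simpa using h
  obtain ⟨β, hβ⟩ := hbS
  refine ⟨Matrix.GeneralLinearGroup.mkOfDetNeZero !![1, β; 0, 1] (by simp [Matrix.det_fin_two]), ?_⟩
  refine Matrix.ProjGenLinGroup.mk_eq_mk_iff.mpr ⟨Units.mk0 a ha, Units.ext ?_⟩
  ext i j
  fin_cases i <;> fin_cases j <;>
    simp [Matrix.GeneralLinearGroup.mkOfDetNeZero, Matrix.mul_apply, Fin.sum_univ_two, h10, h11, hβ] <;>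
    (try field_simp) <;> (try rfl)

end Defs

section Setup

variable {F : Type*} [Field F] [Fintype F]

local notation "PSL" => Matrix.ProjectiveSpecialLinearGroup (Fin 2) F
local notation "PGL" => Matrix.ProjGenLinGroup (Fin 2) F

theorem index_range (p : ℕ) [Fact p.Prime] [CharP F p] (hp2 : p ≠ 2) : (phi (F := F)).range.index = 2 := by
  have h := (phi (F := F)).range.card_mul_index
  rw [← Nat.card_congr (MonoidHom.ofInjective phi_injective).toEquiv, SLCard.card_PGL, SLCard.card_SL_two] at h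
  have hc := card_psl (F := F)
  rcases gcd_cases (F := F) p with ⟨-, he⟩ | ⟨hg, -⟩
  · exfalso
    obtain ⟨n, -, hn⟩ := FiniteField.card F p
    exact hp2 ((Nat.prime_dvd_prime_iff_eq Nat.prime_two Fact.out).mp
      (Nat.prime_two.dvd_of_dvd_pow (hn ▸ Nat.dvd_of_mod_eq_zero he))).symm
  · rw [hg, ← h, mul_comm 2] at hc
    exact (Nat.eq_of_mul_eq_mul_left Nat.card_pos hc).symm

/-- The data of a maximal subgroup of `PGL₂` not containing `PSL₂`. -/
structure Setup (M : Subgroup PGL) : Prop where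
  coatom : IsCoatom M
  index_two : (phi (F := F)).range.index = 2
  not_le : ¬ (phi (F := F)).range ≤ M

variable {M : Subgroup (Matrix.ProjGenLinGroup (Fin 2) F)}

theorem Setup.sup (h : Setup M) : ∃ g ∈ M, g ∉ (phi (F := F)).range := by
  by_contra hc
  push Not at hc
  rcases (show M ≤ (phi (F := F)).range from hc).eq_or_lt with e | e
  · exact h.not_le (e ▸ le_rfl)
  · have := h.index_two
    rw [h.coatom.2 _ e, Subgroup.index_top] at this
    omega

theorem Setup.mem_bar {g k : PGL} (h : Setup M) (hg : g ∈ M) (hgL : g ∉ (phi (F := F)).range) (hk : k ∈ M) :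
    k ∈ (M.comap phi).map phi ∨ g * k ∈ (M.comap phi).map phi := by
  by_cases hkL : k ∈ (phi (F := F)).range
  · obtain ⟨x, rfl⟩ := hkL
    exact Or.inl ⟨x, hk, rfl⟩
  · have : g * k ∈ (phi (F := F)).range := by
      rw [Subgroup.mul_mem_iff_of_index_two h.index_two]; simp [hgL, hkL]
    obtain ⟨x, hx⟩ := this
    exact Or.inr ⟨x, show phi x ∈ M by rw [hx]; exact M.mul_mem hg hk, hx⟩

theorem card_two (hi : (phi (F := F)).range.index = 2) (hM : ¬ M ≤ (phi (F := F)).range) :
    Nat.card M = 2 * Nat.card (M.comap phi) := by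
  obtain ⟨g, hg, hgL⟩ : ∃ g ∈ M, g ∉ (phi (F := F)).range := SetLike.not_le_iff_exists.mp hM
  have hidx : ((phi (F := F)).range.subgroupOf M).index = 2 := by
    rw [Subgroup.index_eq_two_iff]
    refine ⟨⟨g, hg⟩, fun b => ?_⟩
    by_cases hb : (b : PGL) ∈ (phi (F := F)).range
    · refine Or.inr ⟨Subgroup.mem_subgroupOf.mpr hb, fun h' => ?_⟩
      have := Subgroup.mem_subgroupOf.mp h'
      rw [Subgroup.coe_mul, Subgroup.mul_mem_iff_of_index_two hi] at this
      exact hgL (this.mp hb)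
    · refine Or.inl ⟨Subgroup.mem_subgroupOf.mpr ?_, fun h' => hb (Subgroup.mem_subgroupOf.mp h')⟩
      rw [Subgroup.coe_mul, Subgroup.mul_mem_iff_of_index_two hi]
      simp [hgL, hb]
  have hm := ((phi (F := F)).range.subgroupOf M).card_mul_index
  rw [hidx] at hm
  rw [← hm, mul_comm]
  congr 1
  refine (Nat.card_congr (Equiv.ofBijective
    (fun x : M.comap phi => (⟨⟨phi x.1, x.2⟩, Subgroup.mem_subgroupOf.mpr ⟨x.1, rfl⟩⟩ :
      (phi (F := F)).range.subgroupOf M)) ⟨fun a b e => ?_, ?_⟩)).symm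
  · exact Subtype.ext (phi_injective (congrArg (fun z : (phi (F := F)).range.subgroupOf M => ((z : M) : PGL)) e))
  · rintro ⟨⟨y, hy⟩, hy'⟩
    obtain ⟨x, hx⟩ := Subgroup.mem_subgroupOf.mp hy'
    exact ⟨⟨x, show phi x ∈ M by rw [hx]; exact hy⟩, Subtype.ext (Subtype.ext hx)⟩

theorem Setup.card (h : Setup M) : Nat.card M = 2 * Nat.card (M.comap phi) :=
  card_two h.index_two fun hle => by
    obtain ⟨g, hg, hgL⟩ := h.sup
    exact hgL (hle hg)

theorem Setup.stable (g : PGL) (hg : g ∈ M) : (M.comap phi).map (act g).toMonoidHom = M.comap phi := by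
  have key : ∀ g ∈ M, ∀ x ∈ M.comap phi, act g x ∈ M.comap phi := fun g hg x hx => by
    show phi (act g x) ∈ M
    rw [phi_act]
    exact M.mul_mem (M.mul_mem hg hx) (M.inv_mem hg)
  refine le_antisymm ?_ fun x hx => ⟨act g⁻¹ x, key _ (M.inv_mem hg) x hx, ?_⟩
  · rintro _ ⟨x, hx, rfl⟩
    exact key g hg x hx
  · show act g (act g⁻¹ x) = x
    rw [← MulAut.mul_apply, ← map_mul, mul_inv_cancel, map_one]; rfl

theorem Setup.bar_ne_top (h : Setup M) : M.comap phi ≠ ⊤ := fun e => h.not_le (by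
  rintro _ ⟨x, rfl⟩
  exact (show x ∈ M.comap phi by rw [e]; trivial))

theorem Setup.conj (h : Setup M) (g : PGL) : Setup (M.map (MulAut.conj g).toMonoidHom) := by
  refine ⟨?_, h.index_two, fun hle => h.not_le fun x hx => ?_⟩
  · rw [show M.map (MulAut.conj g).toMonoidHom = (MulAut.conj g).mapSubgroup M from rfl,
      OrderIso.isCoatom_iff]
    exact h.coatom
  · obtain ⟨y, hy, e⟩ := hle (range_normal.conj_mem x hx g)
    have : y = x := (MulAut.conj g).injective e
    exact this ▸ hy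

theorem comap_conj (g : PGL) :
    (M.map (MulAut.conj g).toMonoidHom).comap phi = (M.comap phi).map (act g).toMonoidHom := by
  ext x
  constructor
  · rintro ⟨y, hy, e⟩
    have e' : g * y * g⁻¹ = phi x := e
    refine ⟨act g⁻¹ x, ?_, ?_⟩
    · show phi (act g⁻¹ x) ∈ M
      rw [phi_act, inv_inv, ← e', show g⁻¹ * (g * y * g⁻¹) * g = y by group]
      exact hy
    · show act g (act g⁻¹ x) = x
      rw [← MulAut.mul_apply, ← map_mul, mul_inv_cancel, map_one]; rfl
  · rintro ⟨y, hy, rfl⟩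
    exact ⟨phi y, hy, (phi_act g y).symm⟩

/-- A maximal subgroup is the stabiliser of what it stabilises. -/
theorem Setup.eq_of_le (h : Setup M) {P : Subgroup PGL} (hle : M ≤ P) (hne : P ≠ ⊤) : M = P :=
  hle.eq_or_lt.resolve_right fun hlt => hne (h.coatom.2 _ hlt)

/-- The stabiliser of a subgroup of `PSL₂`. -/
def stab (B : Subgroup PSL) : Subgroup PGL :=
  (Subgroup.normalizer ((B.map phi : Subgroup PGL) : Set PGL))

theorem mem_stab {B : Subgroup PSL} {g : PGL} : g ∈ stab B ↔ ∀ x, x ∈ B ↔ act g x ∈ B := by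
  rw [stab, Subgroup.mem_normalizer_iff]
  constructor
  · intro h x
    have := h (phi x)
    rw [← phi_act] at this
    rw [Subgroup.mem_map_iff_mem phi_injective, Subgroup.mem_map_iff_mem phi_injective] at this
    exact this
  · intro h x
    constructor
    · rintro ⟨y, hy, rfl⟩
      exact ⟨act g y, (h y).mp hy, phi_act g y⟩
    · rintro ⟨y, hy, e⟩
      have hx : x = phi (act g⁻¹ y) := by rw [phi_act, e, inv_inv]; group
      refine ⟨act g⁻¹ y, (h _).mpr ?_, hx.symm⟩
      rw [← MulAut.mul_apply, ← map_mul, mul_inv_cancel, map_one]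
      exact hy

theorem stab_ne_top (h4 : 4 ≤ Fintype.card F) {B : Subgroup PSL} (hB : B ≠ ⊥) (hB' : B ≠ ⊤) : stab B ≠ ⊤ := by
  intro e
  haveI : IsSimpleGroup PSL := Matrix.ProjectiveSpecialLinearGroup.rank_two_simple (by rwa [Nat.card_eq_fintype_card])
  have hn : B.Normal := ⟨fun x hx c => by
    have := (mem_stab.mp (show phi c ∈ stab B by rw [e]; trivial) x).mp hx
    rwa [act_phi, MulAut.conj_apply] at this⟩
  exact hn.eq_bot_or_eq_top.elim hB hB'

/-- If `M` stabilises `B` then it is the stabiliser of `B`. -/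
theorem Setup.eq_stab (h : Setup M) (h4 : 4 ≤ Fintype.card F) {B : Subgroup PSL} (hB : B ≠ ⊥) (hB' : B ≠ ⊤)
    (hst : ∀ g ∈ M, ∀ x ∈ B, act g x ∈ B) : M = stab B := by
  refine h.eq_of_le (fun g hg => mem_stab.mpr fun x => ⟨hst g hg x, fun hx => ?_⟩) (stab_ne_top h4 hB hB')
  have := hst g⁻¹ (M.inv_mem hg) _ hx
  rwa [← MulAut.mul_apply, ← map_mul, inv_mul_cancel, map_one] at this

end Setup

end CfsgLib.PSL2Max
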