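import Mathlib
import Cfsg.Agent.Lib.DicksonFull.Subgroups
import Cfsg.Agent.Lib.PSL2Platonic
import Cfsg.Agent.Lib.SLCard

/-!
Overgroups of subgroups of `PSL₂(q)` that contain an `A₄`-pair.
-/

set_option autoImplicit false

namespace CfsgLib.PSL2Max

open CfsgLib.DicksonFull

/-- A pair satisfying the relations of the `(2,3,3)` presentation, with `b ≠ 1`. -/
structure IsPair {X : Type*} [Group X] (a b : X) : Prop where
  ha : a ^ 3 = 1
  hb : b ^ 2 = 1
  hab : (a * b) ^ 3 = 1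
  ne : b ≠ 1

theorem IsPair.map {X Y : Type*} [Group X] [Group Y] {a b : X} (h : IsPair a b) (f : X →* Y)
    (hb : f b ≠ 1) : IsPair (f a) (f b) :=
  ⟨by rw [← map_pow, h.ha, map_one], by rw [← map_pow, h.hb, map_one],
    by rw [← map_mul, ← map_pow, h.hab, map_one], hb⟩

theorem IsPair.map_inj {X Y : Type*} [Group X] [Group Y] {a b : X} (h : IsPair a b) (f : X →* Y)
    (hf : Function.Injective f) : IsPair (f a) (f b) :=
  h.map f fun e => h.ne (hf (by rw [e, map_one]))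

theorem IsPair.not_commute {X : Type*} [Group X] {a b : X} (h : IsPair a b) : ¬ Commute a b := fun hc => by
  have := h.hab
  rw [hc.mul_pow, h.ha, one_mul, pow_succ, h.hb, one_mul] at this
  exact h.ne this

theorem no_pair_dihedral (k : ℕ) (a b : DihedralGroup k) : ¬ IsPair a b := by
  intro h
  have hs : ∀ i : ZMod k, (DihedralGroup.sr i) ^ 3 = DihedralGroup.sr i := fun i => by
    simp [pow_succ]
  obtain i | i := a
  · obtain j | j := b
    · exact h.not_commute (by simp [Commute, SemiconjBy, add_comm])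
    · have := h.hab
      rw [DihedralGroup.r_mul_sr, hs] at this
      cases this
  · have := h.ha
    rw [hs] at this
    cases this

theorem exists_pair_a4 : ∃ a b : alternatingGroup (Fin 4),
    a ^ 3 = 1 ∧ b ^ 2 = 1 ∧ (a * b) ^ 3 = 1 ∧ b ≠ 1 := by decide +kernel

theorem pair_a4 : ∃ a b : alternatingGroup (Fin 4), IsPair a b := by
  obtain ⟨a, b, h1, h2, h3, h4⟩ := exists_pair_a4
  exact ⟨a, b, ⟨h1, h2, h3, h4⟩⟩

theorem pair_s4 : ∃ a b : Equiv.Perm (Fin 4), IsPair a b := by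
  obtain ⟨a, b, h⟩ := pair_a4
  exact ⟨_, _, h.map_inj (alternatingGroup (Fin 4)).subtype Subtype.val_injective⟩

set_option maxRecDepth 8000 in
theorem exists_pair_a5 : ∃ a b : alternatingGroup (Fin 5),
    a ^ 3 = 1 ∧ b ^ 2 = 1 ∧ (a * b) ^ 3 = 1 ∧ b ≠ 1 := by decide +kernel

theorem pair_a5 : ∃ a b : alternatingGroup (Fin 5), IsPair a b := by
  obtain ⟨a, b, h1, h2, h3, h4⟩ := exists_pair_a5
  exact ⟨a, b, ⟨h1, h2, h3, h4⟩⟩

theorem card_a4 : Nat.card (alternatingGroup (Fin 4)) = 12 := by rw [Nat.card_eq_fintype_card]; rfl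

theorem card_s4 : Nat.card (Equiv.Perm (Fin 4)) = 24 := by
  rw [Nat.card_perm, Nat.card_eq_fintype_card, Fintype.card_fin]; rfl

theorem card_a5 : Nat.card (alternatingGroup (Fin 5)) = 60 := by rw [Nat.card_eq_fintype_card]; rfl

theorem pair_of_iso {X Y : Type*} [Group X] [Group Y] (K : Subgroup X) (e : K ≃* Y)
    (h : ∃ a b : Y, IsPair a b) : ∃ a ∈ K, ∃ b ∈ K, IsPair a b := by
  obtain ⟨a, b, hab⟩ := h
  exact ⟨_, (e.symm a).2, _, (e.symm b).2,
    hab.map_inj (K.subtype.comp e.symm.toMonoidHom) (K.subtype_injective.comp e.symm.injective)⟩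

/-- `PGL₂(K)` has a pair. -/
theorem pgl_pair {X : Type*} [Group X] {K : Type*} [Field K] [Fintype K] (h2 : (2 : K) ≠ 0)
    (H : Subgroup X) (e : H ≃* Matrix.ProjGenLinGroup (Fin 2) K) : ∃ a ∈ H, ∃ b ∈ H, IsPair a b := by
  refine pair_of_iso H e ?_
  obtain ⟨A, ⟨eA⟩⟩ := PSL2Platonic.exists_A4 (F := K) h2
  obtain ⟨a, -, b, -, hab⟩ := pair_of_iso A eA pair_a4
  let f : Matrix.SpecialLinearGroup (Fin 2) K →* Matrix.ProjGenLinGroup (Fin 2) K :=
    Matrix.ProjGenLinGroup.mk.comp Matrix.SpecialLinearGroup.toGL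
  have hker : f.ker = Subgroup.center _ := by
    ext g
    constructor
    · intro hg
      have h1 : Matrix.SpecialLinearGroup.toGL g ∈ Subgroup.center (GL (Fin 2) K) :=
        (QuotientGroup.eq_one_iff _).mp hg
      rw [Subgroup.mem_center_iff] at h1 ⊢
      intro x
      have := h1 (Matrix.SpecialLinearGroup.toGL x)
      rw [← map_mul, ← map_mul] at this
      exact Matrix.SpecialLinearGroup.toGL_injective this
    · intro hg
      refine (QuotientGroup.eq_one_iff _).mpr ?_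
      obtain ⟨r, hr, hA⟩ := Matrix.SpecialLinearGroup.mem_center_iff.mp hg
      rw [Subgroup.mem_center_iff]
      intro x
      refine Units.ext ?_
      show x.1 * g.1 = g.1 * x.1
      rw [← hA, Matrix.scalar_commute r (fun s => Commute.all _ _) x.1]
  exact ⟨_, _, hab.map_inj (QuotientGroup.lift _ f hker.ge)
    ((QuotientGroup.injective_lift_iff _ _ _).mpr hker.symm)⟩

variable {F : Type*} [Field F] [Fintype F] (p : ℕ) [Fact p.Prime] [CharP F p]

local notation "SL" => Matrix.SpecialLinearGroup (Fin 2) F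
local notation "PSL" => Matrix.ProjectiveSpecialLinearGroup (Fin 2) F
local notation "q" => Fintype.card F

theorem no_pair_bor (hp2 : p ≠ 2) {u : PSL} (hu : orderOf u = p) {a b : PSL} (ha : a ∈ bor u)
    (hb : b ∈ bor u) : ¬ IsPair a b := by
  intro h
  have hA := psl (F := F) p
  set N := (cent u).subgroupOf (bor u) with hN
  haveI : N.Normal := (Subgroup.normal_subgroupOf_iff_le_normalizer (cent_le_bor (psl p) u)).mpr le_rfl
  have hcomm : ∀ x y : bor u, x * y * x⁻¹ * y⁻¹ ∈ N := fun x y =>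
    Subgroup.mem_subgroupOf.mpr (mem_cent.mpr ((psl (F := F) p).borel_comm u x y hu
      ((mem_bor (psl p) hu).mp x.2) ((mem_bor (psl p) hu).mp y.2)))
  let f := QuotientGroup.mk' N
  have hc : Commute (f ⟨a, ha⟩) (f ⟨b, hb⟩) := by
    have := (QuotientGroup.eq_one_iff (N := N) _).mpr (hcomm ⟨a, ha⟩ ⟨b, hb⟩)
    show f ⟨a, ha⟩ * f ⟨b, hb⟩ = f ⟨b, hb⟩ * f ⟨a, ha⟩
    have h' : f ⟨a, ha⟩ * f ⟨b, hb⟩ * (f ⟨a, ha⟩)⁻¹ * (f ⟨b, hb⟩)⁻¹ = 1 := by
      rw [← map_inv, ← map_inv, ← map_mul, ← map_mul, ← map_mul]; exact this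
    rwa [mul_inv_eq_one, mul_inv_eq_iff_eq_mul] at h'
  have hp : IsPair (⟨a, ha⟩ : bor u) ⟨b, hb⟩ :=
    ⟨Subtype.ext h.ha, Subtype.ext h.hb, Subtype.ext h.hab, fun e => h.ne (congrArg Subtype.val e)⟩
  by_cases hfb : f ⟨b, hb⟩ = 1
  · have hbN : b ∈ cent u := Subgroup.mem_subgroupOf.mp ((QuotientGroup.eq_one_iff _).mp hfb)
    have h1 := ((psl (F := F) p).u_cen u b _ hu (mem_cent.mp hbN) (Commute.refl u)).2
    have h2 := orderOf_dvd_of_pow_eq_one h1
    have h3 := orderOf_dvd_of_pow_eq_one h.hb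
    have hcop : Nat.Coprime 2 p :=
      (Nat.coprime_primes Nat.prime_two Fact.out).mpr (Ne.symm hp2)
    exact h.ne (orderOf_eq_one_iff.mp (Nat.eq_one_of_dvd_coprimes hcop h3 h2))
  · exact (hp.map f hfb).not_commute hc

/-- The proper overgroups of a subgroup with a pair are polyhedral or of subfield type. -/
theorem over_cases (hp2 : p ≠ 2) {H K : Subgroup PSL} (hHK : H ≤ K) (hK : K ≠ ⊤)
    (hpair : ∃ a ∈ H, ∃ b ∈ H, IsPair a b) :
    Nat.card K = 12 ∨ Nat.card K = 24 ∨ Nat.card K = 60 ∨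
      ∃ Q m : ℕ, 3 ≤ Q ∧ 2 ≤ m ∧ Q ^ m = q ∧
        (2 * Nat.card K = Q * (Q ^ 2 - 1) ∨ Nat.card K = Q * (Q ^ 2 - 1)) := by
  obtain ⟨a, ha, b, hb, hab⟩ := hpair
  rcases proper_cases p hK with ⟨k, -, h⟩ | ⟨⟨e⟩⟩ | ⟨⟨e⟩⟩ | ⟨⟨e⟩⟩ | ⟨u, hu, hub⟩ |
    ⟨Q, m, L, _, _, hL, hQ, hm, hQm, -, -, hiso⟩
  · exfalso
    have hp : IsPair (⟨a, hHK ha⟩ : K) ⟨b, hHK hb⟩ :=
      ⟨Subtype.ext hab.ha, Subtype.ext hab.hb, Subtype.ext hab.hab,
        fun e => hab.ne (congrArg Subtype.val e)⟩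
    rcases h with ⟨hc, -⟩ | ⟨⟨e⟩⟩
    · exact hp.not_commute ((IsCyclic.commGroup (α := K)).mul_comm _ _)
    · exact no_pair_dihedral k _ _ (hp.map_inj e.toMonoidHom e.injective)
  · exact Or.inl (by rw [Nat.card_congr e.toEquiv, card_a4])
  · exact Or.inr (Or.inl (by rw [Nat.card_congr e.toEquiv, card_s4]))
  · exact Or.inr (Or.inr (Or.inl (by rw [Nat.card_congr e.toEquiv, card_a5])))
  · exact absurd hab (no_pair_bor p hp2 hu (hub (hHK ha)) (hub (hHK hb)))
  · refine Or.inr (Or.inr (Or.inr ⟨Q, m, hQ, hm, hQm, ?_⟩))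
    rcases hiso with ⟨⟨e⟩⟩ | ⟨⟨e⟩⟩
    · left
      have h := card_psl (F := L)
      rw [hL] at h
      have hodd : Q % 2 = 1 := by
        by_contra h0
        have hq2 : 2 ∣ q := hQm ▸ dvd_pow (Nat.dvd_of_mod_eq_zero (by omega)) (by omega)
        obtain ⟨n, -, hn⟩ := FiniteField.card F p
        exact hp2 ((Nat.prime_dvd_prime_iff_eq Nat.prime_two Fact.out).mp
          (Nat.prime_two.dvd_of_dvd_pow (hn ▸ hq2))).symm
      rw [Nat.gcd_eq_left (show 2 ∣ Q - 1 by omega)] at h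
      rw [Nat.card_congr e.toEquiv, h]
    · right
      rw [Nat.card_congr e.toEquiv, SLCard.card_PGL, SLCard.card_SL_two, hL]

/-- A coatom criterion. -/
theorem coatom_of {H : Subgroup PSL} (hH : H ≠ ⊤)
    (h : ∀ K : Subgroup PSL, H ≤ K → K ≠ ⊤ → Nat.card K ≤ Nat.card H) : IsCoatom H :=
  ⟨hH, fun K hK => by
    by_contra hT
    exact hK.ne (Subgroup.eq_of_le_of_card_ge hK.le (h K hK.le hT))⟩

theorem two_card (hp2 : p ≠ 2) : 2 * Nat.card PSL = q * (q ^ 2 - 1) := by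
  have h := card_psl (F := F)
  rcases gcd_cases (F := F) p with ⟨-, he⟩ | ⟨hg, -⟩
  · exfalso
    obtain ⟨n, -, hn⟩ := FiniteField.card F p
    exact hp2 ((Nat.prime_dvd_prime_iff_eq Nat.prime_two Fact.out).mp
      (Nat.prime_two.dvd_of_dvd_pow (hn ▸ Nat.dvd_of_mod_eq_zero he))).symm
  · rwa [hg] at h

end CfsgLib.PSL2Max
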