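import Mathlib
import Cfsg.Agent.Lib.PSL2Max.Scaled
import Cfsg.Agent.Lib.PSL2Klein

/-!
`PSL₂` and `PGL₂` of a subfield inside `scaled S`.
-/

set_option autoImplicit false

namespace CfsgLib.PSL2Max

variable {F K : Type*} [Field F] [Fintype F] [Field K] [Fintype K]

omit [Fintype K] in
/-- `PSL₂` of the smaller field. -/
theorem exists_psl (φ : K →+* F) (S : Subfield F) (hφS : ∀ x, φ x ∈ S) :
    ∃ R : Subgroup (Matrix.ProjectiveSpecialLinearGroup (Fin 2) F),
      Nonempty (R ≃* Matrix.ProjectiveSpecialLinearGroup (Fin 2) K) ∧ R ≤ scaled S := by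
  have hφ : Function.Injective (Matrix.SpecialLinearGroup.map (n := Fin 2) φ) := fun A B e => by
    refine Subtype.ext (Matrix.ext fun i j => φ.injective ?_)
    exact congrFun (congrFun (congrArg Subtype.val e) i) j
  let f : Matrix.SpecialLinearGroup (Fin 2) K →* Matrix.ProjectiveSpecialLinearGroup (Fin 2) F :=
    CfsgLib.PSL2.mk.comp (Matrix.SpecialLinearGroup.map φ)
  have hker : f.ker = Subgroup.center _ := by
    ext A
    rw [MonoidHom.mem_ker]
    constructor
    · intro h
      have h' : CfsgLib.PSL2.mk (Matrix.SpecialLinearGroup.map φ A) = CfsgLib.PSL2.mk 1 := by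
        rw [map_one]; exact h
      have hA : A = 1 ∨ A = -1 := by
        rcases CfsgLib.PSL2Klein.mk_eq_iff.mp h' with e | e
        · exact Or.inl (hφ (e.symm.trans (map_one _).symm))
        · refine Or.inr (hφ ?_)
          have e' : Matrix.SpecialLinearGroup.map φ A = -1 := by rw [e, neg_neg]
          rw [e']
          refine Subtype.ext (Matrix.ext fun i j => ?_)
          show (-1 : Matrix (Fin 2) (Fin 2) F) i j = φ ((-1 : Matrix (Fin 2) (Fin 2) K) i j)
          by_cases hij : i = j <;> simp [hij]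
      rw [Subgroup.mem_center_iff]
      rcases hA with rfl | rfl <;> intro g <;> simp
    · intro h
      obtain ⟨r, hr, hA⟩ := Matrix.SpecialLinearGroup.mem_center_iff.mp h
      rw [Fintype.card_fin, sq_eq_one_iff] at hr
      show CfsgLib.PSL2.mk (Matrix.SpecialLinearGroup.map φ A) = 1
      rw [← map_one (CfsgLib.PSL2.mk : _ →* Matrix.ProjectiveSpecialLinearGroup (Fin 2) F), CfsgLib.PSL2.mk_eq_mk]
      have hval : (Matrix.SpecialLinearGroup.map φ A).1 = A.1.map φ := rfl
      rw [hval, ← hA]
      rcases hr with rfl | rfl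
      · left; simp
      · right
        show (1 : Matrix (Fin 2) (Fin 2) F) = _
        ext i j
        by_cases hij : i = j <;> simp [hij, Matrix.one_apply]
  let g := QuotientGroup.lift (Subgroup.center (Matrix.SpecialLinearGroup (Fin 2) K)) f hker.ge
  have hg : Function.Injective g := (QuotientGroup.injective_lift_iff _ _ _).mpr hker.symm
  refine ⟨g.range, ⟨(MonoidHom.ofInjective hg).symm⟩, ?_⟩
  rintro _ ⟨x, rfl⟩
  induction x using QuotientGroup.induction_on with | H A =>
  show CfsgLib.PSL2.mk (Matrix.SpecialLinearGroup.map φ A) ∈ scaled S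
  exact mem_scaled one_ne_zero fun i j => by rw [one_mul]; exact hφS _

omit [Fintype K] in
/-- `PGL₂` of the smaller field, when its elements are squares. -/
theorem exists_pgl (φ : K →+* F) (S : Subfield F) (hφS : ∀ x, φ x ∈ S) (hsq : ∀ x, IsSquare (φ x)) :
    ∃ R : Subgroup (Matrix.ProjectiveSpecialLinearGroup (Fin 2) F),
      Nonempty (R ≃* Matrix.ProjGenLinGroup (Fin 2) K) ∧ R ≤ scaled S := by
  classical
  choose s hs using fun g : GL (Fin 2) K => hsq (g.1.det)
  have hs0 : ∀ g, s g ≠ 0 := fun g e => by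
    have := hs g
    rw [e, mul_zero, map_eq_zero] at this
    exact (Matrix.GeneralLinearGroup.det g).ne_zero this
  let lift : GL (Fin 2) K → Matrix.SpecialLinearGroup (Fin 2) F := fun g =>
    ⟨(s g)⁻¹ • g.1.map φ, by
      rw [Matrix.det_smul, Fintype.card_fin, ← RingHom.mapMatrix_apply, ← RingHom.map_det, hs g, pow_two]
      field_simp [hs0 g]⟩
  let f : GL (Fin 2) K →* Matrix.ProjectiveSpecialLinearGroup (Fin 2) F := MonoidHom.mk'
    (fun g => CfsgLib.PSL2.mk (lift g)) fun g k => by
      rw [← map_mul, CfsgLib.PSL2.mk_eq_mk]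
      have e : s (g * k) = s g * s k ∨ s (g * k) = -(s g * s k) := by
        rw [← mul_self_eq_mul_self_iff, ← hs (g * k), Units.val_mul, Matrix.det_mul, map_mul, hs g, hs k]
        ring
      show (s g)⁻¹ • g.1.map φ * ((s k)⁻¹ • k.1.map φ) = (s (g * k))⁻¹ • (g * k).1.map φ ∨
        (s g)⁻¹ • g.1.map φ * ((s k)⁻¹ • k.1.map φ) = -((s (g * k))⁻¹ • (g * k).1.map φ)
      rw [Units.val_mul, Matrix.map_mul, smul_mul_smul_comm, ← mul_inv]
      rcases e with e | e <;> rw [e]
      · exact Or.inl rfl
      · right; rw [inv_neg, neg_smul, neg_neg]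
  have hker : f.ker = Subgroup.center _ := by
    ext g
    rw [MonoidHom.mem_ker, Matrix.GeneralLinearGroup.center_eq_range_scalar, MonoidHom.mem_range]
    show CfsgLib.PSL2.mk (lift g) = 1 ↔ _
    rw [← map_one (CfsgLib.PSL2.mk : _ →* Matrix.ProjectiveSpecialLinearGroup (Fin 2) F), CfsgLib.PSL2.mk_eq_mk]
    constructor
    · intro h
      have h00 : g.1 0 1 = 0 ∧ g.1 1 0 = 0 ∧ g.1 0 0 = g.1 1 1 := by
        have key : ∀ i j, (1 : Matrix (Fin 2) (Fin 2) F) i j = (s g)⁻¹ * φ (g.1 i j) ∨ (1 : Matrix (Fin 2) (Fin 2) F) i j = -((s g)⁻¹ * φ (g.1 i j)) :=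
          fun i j => h.imp (fun e => congrFun (congrFun e i) j) (fun e => congrFun (congrFun e i) j)
        have z : ∀ i j, i ≠ j → g.1 i j = 0 := fun i j hij => by
          rcases key i j with e | e <;> simpa [hij, hs0 g] using e
        refine ⟨z 0 1 (by decide), z 1 0 (by decide), φ.injective ?_⟩
        rcases h with e | e <;>
          exact mul_left_cancel₀ (inv_ne_zero (hs0 g)) (by
            have e0 := congrFun (congrFun e 0) 0
            have e1 := congrFun (congrFun e 1) 1
            simp [lift] at e0 e1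
            first | linear_combination e1 - e0 | linear_combination e0 - e1)
      refine ⟨Units.mk0 (g.1 0 0) fun e => (Matrix.GeneralLinearGroup.det g).ne_zero (by
        show g.1.det = 0
        rw [Matrix.det_fin_two, e, h00.1]; ring), Units.ext ?_⟩
      ext i j
      fin_cases i <;> fin_cases j <;> simp [h00.1, h00.2.1, h00.2.2]
    · rintro ⟨u, rfl⟩
      have h1 := hs (Matrix.GeneralLinearGroup.scalar (Fin 2) u)
      simp [Matrix.det_fin_two] at h1
      rw [pow_two, mul_self_eq_mul_self_iff] at h1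
      rcases h1 with e | e
      · left
        ext i j
        fin_cases i <;> fin_cases j <;> simp [lift, ← e, u.ne_zero]
      · right
        ext i j
        have e' : s (Matrix.GeneralLinearGroup.scalar (Fin 2) u) = -φ (u : K) := by rw [e, neg_neg]
        fin_cases i <;> fin_cases j <;> simp [lift, e', u.ne_zero]
  let g := QuotientGroup.lift (Subgroup.center (GL (Fin 2) K)) f hker.ge
  have hg : Function.Injective g := (QuotientGroup.injective_lift_iff _ _ _).mpr hker.symm
  refine ⟨g.range, ⟨(MonoidHom.ofInjective hg).symm⟩, ?_⟩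
  rintro _ ⟨x, rfl⟩
  induction x using QuotientGroup.induction_on with | H A =>
  show CfsgLib.PSL2.mk (lift A) ∈ scaled S
  refine mem_scaled (hs0 A) fun i j => ?_
  show s A * ((s A)⁻¹ * φ (A.1 i j)) ∈ S
  rw [mul_inv_cancel_left₀ (hs0 A)]
  exact hφS _

end CfsgLib.PSL2Max
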