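import Mathlib
import Cfsg.Agent.Lib.PSL2Max.Scaled
import Cfsg.Agent.Lib.PSL2Klein

/-!
Subgroups of `PSL₂(q)`, `q` odd, containing a Klein four group are conjugate into `scaled S` when
suitable traces lie in `S`.
-/

set_option autoImplicit false

namespace CfsgLib.PSL2Max

open Matrix CfsgLib.DicksonFull
open CfsgLib.PSL2 (mk diagAut conjSL)

variable {F : Type*} [Field F] [Fintype F]

local notation "M2" => Matrix (Fin 2) (Fin 2) F
local notation "SL" => Matrix.SpecialLinearGroup (Fin 2) F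
local notation "PSL" => Matrix.ProjectiveSpecialLinearGroup (Fin 2) F

omit [Fintype F] in
theorem trace_pm {L : SL} (h : mk L = 1) : L.1.trace = 2 ∨ L.1.trace = -2 := by
  rcases mk_eq_one h with rfl | rfl
  · left
    rw [Matrix.SpecialLinearGroup.coe_one, Matrix.trace_one, Fintype.card_fin]; norm_num
  · right
    rw [Matrix.SpecialLinearGroup.coe_neg, Matrix.trace_neg, Matrix.SpecialLinearGroup.coe_one,
      Matrix.trace_one, Fintype.card_fin]; norm_num

omit [Fintype F] in
theorem coeff_eq_zero {L : SL} (hL : mk L ≠ 1) {n : ℕ} (hn : mk L ^ n = 1) {a b : F}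
    (h : (L ^ n).1 = a • L.1 + b • (1 : M2)) : a = 0 := by
  by_contra ha
  rw [← map_pow] at hn
  obtain ⟨e, he⟩ : ∃ e : F, (L ^ n).1 = e • (1 : M2) := by
    rcases mk_eq_one hn with h' | h' <;> rw [h']
    · exact ⟨1, by simp⟩
    · exact ⟨-1, by simp⟩
  refine not_scalar_of_ne_one hL (a⁻¹ * (e - b)) ?_
  have h1 : a • L.1 = (e - b) • (1 : M2) := by rw [sub_smul, ← he, h, add_sub_cancel_right]
  rw [← smul_smul, ← h1, smul_smul, inv_mul_cancel₀ ha, one_smul]

theorem trace_of_pow {L : SL} (hL : mk L ≠ 1) :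
    (mk L ^ 2 = 1 → L.1.trace = 0) ∧ (mk L ^ 3 = 1 → L.1.trace ^ 2 = 1) ∧
    (mk L ^ 4 = 1 → L.1.trace = 0 ∨ L.1.trace ^ 2 = 2) ∧
    (mk L ^ 5 = 1 → (2 * L.1.trace ^ 2 - 3) ^ 2 = 5) := by
  set t := L.1.trace with ht
  have h2 : (L ^ 2).1 = t • L.1 + (-1 : F) • (1 : M2) := by
    rw [Matrix.SpecialLinearGroup.coe_pow, pow_two, PSL2Product.sq_eq, neg_one_smul, ← sub_eq_add_neg]
  have hs : L.1 * L.1 = t • L.1 - 1 := PSL2Product.sq_eq L
  have step : ∀ (n : ℕ) (a b : F), (L ^ n).1 = a • L.1 + b • (1 : M2) →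
      (L ^ (n + 1)).1 = (a * t + b) • L.1 + (-a) • (1 : M2) := by
    intro n a b h
    rw [pow_succ, Matrix.SpecialLinearGroup.coe_mul, h, add_mul, smul_mul_assoc, hs, smul_mul_assoc,
      one_mul, smul_sub, smul_smul]
    module
  have h3 := step _ _ _ h2
  have h4 := step _ _ _ h3
  have h5 := step _ _ _ h4
  refine ⟨fun h => coeff_eq_zero hL h h2, fun h => ?_, fun h => ?_, fun h => ?_⟩
  · linear_combination coeff_eq_zero hL h h3
  · have h' := coeff_eq_zero hL h h4
    have : t * (t ^ 2 - 2) = 0 := by linear_combination h'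
    rcases mul_eq_zero.mp this with e | e
    · exact Or.inl e
    · exact Or.inr (sub_eq_zero.mp e)
  · linear_combination 4 * coeff_eq_zero hL h h5

omit [Fintype F] in
theorem parallel {a b x0 x1 y0 y1 : F} (hab : a ≠ 0 ∨ b ≠ 0) (hx : x0 ≠ 0 ∨ x1 ≠ 0)
    (h1 : a * x0 + b * x1 = 0) (h2 : a * y0 + b * y1 = 0) : ∃ c, y0 = c * x0 ∧ y1 = c * x1 := by
  have hcross : x0 * y1 = x1 * y0 := by
    rcases hab with h | h
    · exact mul_left_cancel₀ h (by linear_combination y1 * h1 - x1 * h2)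
    · exact mul_left_cancel₀ h (by linear_combination x0 * h2 - y0 * h1)
  rcases hx with h | h
  · exact ⟨y0 / x0, by field_simp, by field_simp; linear_combination hcross⟩
  · exact ⟨y1 / x1, by field_simp; linear_combination -hcross, by field_simp⟩

omit [Fintype F] in
/-- Two pairs of anticommuting square roots of `-1` are conjugate. -/
theorem exists_intertwiner (h2 : (2 : F) ≠ 0) {A K A' K' : M2} (hA : A * A = -1) (hK : K * K = -1)
    (hKA : K * A = -(A * K)) (hA' : A' * A' = -1) (hK' : K' * K' = -1) (hKA' : K' * A' = -(A' * K'))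
    (htA : A.trace = 0) (htK : K.trace = 0) (htAK : (A * K).trace = 0) :
    ∃ g : M2, g.det ≠ 0 ∧ g * A = A' * g ∧ g * K = K' * g := by
  set G : M2 → M2 := fun X => X - A' * X * A - K' * X * K - A' * K' * X * (A * K) with hG
  have hgA : ∀ X, G X * A = A' * G X := by
    intro X
    have e1 : A * K * A = K := by rw [mul_assoc, hKA, mul_neg, ← mul_assoc, hA]; simp
    have e2 : A' * X * A * A = -(A' * X) := by rw [mul_assoc _ A A, hA]; simp
    have e3 : K' * X * K * A = -(K' * X * (A * K)) := by rw [mul_assoc _ K A, hKA]; simp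
    have e4 : A' * K' * X * (A * K) * A = A' * K' * X * K := by rw [mul_assoc _ (A * K) A, e1]
    have f2 : A' * (A' * X * A) = -(X * A) := by simp [← mul_assoc, hA']
    have f4 : A' * (A' * K' * X * (A * K)) = -(K' * X * (A * K)) := by simp [← mul_assoc, hA']
    have f3 : A' * (K' * X * K) = A' * K' * X * K := by simp [← mul_assoc]
    simp only [hG, sub_mul, mul_sub]
    rw [e2, e3, e4, f2, f3, f4]
    abel
  have hgK : ∀ X, G X * K = K' * G X := by
    intro X
    have e2 : A' * X * A * K = A' * X * (A * K) := by rw [mul_assoc _ A K]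
    have e3 : K' * X * K * K = -(K' * X) := by rw [mul_assoc _ K K, hK]; simp
    have e4 : A' * K' * X * (A * K) * K = -(A' * K' * X * A) := by
      rw [mul_assoc _ (A * K) K, mul_assoc A K K, hK]; simp
    have f2 : K' * (A' * X * A) = -(A' * K' * X * A) := by rw [← mul_assoc, ← mul_assoc, hKA']; simp
    have f3 : K' * (K' * X * K) = -(X * K) := by simp [← mul_assoc, hK']
    have f4 : K' * (A' * K' * X * (A * K)) = A' * X * (A * K) := by
      simp only [← mul_assoc]
      rw [hKA', neg_mul, mul_assoc A' K' K', hK']; simp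
    simp only [hG, sub_mul, mul_sub]
    rw [e2, e3, e4, f2, f3, f4]
    abel
  have hex : ∃ X, G X ≠ 0 := by
    by_contra hall
    push Not at hall
    have a := congrFun (congrFun (hall (Matrix.single 0 0 1)) 0) 0
    have b := congrFun (congrFun (hall (Matrix.single 0 1 1)) 0) 1
    simp [hG, Matrix.sub_apply, Matrix.mul_apply, Fin.sum_univ_two, Matrix.single] at a b
    rw [Matrix.trace_fin_two] at htA htK htAK
    simp [Matrix.mul_apply, Fin.sum_univ_two] at htAK
    refine h2 ?_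
    linear_combination a + b + A' 0 0 * htA + K' 0 0 * htK +
      (A' 0 0 * K' 0 0 + A' 0 1 * K' 1 0) * htAK
  obtain ⟨X, hX⟩ := hex
  refine ⟨G X, fun hdet => ?_, hgA X, hgK X⟩
  obtain ⟨v, hv, hgv⟩ := Matrix.exists_mulVec_eq_zero_iff.mpr hdet
  set g := G X
  obtain ⟨i, hi⟩ : ∃ i, g i 0 ≠ 0 ∨ g i 1 ≠ 0 := by
    by_contra h
    push Not at h
    exact hX (Matrix.ext fun i j => by fin_cases j; exacts [(h i).1, (h i).2])
  have hv' : v 0 ≠ 0 ∨ v 1 ≠ 0 := by
    by_contra h
    push Not at h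
    exact hv (funext fun j => by fin_cases j; exacts [h.1, h.2])
  have key : ∀ B B' : M2, g * B = B' * g → ∃ c : F, B *ᵥ v = c • v := by
    intro B B' hB
    have h0 : g *ᵥ (B *ᵥ v) = 0 := by
      rw [Matrix.mulVec_mulVec, hB, ← Matrix.mulVec_mulVec, hgv, Matrix.mulVec_zero]
    have h1 := congrFun hgv i
    have h3 := congrFun h0 i
    simp [Matrix.mulVec, dotProduct, Fin.sum_univ_two] at h1 h3
    obtain ⟨c, c0, c1⟩ := parallel (y0 := (B *ᵥ v) 0) (y1 := (B *ᵥ v) 1) hi hv' h1 (by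
      simp [Matrix.mulVec, dotProduct, Fin.sum_univ_two]
      linear_combination h3)
    exact ⟨c, funext fun j => by fin_cases j; exacts [c0, c1]⟩
  obtain ⟨a, ha⟩ := key A A' (hgA X)
  obtain ⟨b, hb⟩ := key K K' (hgK X)
  have e1 : (A * A) *ᵥ v = (a * a) • v := by
    rw [← Matrix.mulVec_mulVec, ha, Matrix.mulVec_smul, ha, smul_smul]
  have e2 : (K * A) *ᵥ v = (a * b) • v := by
    rw [← Matrix.mulVec_mulVec, ha, Matrix.mulVec_smul, hb, smul_smul]
  have e3 : (A * K) *ᵥ v = (b * a) • v := by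
    rw [← Matrix.mulVec_mulVec, hb, Matrix.mulVec_smul, ha, smul_smul]
  have e4 : (K * K) *ᵥ v = (b * b) • v := by
    rw [← Matrix.mulVec_mulVec, hb, Matrix.mulVec_smul, hb, smul_smul]
  rw [hA, Matrix.neg_mulVec, Matrix.one_mulVec] at e1
  rw [hK, Matrix.neg_mulVec, Matrix.one_mulVec] at e4
  rw [hKA, Matrix.neg_mulVec, e3] at e2
  obtain ⟨j, hj⟩ : ∃ j, v j ≠ 0 := by
    rcases hv' with h | h
    exacts [⟨0, h⟩, ⟨1, h⟩]
  have f1 := congrFun e1 j
  have f2 := congrFun e2 j
  have f4 := congrFun e4 j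
  simp only [Pi.neg_apply, Pi.smul_apply, smul_eq_mul] at f1 f2 f4
  have g1 : a * a = -1 := mul_right_cancel₀ hj (by linear_combination -f1)
  have g4 : b * b = -1 := mul_right_cancel₀ hj (by linear_combination -f4)
  have g2 : (2 : F) * (a * b) = 0 := mul_right_cancel₀ hj (by rw [zero_mul]; linear_combination -f2)
  rcases mul_eq_zero.mp g2 with h | h
  · exact h2 h
  · have : (a * b) * (a * b) = 1 := by linear_combination (b * b) * g1 - g4
    rw [h, mul_zero] at this
    exact zero_ne_one this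

variable (p : ℕ) [Fact p.Prime] [CharP F p]

include p in
/-- The standardisation of a subgroup containing a Klein four group. -/
theorem std (h2 : (2 : F) ≠ 0) {M : Subgroup PSL} {x y : PSL} (hx : x ∈ M) (hy : y ∈ M) (hx1 : x ≠ 1)
    (hy1 : y ≠ 1) (hxy : x ≠ y) (hx2 : x ^ 2 = 1) (hy2 : y ^ 2 = 1) (hc : Commute x y)
    (S : Subfield F) (hscal : ∀ g ∈ M, ∃ c : F, c ≠ 0 ∧ ∀ L : SL,
      mk L = g ∨ mk L = g * x ∨ mk L = g * y ∨ mk L = g * (x * y) → c * L.1.trace ∈ S) :
    ∃ N : GL (Fin 2) F, M.map (diagAut N).toMonoidHom ≤ scaled S := by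
  classical
  obtain ⟨A, rfl⟩ := mk_surj x
  obtain ⟨K, rfl⟩ := mk_surj y
  have hA0 := (PSL2Klein.invol_iff h2).mp ⟨hx1, by rw [← pow_two]; exact hx2⟩
  have hK0 := (PSL2Klein.invol_iff h2).mp ⟨hy1, by rw [← pow_two]; exact hy2⟩
  have hanti : K * A = -(A * K) := by
    rcases eq_or_neg (show mk (A * K) = mk (K * A) by rw [map_mul, map_mul]; exact hc) with e | e
    · exfalso
      rcases PSL2Klein.eq_or_eq_neg h2 hA0 hK0 e with rfl | rfl
      · exact hxy rfl
      · exact hxy (mk_neg A).symm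
    · exact e
  have hAK0 : (A * K).1.trace = 0 := by
    have h := congrArg (fun z : SL => z.1.trace) hanti
    simp only [Matrix.SpecialLinearGroup.coe_mul, Matrix.SpecialLinearGroup.coe_neg, Matrix.trace_neg] at h
    rw [Matrix.trace_mul_comm] at h
    rw [Matrix.SpecialLinearGroup.coe_mul]
    exact (mul_eq_zero.mp (show (2 : F) * (A.1 * K.1).trace = 0 by linear_combination h)).resolve_left h2
  have sqA : A.1 * A.1 = -1 := by
    rw [PSL2Product.sq_eq, hA0, zero_smul, zero_sub]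
  have sqK : K.1 * K.1 = -1 := by
    rw [PSL2Product.sq_eq, hK0, zero_smul, zero_sub]
  obtain ⟨a₀, b₀, hab₀⟩ := ZMod.sq_add_sq p (-1)
  set α : F := ZMod.castHom (dvd_refl p) F a₀ with hα
  set β : F := ZMod.castHom (dvd_refl p) F b₀ with hβ
  have hαS : α ∈ S := by
    rw [hα, ← ZMod.natCast_zmod_val a₀, map_natCast]; exact natCast_mem S _
  have hβS : β ∈ S := by
    rw [hβ, ← ZMod.natCast_zmod_val b₀, map_natCast]; exact natCast_mem S _
  have hαβ : α ^ 2 + β ^ 2 = -1 := by
    rw [hα, hβ, ← map_pow, ← map_pow, ← map_add, hab₀, map_neg, map_one]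
  set A' : M2 := !![0, -1; 1, 0] with hA'
  set K' : M2 := !![α, β; β, -α] with hK'
  obtain ⟨g, hg, hgA, hgK⟩ := exists_intertwiner h2 (A' := A') (K' := K') sqA sqK
    (congrArg Subtype.val hanti) (by ext i j; fin_cases i <;> fin_cases j <;> simp [hA'])
    (by
      ext i j
      fin_cases i <;> fin_cases j <;> simp [hK']
      all_goals first | ring1 | linear_combination hαβ)
    (by ext i j; fin_cases i <;> fin_cases j <;> simp [hA', hK'])
    hA0 hK0 (by rw [← Matrix.SpecialLinearGroup.coe_mul]; exact hAK0)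
  let N : GL (Fin 2) F := Matrix.GeneralLinearGroup.mkOfDetNeZero g hg
  have hconj : ∀ (B : SL) (B' : M2), g * B.1 = B' * g → (conjSL N B).1 = B' := by
    intro B B' h
    rw [PSL2.coe_conjSL, show N.1 = g from rfl, h, mul_assoc]
    rw [show g = N.1 from rfl, Units.mul_inv, mul_one]
  refine ⟨N, ?_⟩
  rintro _ ⟨z, hz, rfl⟩
  obtain ⟨L, rfl⟩ := mk_surj z
  obtain ⟨c, hc0, hcS⟩ := hscal _ hz
  show diagAut N (mk L) ∈ scaled S
  rw [PSL2.diagAut_apply]
  set L' := conjSL N L with hL'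
  have htr : ∀ B : SL, (conjSL N B).1.trace = B.1.trace := fun B => by
    rw [PSL2.coe_conjSL, Matrix.trace_units_conj]
  have T0 : c * L'.1.trace ∈ S := by rw [htr]; exact hcS L (Or.inl rfl)
  have T1 : c * (L'.1 * A').trace ∈ S := by
    rw [← hconj A A' hgA, hL', ← Matrix.SpecialLinearGroup.coe_mul, ← map_mul, htr]
    exact hcS _ (Or.inr (Or.inl (map_mul _ _ _)))
  have T2 : c * (L'.1 * K').trace ∈ S := by
    rw [← hconj K K' hgK, hL', ← Matrix.SpecialLinearGroup.coe_mul, ← map_mul, htr]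
    exact hcS _ (Or.inr (Or.inr (Or.inl (map_mul _ _ _))))
  have T3 : c * (L'.1 * (A' * K')).trace ∈ S := by
    rw [← hconj A A' hgA, ← hconj K K' hgK, hL', ← Matrix.SpecialLinearGroup.coe_mul, ← map_mul,
      ← Matrix.SpecialLinearGroup.coe_mul, ← map_mul, htr]
    exact hcS _ (Or.inr (Or.inr (Or.inr (by rw [map_mul, map_mul]))))
  refine mem_scaled hc0 fun i j => ?_
  simp [Matrix.trace_fin_two, Matrix.mul_apply, Fin.sum_univ_two, hA', hK'] at T0 T1 T2 T3
  have h2S : (2 : F) ∈ S := by exact_mod_cast natCast_mem S 2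
  have hD := S.neg_mem (S.sub_mem (S.mul_mem hαS T2) (S.mul_mem hβS T3))
  have hE := S.neg_mem (S.add_mem (S.mul_mem hβS T2) (S.mul_mem hαS T3))
  fin_cases i <;> fin_cases j
  · convert S.div_mem (S.add_mem T0 hD) h2S using 1
    simp only [Fin.zero_eta, Fin.mk_one, Fin.isValue]
    field_simp
    linear_combination (L'.1 0 0 - L'.1 1 1) * hαβ
  · convert S.div_mem (S.add_mem hE T1) h2S using 1
    simp only [Fin.zero_eta, Fin.mk_one, Fin.isValue]
    field_simp
    linear_combination (L'.1 0 1 + L'.1 1 0) * hαβ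
  · convert S.div_mem (S.sub_mem hE T1) h2S using 1
    simp only [Fin.zero_eta, Fin.mk_one, Fin.isValue]
    field_simp
    linear_combination (L'.1 0 1 + L'.1 1 0) * hαβ
  · convert S.div_mem (S.sub_mem T0 hD) h2S using 1
    simp only [Fin.zero_eta, Fin.mk_one, Fin.isValue]
    field_simp
    linear_combination -(L'.1 0 0 - L'.1 1 1) * hαβ

end CfsgLib.PSL2Max
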