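import Mathlib
import Cfsg.Agent.Lib.PSL2Max.Basic
import Cfsg.Agent.Lib.PSL2Max.Std
import Cfsg.Agent.Lib.PSL2Max.Embed
import Cfsg.Agent.S0805

/-!
The polyhedral maximal subgroups of `PSL₂(q)`, `q` odd.
-/

set_option autoImplicit false

namespace CfsgLib.PSL2Max

open CfsgLib.DicksonFull
open CfsgLib.PSL2 (mk)

/-- Two generators of the normal Klein four group of `S₄`. -/
def v4x : Equiv.Perm (Fin 4) := Equiv.swap 0 1 * Equiv.swap 2 3

/-- Two generators of the normal Klein four group of `S₄`. -/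
def v4y : Equiv.Perm (Fin 4) := Equiv.swap 0 2 * Equiv.swap 1 3

theorem v4_facts : v4x ≠ 1 ∧ v4y ≠ 1 ∧ v4x ≠ v4y ∧ v4x ^ 2 = 1 ∧ v4y ^ 2 = 1 ∧ v4x * v4y = v4y * v4x ∧
    Equiv.Perm.sign v4x = 1 ∧ Equiv.Perm.sign v4y = 1 := by decide +kernel

theorem v4_parity : ∀ σ : Equiv.Perm (Fin 4),
    ((σ ^ 2 = 1 ∨ σ ^ 3 = 1) ∧ ((σ * v4x) ^ 2 = 1 ∨ (σ * v4x) ^ 3 = 1) ∧
      ((σ * v4y) ^ 2 = 1 ∨ (σ * v4y) ^ 3 = 1) ∧
      ((σ * (v4x * v4y)) ^ 2 = 1 ∨ (σ * (v4x * v4y)) ^ 3 = 1)) ∨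
    ((σ ≠ 1 ∧ σ ^ 4 = 1) ∧ (σ * v4x ≠ 1 ∧ (σ * v4x) ^ 4 = 1) ∧ (σ * v4y ≠ 1 ∧ (σ * v4y) ^ 4 = 1) ∧
      (σ * (v4x * v4y) ≠ 1 ∧ (σ * (v4x * v4y)) ^ 4 = 1)) := by decide +kernel

theorem a4_klein : ∀ a b : alternatingGroup (Fin 4), a ^ 2 = 1 → b ^ 2 = 1 →
    (a * b) ^ 2 = 1 ∧ ∀ c : alternatingGroup (Fin 4), (c * a * c⁻¹) ^ 2 = 1 := by decide +kernel

theorem a4_count : (Finset.univ.filter fun a : alternatingGroup (Fin 4) => a ^ 2 = 1).card = 4 := by
  decide +kernel

theorem two_ne_three : (2 : ZMod 3) ≠ 0 := by decide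

theorem s4_order_four : ∃ a : Equiv.Perm (Fin 4), a ^ 4 = 1 ∧ a ^ 2 ≠ 1 := by decide +kernel

/-- The Klein four group of `A₄`. -/
def kleinA4 : Subgroup (alternatingGroup (Fin 4)) where
  carrier := {a | a ^ 2 = 1}
  one_mem' := one_pow 2
  mul_mem' := fun {a b} ha hb => (a4_klein a b ha hb).1
  inv_mem' := fun {a} ha => by
    show a⁻¹ ^ 2 = 1
    rw [inv_pow, show a ^ 2 = 1 from ha, inv_one]

instance kleinA4_normal : kleinA4.Normal :=
  ⟨fun a ha c => (a4_klein a a ha ha).2 c⟩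

theorem card_kleinA4 : Nat.card kleinA4 = 4 := by
  haveI : DecidablePred (· ∈ kleinA4) := fun a => decEq (a ^ 2) 1
  refine Nat.card_eq_fintype_card.trans ((Fintype.card_of_subtype _ fun a => ?_).trans a4_count)
  simp; rfl

variable {F : Type*} [Field F] [Fintype F]

local notation "SL" => Matrix.SpecialLinearGroup (Fin 2) F
local notation "PSL" => Matrix.ProjectiveSpecialLinearGroup (Fin 2) F

theorem isSimple (h4 : 4 ≤ Fintype.card F) : IsSimpleGroup PSL :=
  Matrix.ProjectiveSpecialLinearGroup.rank_two_simple (by rwa [Nat.card_eq_fintype_card])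

/-- A proper normal subgroup of a maximal subgroup has that subgroup as normaliser. -/
theorem normalizer_eq (h4 : 4 ≤ Fintype.card F) {M V : Subgroup PSL} (hM : IsCoatom M) (hVM : V ≤ M)
    (hn : M ≤ Subgroup.normalizer (V : Set PSL)) (hV1 : V ≠ ⊥) :
    Subgroup.normalizer (V : Set PSL) = M := by
  refine (hn.eq_or_lt.resolve_right fun hlt => ?_).symm
  haveI := isSimple h4
  rcases (Subgroup.normalizer_eq_top_iff.mp (hM.2 _ hlt)).eq_bot_or_eq_top with e | e
  · exact hV1 e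
  · exact hM.1 (eq_top_iff.mpr (e ▸ hVM))

theorem eight_not_dvd {G : Type*} [Group G] [Finite G] {M V : Subgroup G} (hV : Nat.card V = 4)
    (hN : Subgroup.normalizer (V : Set G) = M) (h8 : ¬ 8 ∣ Nat.card M) : ¬ 8 ∣ Nat.card G := by
  intro h
  haveI : Fact (Nat.Prime 2) := ⟨Nat.prime_two⟩
  obtain ⟨K, hK, hVK⟩ := Sylow.exists_subgroup_card_pow_succ (p := 2) (n := 2)
    (show 2 ^ (2 + 1) ∣ Nat.card G from h) (show Nat.card V = 2 ^ 2 from hV)
  refine h8 ((show (8 : ℕ) = Nat.card K by rw [hK]; norm_num) ▸ Subgroup.card_dvd_of_le ?_)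
  have hidx : (V.subgroupOf K).index = 2 := by
    have h1 := (V.subgroupOf K).card_mul_index
    rw [Nat.card_congr (Subgroup.subgroupOfEquivOfLe hVK).toEquiv, hV, hK] at h1
    omega
  haveI := Subgroup.normal_of_index_eq_two hidx
  rw [← hN]
  exact (Subgroup.normal_subgroupOf_iff_le_normalizer hVK).mp inferInstance

variable (p : ℕ) [Fact p.Prime] [CharP F p]

theorem two_ne (hp2 : p ≠ 2) : (2 : F) ≠ 0 := fun e => by
  have h' : ((2 : ℕ) : F) = 0 := by exact_mod_cast e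
  exact hp2 ((Nat.prime_dvd_prime_iff_eq Fact.out Nat.prime_two).mp ((CharP.cast_eq_zero_iff F p 2).mp h'))

omit [Fintype F] in
theorem trace_mem_23 [Fintype F] {S : Subfield F} {L : SL} (h : mk L ^ 2 = 1 ∨ mk L ^ 3 = 1) :
    L.1.trace ∈ S := by
  have h2S : (2 : F) ∈ S := by exact_mod_cast natCast_mem S 2
  by_cases hL : mk L = 1
  · rcases trace_pm hL with e | e <;> rw [e]
    exacts [h2S, S.neg_mem h2S]
  rcases h with h | h
  · rw [(trace_of_pow hL).1 h]; exact S.zero_mem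
  · rcases sq_eq_one_iff.mp ((trace_of_pow hL).2.1 h) with e | e <;> rw [e]
    exacts [S.one_mem, S.neg_mem S.one_mem]

theorem trace_mem_5 (h2 : (2 : F) ≠ 0) {S : Subfield F} (h5 : ∀ r : F, r ^ 2 = 5 → r ∈ S) {L : SL}
    (h : mk L ^ 5 = 1) : L.1.trace ∈ S := by
  have h2S : (2 : F) ∈ S := by exact_mod_cast natCast_mem S 2
  by_cases hL : mk L = 1
  · rcases trace_pm hL with e | e <;> rw [e]
    exacts [h2S, S.neg_mem h2S]
  have h' := (trace_of_pow hL).2.2.2 h
  set t := L.1.trace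
  have : ((2 * t - 1) ^ 2 - 5) * ((2 * t + 1) ^ 2 - 5) = 0 := by linear_combination (4 : F) * h'
  rcases mul_eq_zero.mp this with e | e
  · have := S.div_mem (S.add_mem (h5 _ (sub_eq_zero.mp e)) S.one_mem) h2S
    convert this using 1
    field_simp; ring
  · have := S.div_mem (S.sub_mem (h5 _ (sub_eq_zero.mp e)) S.one_mem) h2S
    convert this using 1
    field_simp; ring

include p in
/-- Square roots of elements of the prime field lie in the field with `p²` elements. -/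
theorem sqrt_mem {S : Subfield F} (hS : Nat.card S = p ^ 2) (a : ZMod p) (r : F)
    (hr : r ^ 2 = ZMod.castHom (dvd_refl p) F a) : r ∈ S := by
  rw [mem_subfield_iff, hS, pow_two, pow_mul]
  have h1 : (r ^ p) ^ 2 = r ^ 2 := by
    rw [← pow_mul, mul_comm, pow_mul, hr, ← map_pow, ZMod.pow_card]
  rcases sq_eq_sq_iff_eq_or_eq_neg.mp h1 with e | e <;> rw [e]
  · exact e
  · rcases (Fact.out : p.Prime).eq_two_or_odd' with hp | hp
    · subst hp
      haveI : CharP F 2 := inferInstance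
      rw [CharTwo.neg_eq] at e ⊢; exact e
    · rw [hp.neg_pow, e, neg_neg]

include p in
theorem sqrt_mem_square {S : Subfield F} (a : ZMod p) (ha : IsSquare a) (r : F)
    (hr : r ^ 2 = ZMod.castHom (dvd_refl p) F a) : r ∈ S := by
  obtain ⟨s, rfl⟩ := ha
  rw [map_mul, ← pow_two] at hr
  have hs : ZMod.castHom (dvd_refl p) F s ∈ S := by
    rw [← ZMod.natCast_zmod_val s, map_natCast]; exact natCast_mem S _
  rcases sq_eq_sq_iff_eq_or_eq_neg.mp hr with e | e <;> rw [e]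
  exacts [hs, S.neg_mem hs]

/-- The generic step: standardise and compare with `scaled S`. -/
theorem poly_step (hp2 : p ≠ 2) {n k : ℕ} (hn : Fintype.card F = p ^ n) {M : Subgroup PSL}
    (hM : IsCoatom M) {x y : PSL} (hx : x ∈ M) (hy : y ∈ M) (hx1 : x ≠ 1) (hy1 : y ≠ 1) (hxy : x ≠ y)
    (hx2 : x ^ 2 = 1) (hy2 : y ^ 2 = 1) (hc : Commute x y) {S : Subfield F} (hS : Nat.card S = p ^ k)
    (hk : k ≠ n) (hscal : ∀ g ∈ M, ∃ c : F, c ≠ 0 ∧ ∀ L : SL,
      mk L = g ∨ mk L = g * x ∨ mk L = g * y ∨ mk L = g * (x * y) → c * L.1.trace ∈ S) :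
    p ^ k ∣ Nat.card M ∧ (∃ m, m.Prime ∧ n = k * m) ∧
      ∃ N : GL (Fin 2) F, M.map (PSL2.diagAut N).toMonoidHom = scaled S := by
  obtain ⟨N, hN⟩ := std p (two_ne p hp2) hx hy hx1 hy1 hxy hx2 hy2 hc S hscal
  have hne : S ≠ ⊤ := fun e => hk (Nat.pow_right_injective (Fact.out : p.Prime).two_le (by
    show p ^ k = p ^ n
    rw [← hn, ← hS]; exact (eq_top_iff_card S).mp e))
  obtain ⟨e, hmax, hdvd⟩ := maximal hM (PSL2.diagAut N) hne hN
  exact ⟨hS ▸ hdvd, prime_degree p hn hS hne hmax, N, e⟩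

theorem scal_one {M : Subgroup PSL} {S : Subfield F} {x y : PSL} (hx : x ∈ M) (hy : y ∈ M)
    (h : ∀ L : SL, mk L ∈ M → L.1.trace ∈ S) (g : PSL) (hg : g ∈ M) : ∃ c : F, c ≠ 0 ∧ ∀ L : SL,
      mk L = g ∨ mk L = g * x ∨ mk L = g * y ∨ mk L = g * (x * y) → c * L.1.trace ∈ S := by
  refine ⟨1, one_ne_zero, fun L hL => ?_⟩
  rw [one_mul]
  refine h L ?_
  rcases hL with e | e | e | e <;> rw [e]
  exacts [hg, mul_mem hg hx, mul_mem hg hy, mul_mem hg (mul_mem hx hy)]

theorem eight_dvd_iff (hp2 : p ≠ 2) :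
    8 ∣ Nat.card PSL ↔ (Fintype.card F % 8 = 1 ∨ Fintype.card F % 8 = 7) := by
  have hc := two_card (F := F) p hp2
  obtain ⟨n, -, hn⟩ := FiniteField.card F p
  have hodd : Fintype.card F % 2 = 1 := Nat.odd_iff.mp (hn ▸ ((Fact.out : p.Prime).odd_of_ne_two hp2).pow)
  set q := Fintype.card F
  have hcop : Nat.Coprime 16 q :=
    Nat.Coprime.pow_left 4 (Nat.prime_two.coprime_iff_not_dvd.mpr (by omega) : Nat.Coprime 2 q)
  have h16 : 8 ∣ Nat.card PSL ↔ 16 ∣ q ^ 2 - 1 := by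
    constructor
    · intro h
      exact hcop.dvd_of_dvd_mul_left (hc ▸ Nat.mul_dvd_mul_left 2 h)
    · intro h
      exact Nat.dvd_of_mul_dvd_mul_left (by norm_num : 0 < 2) (hc ▸ h.mul_left q)
  rw [h16]
  obtain ⟨j, hj | hj⟩ : ∃ j, q = 8 * j + 1 ∨ (q = 8 * j + 3 ∨ q = 8 * j + 5 ∨ q = 8 * j + 7) :=
    ⟨q / 8, by omega⟩
  · rw [hj]; ring_nf
    omega
  · rcases hj with hj | hj | hj <;> rw [hj] <;> ring_nf <;> omega

/-- The prime-degree subfield type `PSL₂(q₀)`. -/
theorem psl_type {M : Subgroup PSL} (K : Type) [Field K] [Fintype K] (e : Nonempty (M ≃* Matrix.ProjectiveSpecialLinearGroup (Fin 2) K))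
    (r : ℕ) (hr : r.Prime) (hro : Odd r) (hF : Fintype.card F = Fintype.card K ^ r) :
    ∃ (F₀ : Type) (_ : Field F₀) (_ : Fintype F₀) (r : ℕ), r.Prime ∧ Odd r ∧
      Fintype.card F = Fintype.card F₀ ^ r ∧ Nonempty (M ≃* Matrix.ProjectiveSpecialLinearGroup (Fin 2) F₀) :=
  ⟨K, inferInstance, inferInstance, r, hr, hro, hF, e⟩

/-- `A₄` maximal. -/
theorem case_a4 (hp2 : p ≠ 2) (h5 : 5 ≤ Fintype.card F) {M : Subgroup PSL} (hM : IsCoatom M)
    (e : M ≃* alternatingGroup (Fin 4)) :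
    (∃ (F₀ : Type) (_ : Field F₀) (_ : Fintype F₀) (r : ℕ), r.Prime ∧ Odd r ∧
      Fintype.card F = Fintype.card F₀ ^ r ∧ Nonempty (M ≃* Matrix.ProjectiveSpecialLinearGroup (Fin 2) F₀)) ∨
    (Fintype.card F = p ∧ (p % 8 = 3 ∨ p % 8 = 5) ∧ ¬ (p % 10 = 1 ∨ p % 10 = 9)) := by
  classical
  have hp := (Fact.out : p.Prime)
  have h2 := two_ne (F := F) p hp2
  obtain ⟨n, -, hn⟩ := FiniteField.card F p
  set f : alternatingGroup (Fin 4) →* PSL := M.subtype.comp e.symm.toMonoidHom with hf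
  have hfi : Function.Injective f := M.subtype_injective.comp e.symm.injective
  set V := kleinA4.map f with hV
  have hfr : f.range = M := by
    rw [hf, MonoidHom.range_comp, MonoidHom.range_eq_top.mpr e.symm.surjective, ← MonoidHom.range_eq_map,
      Subgroup.range_subtype]
  have hVM : V ≤ M := hfr ▸ Subgroup.map_le_range f kleinA4
  have hcV : Nat.card V = 4 := by
    rw [hV, ← Nat.card_congr (kleinA4.equivMapOfInjective f hfi).toEquiv, card_kleinA4]
  have hcM : Nat.card M = 12 := by rw [Nat.card_congr e.toEquiv, card_a4]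
  have hN : Subgroup.normalizer (V : Set PSL) = M := by
    refine normalizer_eq (by omega) hM hVM ?_ fun h => ?_
    · have := kleinA4.le_normalizer_map f
      rwa [Subgroup.normalizer_eq_top, ← MonoidHom.range_eq_map, hfr] at this
    · rw [h, Subgroup.card_bot] at hcV; omega
  have h8 : ¬ 8 ∣ Nat.card PSL := eight_not_dvd hcV hN (by rw [hcM]; norm_num)
  have hq8 : Fintype.card F % 8 ≠ 1 ∧ Fintype.card F % 8 ≠ 7 := by
    rw [eight_dvd_iff p hp2] at h8; omega
  obtain ⟨vx1, vy1, vxy, vx2, vy2, vc, sx, sy⟩ := v4_facts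
  set x₀ : alternatingGroup (Fin 4) := ⟨v4x, Equiv.Perm.mem_alternatingGroup.mpr sx⟩
  set y₀ : alternatingGroup (Fin 4) := ⟨v4y, Equiv.Perm.mem_alternatingGroup.mpr sy⟩
  obtain ⟨S, hS⟩ := exists_subfield_card p hn (one_dvd (n : ℕ))
  have hne : ∀ a : alternatingGroup (Fin 4), (a : Equiv.Perm (Fin 4)) ≠ 1 → f a ≠ 1 := fun a ha e' =>
    ha (congrArg Subtype.val (hfi (e'.trans (map_one f).symm) : a = 1))
  have hscal : ∀ L : SL, mk L ∈ M → L.1.trace ∈ S := fun L hL => by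
    refine trace_mem_23 ?_
    rcases a4_orders (e ⟨_, hL⟩) with h | h
    · left; exact congrArg Subtype.val (e.injective (by rw [map_pow, h, map_one]) : (⟨_, hL⟩ : M) ^ 2 = 1)
    · right; exact congrArg Subtype.val (e.injective (by rw [map_pow, h, map_one]) : (⟨_, hL⟩ : M) ^ 3 = 1)
  by_cases hn1 : (1 : ℕ) = n
  · right
    rw [← hn1, pow_one] at hn
    rw [hn] at hq8
    refine ⟨hn, by have := Nat.odd_iff.mp (hp.odd_of_ne_two hp2); omega, fun h10 => ?_⟩
    -- an `A₅` swallows `M`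
    haveI : Fact (Nat.Prime 5) := ⟨by norm_num⟩
    haveI : Fact (Nat.Prime 2) := ⟨Nat.prime_two⟩
    have hsq : IsSquare (5 : F) := by
      have h' : IsSquare ((5 : ℕ) : ZMod p) := by
        rw [← ZMod.exists_sq_eq_prime_iff_of_mod_four_eq_one (p := 5) (q := p) (by norm_num) hp2]
        rw [← ZMod.natCast_mod p 5]
        rcases h10 with hm | hm
        · rw [show p % 5 = 1 by omega]; exact ⟨1, by norm_num⟩
        · rw [show p % 5 = 4 by omega]; exact ⟨2, by norm_num⟩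
      have := h'.map (ZMod.castHom (dvd_refl p) F)
      rwa [map_natCast, Nat.cast_ofNat] at this
    obtain ⟨A, ⟨eA⟩⟩ := PSL2Platonic.exists_A5 h2 hsq
    have hA : Nat.card A = 60 := by rw [Nat.card_congr eA.toEquiv, card_a5]
    obtain ⟨⟨b, hb⟩⟩ : Nonempty {B : Subgroup A // ∃ W : Subgroup A, Nat.card B = 12 ∧ Nat.card W = 4 ∧
        B ≤ Subgroup.normalizer (W : Set A)} := by
      let ι : alternatingGroup (Fin 4) →* alternatingGroup (Fin 5) :=
        ((Equiv.Perm.extendDomainHom (Fin.castSuccEmb.toEquivRange.trans (Equiv.refl _))).comp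
          (alternatingGroup (Fin 4)).subtype).codRestrict (alternatingGroup (Fin 5)) fun a => by
            rw [Equiv.Perm.mem_alternatingGroup]
            show Equiv.Perm.sign (Equiv.Perm.extendDomain _ _) = 1
            rw [Equiv.Perm.sign_extendDomain]; exact Equiv.Perm.mem_alternatingGroup.mp a.2
      have hι : Function.Injective ι := fun a b h => Subtype.ext
        (Equiv.Perm.extendDomainHom_injective _ (congrArg Subtype.val h))
      let g := eA.symm.toMonoidHom.comp ι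
      have hg : Function.Injective g := eA.symm.injective.comp hι
      refine ⟨⟨g.range, kleinA4.map g, ?_, ?_, ?_⟩⟩
      · rw [← Nat.card_congr (MonoidHom.ofInjective hg).toEquiv, card_a4]
      · rw [← Nat.card_congr (kleinA4.equivMapOfInjective g hg).toEquiv, card_kleinA4]
      · have := kleinA4.le_normalizer_map g
        rwa [Subgroup.normalizer_eq_top, ← MonoidHom.range_eq_map] at this
    obtain ⟨W, hb12, hW, hbW⟩ := hb
    set W' := W.map A.subtype
    have hW' : Nat.card W' = 4 := by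
      rw [← Nat.card_congr (W.equivMapOfInjective A.subtype A.subtype_injective).toEquiv, hW]
    have key : ∀ X : Subgroup PSL, Nat.card X = 4 → ∃ P : Sylow 2 PSL, (P : Subgroup PSL) = X := fun X hX => by
      obtain ⟨P, hP⟩ := (IsPGroup.of_card (p := 2) (n := 2) hX).exists_le_sylow
      obtain ⟨k, hk⟩ := IsPGroup.iff_card.mp P.2
      have hk2 : k ≤ 2 := by
        by_contra hk3
        exact h8 (((show (8 : ℕ) = 2 ^ 3 from rfl) ▸ pow_dvd_pow 2 (show 3 ≤ k by omega)).trans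
          (hk ▸ (P : Subgroup PSL).card_subgroup_dvd_card))
      exact ⟨P, (Subgroup.eq_of_le_of_card_ge hP (by
        rw [hX, hk]; exact Nat.pow_le_pow_right (by norm_num) hk2)).symm⟩
    obtain ⟨P, hP⟩ := key V hcV
    obtain ⟨P', hP'⟩ := key W' hW'
    obtain ⟨c, hc⟩ := MulAction.exists_smul_eq PSL P' P
    let φ : MulAut PSL := MulAut.conj c
    have hWV : W'.map φ.toMonoidHom = V := by
      rw [← hP, ← hc, ← hP']; rfl
    have hle : (b.map A.subtype).map φ.toMonoidHom ≤ M := by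
      rw [← hN, ← hWV]
      refine le_trans (Subgroup.map_mono ?_) (W'.le_normalizer_map _)
      exact le_trans (Subgroup.map_mono hbW) (W.le_normalizer_map _)
    have heq : (b.map A.subtype).map φ.toMonoidHom = M := Subgroup.eq_of_le_of_card_ge hle (by
      rw [hcM, ← Nat.card_congr ((b.map A.subtype).equivMapOfInjective _ φ.injective).toEquiv,
        ← Nat.card_congr (b.equivMapOfInjective A.subtype A.subtype_injective).toEquiv, hb12])
    have hcA : Nat.card (A.map φ.toMonoidHom) = 60 := by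
      rw [← Nat.card_congr (A.equivMapOfInjective _ φ.injective).toEquiv, hA]
    have hlt : M < A.map φ.toMonoidHom := by
      refine lt_of_le_of_ne (heq ▸ Subgroup.map_mono (Subgroup.map_subtype_le b)) fun e' => ?_
      rw [← e', hcM] at hcA; omega
    have htop := hM.2 _ hlt
    rw [htop, Subgroup.card_top] at hcA
    have hc2 := two_card (F := F) p hp2
    rw [hcA, hn] at hc2
    have := Nat.mul_le_mul (show 11 ≤ p by have := hp.two_le; omega)
      (Nat.sub_le_sub_right (Nat.pow_le_pow_left (show 11 ≤ p by have := hp.two_le; omega) 2) 1)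
    omega
  · left
    obtain ⟨hpM, ⟨m, hm, hnm⟩, -⟩ := poly_step p hp2 hn hM (hfr ▸ ⟨x₀, rfl⟩) (hfr ▸ ⟨y₀, rfl⟩)
      (hne x₀ vx1) (hne y₀ vy1) (fun h => vxy (congrArg Subtype.val (hfi h)))
      (by rw [← map_pow, show x₀ ^ 2 = 1 from Subtype.ext vx2, map_one])
      (by rw [← map_pow, show y₀ ^ 2 = 1 from Subtype.ext vy2, map_one])
      (show f x₀ * f y₀ = f y₀ * f x₀ by
        rw [← map_mul, ← map_mul, show x₀ * y₀ = y₀ * x₀ from Subtype.ext vc])
      hS hn1 (scal_one (hfr ▸ ⟨x₀, rfl⟩) (hfr ▸ ⟨y₀, rfl⟩) hscal)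
    rw [pow_one, hcM] at hpM
    obtain rfl : p = 3 := by
      rcases hp.dvd_mul.mp (show p ∣ 4 * 3 from hpM) with h | h
      · exact absurd ((Nat.prime_dvd_prime_iff_eq hp Nat.prime_two).mp (hp.dvd_of_dvd_pow (show p ∣ 2 ^ 2 from h))) hp2
      · exact (Nat.prime_dvd_prime_iff_eq hp Nat.prime_three).mp h
    rw [one_mul] at hnm
    have hmo : Odd m := hm.odd_of_ne_two fun h2' => by
      rw [hn, hnm, h2'] at hq8
      omega
    refine psl_type (ZMod 3) ?_ m hm hmo (by rw [hn, hnm, ZMod.card])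
    obtain ⟨A, ⟨eA⟩⟩ := PSL2Platonic.exists_A4 (F := ZMod 3) two_ne_three
    have hA : A = ⊤ := Subgroup.eq_top_of_card_eq A (by
      have hc3 := two_card (F := ZMod 3) 3 (by norm_num)
      rw [ZMod.card] at hc3
      rw [Nat.card_congr eA.toEquiv, card_a4]
      omega)
    subst hA
    exact ⟨e.trans (eA.symm.trans Subgroup.topEquiv)⟩

end CfsgLib.PSL2Max
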