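import Mathlib
import Cfsg.Agent.Lib.PSL2Max.Pgl
import Cfsg.Agent.Lib.PSL2Max.Tori
import Cfsg.Agent.Lib.PSL2Max.Poly
import Cfsg.Agent.Lib.SL2Char.Tori
import Cfsg.Agent.Lib.OrthBinary

/-!
Torus stabilisers in `PGL₂(q)`.
-/

set_option autoImplicit false

namespace CfsgLib.PSL2Max

open Matrix CfsgLib.DicksonFull
open CfsgLib.PSL2 (mk diagAut conjSL)

variable {F : Type*} [Field F] [Fintype F] (p : ℕ) [Fact p.Prime] [CharP F p]

local notation "M2" => Matrix (Fin 2) (Fin 2) F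
local notation "SL" => Matrix.SpecialLinearGroup (Fin 2) F
local notation "PSL" => Matrix.ProjectiveSpecialLinearGroup (Fin 2) F
local notation "PGL" => Matrix.ProjGenLinGroup (Fin 2) F
local notation "q" => Fintype.card F

theorem mem_range_of_isSquare {G : GL (Fin 2) F} (h : IsSquare G.1.det) : pgm G ∈ (phi (F := F)).range := by
  obtain ⟨r, hr⟩ := h
  have hd0 : G.1.det ≠ 0 := ((Matrix.isUnit_iff_isUnit_det _).mp G.isUnit).ne_zero
  have hr0 : r ≠ 0 := fun e => hd0 (by rw [hr, e, mul_zero])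
  have hs : (r⁻¹ • G.1).det = 1 := by
    rw [Matrix.det_smul, Fintype.card_fin, hr]; field_simp
  let s : SL := ⟨r⁻¹ • G.1, hs⟩
  refine ⟨mk s, ?_⟩
  rw [phi_mk]
  refine Matrix.ProjGenLinGroup.mk_eq_mk_iff.mpr ⟨Units.mk0 r hr0, Units.ext ?_⟩
  ext i j
  have es : (Matrix.SpecialLinearGroup.toGL s).1 = r⁻¹ • G.1 := rfl
  fin_cases i <;> fin_cases j <;> simp [es, Matrix.mul_apply, Fin.sum_univ_two] <;> field_simp

theorem T_mk (b : SL) : (psl p).T (mk b) = cT b := cT_congr (QuotientGroup.out_eq' _)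

theorem SS_act {x : PSL} (hx : SS p x) (g : PGL) : SS p (act g x) := by
  refine ⟨fun e => hx.1 ?_, ?_⟩
  · rwa [MulEquiv.map_eq_one_iff] at e
  · rw [(act g).orderOf_eq]; exact hx.2

theorem act_torus (g : PGL) {x y : PSL} (hy : y ∈ (psl p).T x) : act g y ∈ (psl p).T (act g x) := by
  obtain ⟨G, rfl⟩ := Matrix.ProjGenLinGroup.mk_surjective g
  obtain ⟨b, rfl⟩ := mk_surj x
  obtain ⟨h, rfl⟩ := mk_surj y
  rw [T_mk, mem_cT] at hy
  show diagAut G (mk h) ∈ (psl p).T (diagAut G (mk b))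
  rw [PSL2.diagAut_apply, PSL2.diagAut_apply, T_mk, mem_cT, ← map_mul, ← map_mul, hy]

/-- Elements of the normaliser outside the torus are involutions. -/
theorem sq_of_not_mem {x g : PSL} (hx : SS p x) (hg : g ∈ Subgroup.normalizer ((psl p).T x : Set PSL))
    (hgT : g ∉ (psl p).T x) : g * g = 1 := by
  have hg' := inv_mem hg
  have hgT' : g⁻¹ ∉ (psl p).T x := fun h => hgT (by simpa using inv_mem h)
  have h2 : g * g ∈ (psl p).T x := by
    have := ((psl p).T_norm x g⁻¹ hx ((mem_norm_iff hx).mp hg') hgT').2 g ((mem_norm_iff hx).mp hg) hgT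
    rwa [inv_inv] at this
  by_contra hne
  obtain ⟨hs, hT⟩ := (psl p).T_eq x _ hx h2 hne
  have hg1 : g ≠ 1 := fun e => hne (by rw [e, one_mul])
  rcases (psl (F := F) p).order_cases g hg1 with h | h
  · have := ((psl p).T_eq g _ h (mul_mem ((psl p).mem_T g h) ((psl p).mem_T g h)) hne).2
    rw [hT] at this
    exact hgT (this ▸ (psl p).mem_T g h)
  · refine hs.2 ?_
    have hd : orderOf (g * g) ∣ p := by
      refine orderOf_dvd_of_pow_eq_one ?_
      rw [(Commute.refl g).mul_pow, show g ^ p = 1 by rw [← h]; exact pow_orderOf_eq_one g, one_mul]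
    rcases (Nat.dvd_prime (Fact.out : p.Prime)).mp hd with e | e
    · exact absurd (orderOf_eq_one_iff.mp e) hne
    · rw [e]

/-- `M` stabilises a torus. -/
theorem torus_fixed (hp2 : p ≠ 2) {M : Subgroup PGL} (h : Setup M) {x : PSL} (hx : SS p x)
    (hxM : x ∈ M.comap phi) (hN : M.comap phi ≤ Subgroup.normalizer ((psl p).T x : Set PSL)) :
    ∃ w, SS p w ∧ ∀ g ∈ M, act g w ∈ (psl p).T w := by
  classical
  have hst : ∀ g ∈ M, ∀ y ∈ M.comap phi, act g y ∈ M.comap phi := fun g hg y hy => by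
    rw [← Setup.stable g hg]; exact ⟨y, hy, rfl⟩
  by_cases hbig : ∃ y ∈ M.comap phi, y ∈ (psl p).T x ∧ y * y ≠ 1
  · obtain ⟨y, hyM, hyT, hy2⟩ := hbig
    obtain ⟨hys, hTy⟩ := (psl p).T_eq x y hx hyT (fun e => hy2 (by rw [e, one_mul]))
    refine ⟨y, hys, fun g hg => ?_⟩
    rw [hTy]
    by_contra hne
    refine hy2 ((act g).injective ?_)
    rw [map_mul, map_one]
    exact sq_of_not_mem p hx (hN (hst g hg y hyM)) hne
  push Not at hbig
  have hexp : ∀ y ∈ M.comap phi, y * y = 1 := fun y hy => by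
    by_cases hyT : y ∈ (psl p).T x
    · exact hbig y hy hyT
    · exact sq_of_not_mem p hx (hN hy) hyT
  have hcomm : ∀ a ∈ M.comap phi, ∀ b ∈ M.comap phi, a * b = b * a := fun a ha b hb => by
    have h1 := mul_eq_one_iff_eq_inv.mp (hexp _ (mul_mem ha hb))
    rw [_root_.mul_inv_rev, ← mul_eq_one_iff_eq_inv.mp (hexp a ha), ← mul_eq_one_iff_eq_inv.mp (hexp b hb)] at h1
    exact h1
  obtain ⟨g₀, hg₀, hgL⟩ := h.sup
  have hfix : ∀ z ∈ M.comap phi, ∀ y ∈ M.comap phi, act (phi z) y = y := fun z hz y hy => by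
    rw [act_phi, MulAut.conj_apply, hcomm z hz y hy, mul_inv_cancel_right]
  have hall : ∀ w ∈ M.comap phi, act g₀ w = w → ∀ g ∈ M, act g w = w := fun w hw hw0 g hg => by
    rcases h.mem_bar hg₀ hgL hg with ⟨z, hz, hzg⟩ | ⟨z, hz, hzg⟩
    · rw [← hzg]; exact hfix z hz w hw
    · have e : g = g₀⁻¹ * phi z := by rw [hzg, inv_mul_cancel_left]
      rw [e, map_mul, MulAut.mul_apply, hfix z hz w hw]
      nth_rw 1 [← hw0]
      rw [← MulAut.mul_apply, ← map_mul, inv_mul_cancel, map_one, MulAut.one_apply]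
  obtain ⟨w, hw, hw1, hw0⟩ : ∃ w ∈ M.comap phi, w ≠ 1 ∧ act g₀ w = w := by
    by_cases e : act g₀ x = x
    · exact ⟨x, hxM, hx.1, e⟩
    refine ⟨x * act g₀ x, mul_mem hxM (hst g₀ hg₀ x hxM), fun e' => e ?_, ?_⟩
    · exact mul_left_cancel (e'.trans (hexp x hxM).symm)
    · have hg2 : g₀ * g₀ ∈ (phi (F := F)).range := by
        rw [Subgroup.mul_mem_iff_of_index_two h.index_two]
      obtain ⟨z, hz⟩ := hg2
      have hzM : z ∈ M.comap phi := show phi z ∈ M by rw [hz]; exact mul_mem hg₀ hg₀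
      rw [map_mul, ← MulAut.mul_apply, ← map_mul, ← hz, hfix z hzM x hxM]
      exact hcomm _ (hst g₀ hg₀ x hxM) _ hxM
  refine ⟨w, ⟨hw1, fun hd => ?_⟩, fun g hg => ?_⟩
  · have h2 : orderOf w ∣ 2 := orderOf_dvd_of_pow_eq_one (by rw [pow_two]; exact hexp w hw)
    exact hp2 ((Nat.prime_dvd_prime_iff_eq Fact.out Nat.prime_two).mp (hd.trans h2))
  · rw [hall w hw hw0 g hg]
    exact (psl p).mem_T w ⟨hw1, fun hd => hp2 ((Nat.prime_dvd_prime_iff_eq Fact.out Nat.prime_two).mp
      (hd.trans (orderOf_dvd_of_pow_eq_one (by rw [pow_two]; exact hexp w hw))))⟩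

/-- The image in `PGL₂` of the centraliser of `b`. -/
def ctr (b : SL) : Subgroup PGL :=
  (Subgroup.centralizer ({Matrix.SpecialLinearGroup.toGL b} : Set (GL (Fin 2) F))).map pgm

theorem mem_ctr {b : SL} {g : PGL} :
    g ∈ ctr b ↔ ∃ G : GL (Fin 2) F, Commute G.1 b.1 ∧ pgm G = g := by
  constructor
  · rintro ⟨G, hG, rfl⟩
    exact ⟨G, (congrArg Units.val (Subgroup.mem_centralizer_singleton_iff.mp hG)), rfl⟩
  · rintro ⟨G, hG, rfl⟩
    exact ⟨G, Subgroup.mem_centralizer_singleton_iff.mpr (Units.ext hG), rfl⟩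

theorem ctr_comap {b : SL} : (ctr b).comap phi = cT b := by
  ext y
  obtain ⟨h, rfl⟩ := mk_surj y
  rw [Subgroup.mem_comap, mem_ctr, mem_cT]
  constructor
  · rintro ⟨G, hG, e⟩
    obtain ⟨u, hu⟩ := Matrix.ProjGenLinGroup.mk_eq_mk_iff.mp e
    have e1 : h.1 = (u : F) • G.1 := by
      have := congrArg Units.val hu
      rw [Units.val_mul] at this
      refine this.symm.trans ?_
      ext i j
      fin_cases i <;> fin_cases j <;> simp [Matrix.mul_apply, Fin.sum_univ_two, mul_comm]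
    refine Subtype.ext ?_
    rw [Matrix.SpecialLinearGroup.coe_mul, Matrix.SpecialLinearGroup.coe_mul, e1]
    exact (hG.smul_left _).eq
  · intro e
    exact ⟨Matrix.SpecialLinearGroup.toGL h, congrArg Subtype.val e, rfl⟩

theorem exists_nonsquare_ctr (hp2 : p ≠ 2) {b : SL} (hb : b.1.trace ^ 2 ≠ 4) :
    ¬ ctr b ≤ (phi (F := F)).range := by
  classical
  intro hle
  have h2 : (2 : F) ≠ 0 := two_ne p hp2
  have hrc : ringChar F ≠ 2 := by rw [ringChar.eq F p]; exact hp2
  obtain ⟨ν, hν⟩ := FiniteField.exists_nonsquare hrc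
  have hν0 : ν ≠ 0 := fun e => hν (e ▸ IsSquare.zero)
  set τ := b.1.trace with hτ
  have hc : 1 - (τ / 2) ^ 2 ≠ 0 := fun e => hb (by field_simp at e; linear_combination -e)
  have hodd : q % 2 = 1 := FiniteField.odd_card_of_char_ne_two hrc
  obtain ⟨u, v, huv⟩ := FiniteField.exists_root_sum_quadratic
    (f := Polynomial.X ^ 2 - Polynomial.C ν) (g := Polynomial.C (1 - (τ / 2) ^ 2) * Polynomial.X ^ 2)
    (Polynomial.degree_X_pow_sub_C (by norm_num) ν)
    (Polynomial.degree_C_mul_X_pow 2 hc) hodd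
  simp at huv
  have hd : ((u - τ * v / 2) • (1 : M2) + v • b.1).det = ν := by
    rw [SL2Centralizer.det_lin, ← hτ]
    field_simp at huv ⊢
    linear_combination huv
  let G : GL (Fin 2) F := Matrix.GeneralLinearGroup.mkOfDetNeZero _ (hd ▸ hν0)
  have hG : pgm G ∈ ctr b := mem_ctr.mpr ⟨G,
    ((Commute.one_left b.1).smul_left _).add_left ((Commute.refl b.1).smul_left _), rfl⟩
  have := isSquare_det_of_mem (hle hG)
  rw [show G.1 = (u - τ * v / 2) • (1 : M2) + v • b.1 from rfl, hd] at this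
  exact hν this

theorem ctr_cyclic (hp2 : p ≠ 2) {b : SL} (hb : b.1.trace ^ 2 ≠ 4) : IsCyclic (ctr b) := by
  classical
  have h2 : (2 : F) ≠ 0 := two_ne p hp2
  set Z := Subgroup.centralizer ({Matrix.SpecialLinearGroup.toGL b} : Set (GL (Fin 2) F))
  have hcom : ∀ G ∈ Z, Commute G.1 b.1 := fun G hG =>
    congrArg Units.val (Subgroup.mem_centralizer_singleton_iff.mp hG)
  have hnd : ∀ G : GL (Fin 2) F, G.1.det ≠ 0 := fun G =>
    ((Matrix.isUnit_iff_isUnit_det _).mp G.isUnit).ne_zero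
  have hdet : ∀ G : GL (Fin 2) F, (G.1.det⁻¹ • (G.1 * G.1)).det = 1 := fun G => by
    have := hnd G
    rw [Matrix.det_smul, Matrix.det_mul, Fintype.card_fin]; field_simp
  let ψ : Z →* Subgroup.centralizer ({b} : Set SL) := MonoidHom.mk'
    (fun G => ⟨⟨_, hdet G.1⟩, Subgroup.mem_centralizer_singleton_iff.mpr (Subtype.ext
      (((hcom _ G.2).mul_left (hcom _ G.2)).smul_left _).eq)⟩)
    (fun G H => by
      refine Subtype.ext (Subtype.ext ?_)
      have hne := SL2Centralizer.not_scalar_of_trace hb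
      obtain ⟨a, a', ha⟩ := SL2Centralizer.exists_of_commute hne (hcom _ G.2)
      have hGH : Commute G.1.1 H.1.1 := by
        rw [ha]
        exact ((Commute.one_left _).smul_left _).add_left ((hcom _ H.2).symm.smul_left _)
      show (G.1.1 * H.1.1).det⁻¹ • (G.1.1 * H.1.1 * (G.1.1 * H.1.1)) =
        G.1.1.det⁻¹ • (G.1.1 * G.1.1) * H.1.1.det⁻¹ • (H.1.1 * H.1.1)
      rw [Matrix.det_mul, mul_inv, smul_mul_assoc, mul_smul_comm, smul_smul]
      congr 1
      rw [mul_assoc, ← mul_assoc H.1.1 G.1.1, ← hGH.eq, mul_assoc, ← mul_assoc])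
  have hker : ψ.ker = (pgm.comp Z.subtype).ker := by
    ext G
    rw [MonoidHom.mem_ker, MonoidHom.mem_ker]
    constructor
    · intro e
      have e1 : G.1.1.det⁻¹ • (G.1.1 * G.1.1) = 1 := congrArg (fun x => x.1.1) e
      have hD := hnd G.1
      have e2 : G.1.1 * G.1.1 = G.1.1.det • (1 : M2) := by rw [← e1, smul_smul, mul_inv_cancel₀ hD, one_smul]
      have e00 := congrFun (congrFun e2 0) 0
      have e01 := congrFun (congrFun e2 0) 1
      have e10 := congrFun (congrFun e2 1) 0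
      have e11 := congrFun (congrFun e2 1) 1
      simp [Matrix.mul_apply, Fin.sum_univ_two, Matrix.det_fin_two] at e00 e01 e10 e11
      have ht : G.1.1 0 0 + G.1.1 1 1 ≠ 0 := fun ht => hD (by
        rw [Matrix.det_fin_two]
        refine (mul_eq_zero.mp (show (2 : F) * (G.1.1 0 0 * G.1.1 1 1 - G.1.1 0 1 * G.1.1 1 0) = 0 by
          linear_combination (G.1.1 0 0) * ht - e00)).resolve_left h2)
      have h01 : G.1.1 0 1 = 0 := (mul_eq_zero.mp (show G.1.1 0 1 * (G.1.1 0 0 + G.1.1 1 1) = 0 by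
        linear_combination e01)).resolve_right ht
      have h10 : G.1.1 1 0 = 0 := (mul_eq_zero.mp (show G.1.1 1 0 * (G.1.1 0 0 + G.1.1 1 1) = 0 by
        linear_combination e10)).resolve_right ht
      have h00 : G.1.1 1 1 = G.1.1 0 0 :=
        (sub_eq_zero.mp ((mul_eq_zero.mp (show (G.1.1 1 1 - G.1.1 0 0) * (G.1.1 0 0 + G.1.1 1 1) = 0 by
          linear_combination e11 - e00)).resolve_right ht))
      refine pgm_one_of_scalar (z := G.1.1 0 0) ?_
      ext i j
      fin_cases i <;> fin_cases j <;> simp [h01, h10, h00]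
    · intro e
      obtain ⟨z, hz0, hz⟩ := scalar_of_pgm_one e
      have hz' : G.1.1 = z • (1 : M2) := hz
      refine Subtype.ext (Subtype.ext ?_)
      show G.1.1.det⁻¹ • (G.1.1 * G.1.1) = 1
      rw [hz', Matrix.det_smul, Fintype.card_fin, Matrix.det_one, mul_one, smul_mul_assoc, mul_smul_comm,
        smul_smul, smul_smul, one_mul]
      rw [show (z ^ 2)⁻¹ * z * z = 1 by field_simp, one_smul]
  haveI := (SL2Tori.isCyclic_centralizer hb).1
  have he : (pgm.comp Z.subtype).range ≃* ψ.range :=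
    (QuotientGroup.quotientKerEquivRange _).symm.trans
      ((QuotientGroup.quotientMulEquivOfEq hker.symm).trans (QuotientGroup.quotientKerEquivRange _))
  rw [ctr, show Z.map pgm = (pgm.comp Z.subtype).range by rw [MonoidHom.range_comp, Subgroup.range_subtype]]
  exact isCyclic_of_surjective he.symm he.symm.surjective

theorem ctr_le_stab {b : SL} (hb : b.1.trace ^ 2 ≠ 4) : ctr b ≤ stab (cT b) := by
  intro g hg
  obtain ⟨G, hG, rfl⟩ := mem_ctr.mp hg
  have hfix : ∀ y ∈ cT b, act (pgm G) y = y := fun y hy => by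
    obtain ⟨h, rfl⟩ := mk_surj y
    rw [mem_cT] at hy
    obtain ⟨a, a', ha⟩ := SL2Centralizer.exists_of_commute (SL2Centralizer.not_scalar_of_trace hb)
      (show Commute h.1 b.1 from congrArg Subtype.val hy)
    rw [act_pgm, PSL2.diagAut_apply]
    congr 1
    refine Subtype.ext ?_
    rw [PSL2.coe_conjSL, ha, (((Commute.one_right G.1).smul_right a).add_right (hG.smul_right a')).eq,
      mul_assoc, Units.mul_inv, mul_one]
  rw [mem_stab]
  intro y
  refine ⟨fun hy => by rw [hfix y hy]; exact hy, fun hy => ?_⟩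
  rwa [(act (pgm G)).injective (hfix _ hy)] at hy

/-- The torus case: `M` is dihedral. -/
theorem torus_case (hp2 : p ≠ 2) (h5 : 5 ≤ q) {M : Subgroup PGL} (h : Setup M) {x : PSL} (hx : SS p x)
    (hxM : x ∈ M.comap phi) (hN : M.comap phi ≤ Subgroup.normalizer ((psl p).T x : Set PSL)) :
    ∃ (w : PSL) (n : ℕ), SS p w ∧ (2 * n = q + 1 ∨ 2 * n = q - 1) ∧
      M.comap phi = Subgroup.normalizer ((psl p).T w : Set PSL) ∧ Nat.card ((psl p).T w) = n ∧
      Nat.card (M.comap phi) = 2 * n ∧ Nonempty (M ≃* DihedralGroup (2 * n)) := by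
  classical
  obtain ⟨w, hw, hwM⟩ := torus_fixed p hp2 h hx hxM hN
  clear hN hxM hx x
  haveI : Finite PGL := Finite.of_surjective _ Matrix.ProjGenLinGroup.mk_surjective
  obtain ⟨n, g, hn, hT, hN2, -, hne, hgN, hgT⟩ := torus_data p (by omega) hw
  have hgcd : Nat.gcd 2 (q - 1) = 2 := by
    rcases gcd_cases (F := F) p with ⟨-, he⟩ | ⟨hg, -⟩
    · exact absurd (FiniteField.odd_card_of_char_ne_two (F := F) (by rw [ringChar.eq F p]; exact hp2)) (by omega)
    · exact hg
  rw [hgcd] at hn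
  have hMs : M = stab ((psl p).T w) := by
    refine h.eq_stab (by omega) (fun e => hw.1 ?_) (fun e => hne ?_) fun g hg y hy => ?_
    · have := (psl p).mem_T w hw
      rwa [e, Subgroup.mem_bot] at this
    · rw [e, Subgroup.normalizer_eq_top]
    · have := ((psl p).T_eq w _ hw (hwM g hg) (SS_act p hw g).1).2
      exact this ▸ act_torus p g hy
  have hbar : M.comap phi = Subgroup.normalizer ((psl p).T w : Set PSL) := by
    ext y
    rw [Subgroup.mem_comap, hMs, mem_stab, Subgroup.mem_normalizer_iff]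
    simp only [act_phi, MulAut.conj_apply]
  have hcb : Nat.card (M.comap phi) = 2 * n := by rw [hbar, hN2]
  refine ⟨w, n, hw, hn, hbar, hT, hcb, ?_⟩
  obtain ⟨b, rfl⟩ := mk_surj w
  have hbt : b.1.trace ^ 2 ≠ 4 := (ss_iff p).mp hw
  rw [T_mk] at hT hMs
  have hle : ctr b ≤ M := hMs ▸ ctr_le_stab hbt
  have hcC : Nat.card (ctr b) = 2 * n := by
    rw [card_two h.index_two (exists_nonsquare_ctr p hp2 hbt), ctr_comap, hT]
  haveI := ctr_cyclic p hp2 hbt
  obtain ⟨a, ha⟩ := IsCyclic.exists_ofOrder_eq_natCard (α := ctr b)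
  have haM : (a : PGL) ∈ M := hle a.2
  obtain ⟨i00, -, -, i11⟩ := Dickson.inv_entries b
  obtain ⟨s, hs⟩ := isConj_iff.mp (PSL2Product.isConj_of_trace hbt (h := b⁻¹) (by
    rw [Matrix.trace_fin_two, Matrix.trace_fin_two, i00, i11, add_comm]))
  have hsT : mk s ∉ cT b := fun hmem => by
    rw [mem_cT] at hmem
    rw [hmem, mul_inv_cancel_right] at hs
    have h1 : b * b = 1 := by nth_rw 2 [hs]; exact mul_inv_cancel b
    refine hw.1 ?_
    by_contra hne1
    have := (PSL2Klein.invol_iff (two_ne p hp2)).mp ⟨hne1, by rw [← map_mul, h1, map_one]⟩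
    have h3 := (PSL2Klein.sq_of_trace (two_ne p hp2) this).1
    rw [h1] at h3
    have h4 := congrFun (congrFun (congrArg Subtype.val h3) 0) 0
    simp at h4
    exact two_ne (F := F) p hp2 (by linear_combination h4)
  have hsN : mk s ∈ Subgroup.normalizer ((psl p).T (mk b) : Set PSL) := mem_norm hw (by
    rw [← map_inv, ← map_mul, ← map_mul, hs, map_inv]; exact inv_mem ((psl p).mem_T _ hw))
  have hs2 : mk s * mk s = 1 := sq_of_not_mem p hw hsN (by rw [T_mk]; exact hsT)
  have hsM : phi (mk s) ∈ M := show mk s ∈ M.comap phi by rw [hbar]; exact hsN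
  refine OrthBinary.dihedral_of_card (by omega) (by rw [h.card, hcb]) ⟨a, haM⟩ ⟨_, hsM⟩ ?_ ?_ ?_ ?_
  · rw [Subgroup.orderOf_mk, Subgroup.orderOf_coe, ha, hcC]
  · exact Subtype.ext (by rw [SubgroupClass.coe_pow, pow_two, ← map_mul, hs2, map_one]; rfl)
  · refine Subtype.ext ?_
    obtain ⟨G, hG, hGa⟩ := mem_ctr.mp a.2
    obtain ⟨u, v, huv⟩ := SL2Centralizer.exists_of_commute (SL2Centralizer.not_scalar_of_trace hbt) hG
    show phi (mk s) * (a : PGL) * (phi (mk s))⁻¹ = (a : PGL)⁻¹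
    rw [phi_mk, ← hGa, ← map_inv, ← map_mul, ← map_mul, ← map_inv]
    refine mul_eq_one_iff_eq_inv.mp ?_
    rw [map_inv, ← map_inv, ← map_mul]
    refine pgm_one_of_scalar (z := u * u + b.1.trace * u * v + v * v) ?_
    rw [Units.val_mul, Units.val_mul, Units.val_mul, huv]
    have e1 : s.1 * b.1 * (s⁻¹).1 = (b⁻¹).1 := congrArg Subtype.val hs
    have e2 : s.1 * (s⁻¹).1 = 1 := congrArg Subtype.val (mul_inv_cancel s)
    show s.1 * (u • 1 + v • b.1) * (s⁻¹).1 * (u • 1 + v • b.1) = _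
    have e3 : s.1 * (u • (1 : M2) + v • b.1) * (s⁻¹).1 = u • (1 : M2) + v • (b⁻¹).1 := by
      rw [Matrix.mul_add, Matrix.add_mul, Matrix.mul_smul, Matrix.mul_smul, Matrix.smul_mul,
        Matrix.smul_mul, Matrix.mul_one, e1, e2]
    rw [e3]
    ext i j
    obtain ⟨i00, i01, i10, i11⟩ := Dickson.inv_entries b
    have hd := Dickson.det_eq b
    fin_cases i <;> fin_cases j <;>
      simp [Matrix.mul_apply, Fin.sum_univ_two, Matrix.trace_fin_two, Matrix.adjugate_fin_two]
    · linear_combination (v * v) * hd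
    · ring
    · ring
    · linear_combination (v * v) * hd
  · intro hmem
    have h1 : phi (mk s) ∈ ctr b := by
      obtain ⟨k, hk⟩ := hmem
      have := congrArg Subtype.val hk
      rw [SubgroupClass.coe_zpow] at this
      change (a : PGL) ^ k = phi (mk s) at this
      exact this ▸ (ctr b).zpow_mem a.2 k
    exact hsT (ctr_comap (b := b) ▸ (h1 : mk s ∈ (ctr b).comap phi))

end CfsgLib.PSL2Max
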