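import Mathlib
import Cfsg.Agent.Lib.PSL2Max.Basic
import Cfsg.Agent.Lib.PSL2Max.Tori

/-!
The small dihedral subgroups of `PSL₂(q)` that are not maximal.
-/

set_option autoImplicit false

namespace CfsgLib.PSL2Max

open CfsgLib.DicksonFull

/-- A Sylow `2`-subgroup below a proper subgroup of larger order is not maximal. -/
theorem not_coatom_sylow {G : Type*} [Group G] [Finite G] {ℓ e : ℕ} [Fact ℓ.Prime] {M K : Subgroup G}
    (hM : Nat.card M = ℓ ^ e) (hG : ¬ ℓ ^ (e + 1) ∣ Nat.card G) (hK : ℓ ^ e ∣ Nat.card K)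
    (hlt : Nat.card M < Nat.card K) (hKG : Nat.card K < Nat.card G) : ¬ IsCoatom M := by
  intro h
  obtain ⟨L, hL⟩ := Sylow.exists_subgroup_card_pow_prime (G := K) ℓ (n := e) hK
  set L' := L.map K.subtype
  have hL' : Nat.card L' = ℓ ^ e := by
    rw [Subgroup.card_map_of_injective K.subtype_injective, hL]
  have key : ∀ X : Subgroup G, Nat.card X = ℓ ^ e → ∃ P : Sylow ℓ G, (P : Subgroup G) = X := fun X hX => by
    obtain ⟨P, hP⟩ := (IsPGroup.of_card (p := ℓ) (n := e) hX).exists_le_sylow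
    obtain ⟨k, hk⟩ := IsPGroup.iff_card.mp P.2
    have hk2 : k ≤ e := by
      by_contra hk3
      exact hG ((pow_dvd_pow ℓ (show e + 1 ≤ k by omega)).trans
        (hk ▸ (P : Subgroup G).card_subgroup_dvd_card))
    exact ⟨P, (Subgroup.eq_of_le_of_card_ge hP (by
      rw [hX, hk]; exact Nat.pow_le_pow_right (Fact.out : ℓ.Prime).pos hk2)).symm⟩
  obtain ⟨P, hP⟩ := key M hM
  obtain ⟨Q, hQ⟩ := key L' hL'
  obtain ⟨c, hc⟩ := MulAction.exists_smul_eq G Q P
  let φ : MulAut G := MulAut.conj c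
  have hQM : L'.map φ.toMonoidHom = M := by rw [← hP, ← hc, ← hQ]; rfl
  have hcK : Nat.card (K.map φ.toMonoidHom) = Nat.card K :=
    Subgroup.card_map_of_injective (f := φ.toMonoidHom) φ.injective
  have hlt' : M < K.map φ.toMonoidHom := by
    refine lt_of_le_of_ne (hQM ▸ Subgroup.map_mono (Subgroup.map_subtype_le L)) fun e' => ?_
    rw [← e'] at hcK
    omega
  rw [h.2 _ hlt', Subgroup.card_top] at hcK
  omega

/-- The normaliser of a Sylow subgroup of prime order below a proper subgroup is not maximal. -/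
theorem not_coatom_normalizer {G : Type*} [Group G] [Finite G] {ℓ : ℕ} [Fact ℓ.Prime] {M T K : Subgroup G}
    (hT : Nat.card T = ℓ) (hG : ¬ ℓ ^ 2 ∣ Nat.card G)
    (hN : Subgroup.normalizer (T : Set G) = M) (hM : Nat.card M = 2 * ℓ) (hK : ℓ ∣ Nat.card K)
    (hmod : (Nat.card K / ℓ) % ℓ ≠ 1) (hlt : Nat.card M < Nat.card K) (hKG : Nat.card K < Nat.card G) :
    ¬ IsCoatom M := by
  intro h
  obtain ⟨L, hL⟩ := Sylow.exists_subgroup_card_pow_prime (G := K) ℓ (n := 1) (by rwa [pow_one])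
  rw [pow_one] at hL
  have hLs : ∃ S : Sylow ℓ K, (S : Subgroup K) = L := by
    obtain ⟨P, hP⟩ := (IsPGroup.of_card (p := ℓ) (n := 1) (by rw [hL, pow_one])).exists_le_sylow
    obtain ⟨k, hk⟩ := IsPGroup.iff_card.mp P.2
    have hk2 : k ≤ 1 := by
      by_contra hk3
      exact hG ((pow_dvd_pow ℓ (show 2 ≤ k by omega)).trans
        ((hk ▸ (P : Subgroup K).card_subgroup_dvd_card).trans K.card_subgroup_dvd_card))
    exact ⟨P, (Subgroup.eq_of_le_of_card_ge hP (by
      rw [hL, hk]; exact (Nat.pow_le_pow_right (Fact.out : ℓ.Prime).pos hk2).trans_eq (pow_one ℓ))).symm⟩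
  obtain ⟨S, hS⟩ := hLs
  set L' := L.map K.subtype
  have hL' : Nat.card L' = ℓ := by rw [Subgroup.card_map_of_injective K.subtype_injective, hL]
  have key : ∀ X : Subgroup G, Nat.card X = ℓ → ∃ P : Sylow ℓ G, (P : Subgroup G) = X := fun X hX => by
    obtain ⟨P, hP⟩ := (IsPGroup.of_card (p := ℓ) (n := 1) (by rw [hX, pow_one])).exists_le_sylow
    obtain ⟨k, hk⟩ := IsPGroup.iff_card.mp P.2
    have hk2 : k ≤ 1 := by
      by_contra hk3
      exact hG ((pow_dvd_pow ℓ (show 2 ≤ k by omega)).trans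
        (hk ▸ (P : Subgroup G).card_subgroup_dvd_card))
    exact ⟨P, (Subgroup.eq_of_le_of_card_ge hP (by
      rw [hX, hk]; exact (Nat.pow_le_pow_right (Fact.out : ℓ.Prime).pos hk2).trans_eq (pow_one ℓ))).symm⟩
  obtain ⟨P, hP⟩ := key T hT
  obtain ⟨Q, hQ⟩ := key L' hL'
  obtain ⟨c, hc⟩ := MulAction.exists_smul_eq G Q P
  let φ : MulAut G := MulAut.conj c
  have hQT : L'.map φ.toMonoidHom = T := by rw [← hP, ← hc, ← hQ]; rfl
  -- the normaliser of `L` in `K`
  set NL := Subgroup.normalizer (L : Set K)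
  set NL' := (NL.map K.subtype).map φ.toMonoidHom
  have hle : NL' ≤ M := by
    rw [← hN, ← hQT]
    exact (Subgroup.map_mono (L.le_normalizer_map K.subtype)).trans (L'.le_normalizer_map _)
  have hcNL : Nat.card NL' = Nat.card NL := by
    rw [Subgroup.card_map_of_injective (f := φ.toMonoidHom) φ.injective,
      Subgroup.card_map_of_injective K.subtype_injective]
  have heq : NL' = M := by
    refine Subgroup.eq_of_le_of_card_ge hle ?_
    obtain ⟨j, hj⟩ : ℓ ∣ Nat.card NL := hL ▸ Subgroup.card_dvd_of_le Subgroup.le_normalizer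
    have hdM : Nat.card NL ∣ 2 * ℓ := hM ▸ hcNL ▸ Subgroup.card_dvd_of_le hle
    have hj2 : j ∣ 2 := by
      rw [hj, mul_comm ℓ j] at hdM
      exact Nat.dvd_of_mul_dvd_mul_right (Fact.out : ℓ.Prime).pos hdM
    rcases (Nat.dvd_prime Nat.prime_two).mp hj2 with rfl | rfl
    · exfalso
      rw [mul_one] at hj
      have hidx := NL.card_mul_index
      rw [hj] at hidx
      have h1 := card_sylow_modEq_one ℓ K
      rw [S.card_eq_index_normalizer] at h1
      change Subgroup.index (Subgroup.normalizer ((S : Subgroup K) : Set K)) % ℓ = 1 % ℓ at h1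
      rw [hS, Nat.mod_eq_of_lt (Fact.out : ℓ.Prime).one_lt] at h1
      refine hmod ?_
      rw [← hidx, Nat.mul_div_cancel_left _ (Fact.out : ℓ.Prime).pos]
      exact h1
    · rw [hcNL, hj, hM, mul_comm]
  have hcK : Nat.card (K.map φ.toMonoidHom) = Nat.card K :=
    Subgroup.card_map_of_injective (f := φ.toMonoidHom) φ.injective
  have hlt' : M < K.map φ.toMonoidHom := by
    refine lt_of_le_of_ne (heq ▸ Subgroup.map_mono (Subgroup.map_subtype_le NL)) fun e' => ?_
    rw [← e'] at hcK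
    omega
  rw [h.2 _ hlt', Subgroup.card_top] at hcK
  omega

variable {F : Type*} [Field F] [Fintype F] (p : ℕ) [Fact p.Prime] [CharP F p]

local notation "PSL" => Matrix.ProjectiveSpecialLinearGroup (Fin 2) F
local notation "q" => Fintype.card F

/-- The small exceptions. -/
theorem dihedral_small (hp2 : p ≠ 2) {M : Subgroup PSL} (hM : IsCoatom M) {T : Subgroup PSL} {n : ℕ}
    (hT : Nat.card T = n) (hN : Subgroup.normalizer (T : Set PSL) = M) (hcM : Nat.card M = 2 * n) :
    ¬ ((2 * n = q - 1 ∧ q < 13 ∧ 5 ≤ q) ∨ (2 * n = q + 1 ∧ (q = 7 ∨ q = 9))) := by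
  intro h
  haveI : Fact (Nat.Prime 2) := ⟨Nat.prime_two⟩
  haveI : Fact (Nat.Prime 3) := ⟨Nat.prime_three⟩
  haveI : Fact (Nat.Prime 5) := ⟨by norm_num⟩
  have hodd : q % 2 = 1 := by
    obtain ⟨k, -, hk⟩ := FiniteField.card F p
    exact Nat.odd_iff.mp (hk ▸ ((Fact.out : p.Prime).odd_of_ne_two hp2).pow)
  have hcard := two_card (F := F) p hp2
  have h2 : (2 : F) ≠ 0 := fun e => by
    have h' : ((2 : ℕ) : F) = 0 := by exact_mod_cast e
    exact hp2 ((Nat.prime_dvd_prime_iff_eq Fact.out Nat.prime_two).mp ((CharP.cast_eq_zero_iff F p 2).mp h'))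
  obtain ⟨A, ⟨eA⟩⟩ := PSL2Platonic.exists_A4 (F := F) h2
  have hA : Nat.card A = 12 := by rw [Nat.card_congr eA.toEquiv, card_a4]
  have hS4 : q = 7 ∨ q = 9 → ∃ B : Subgroup PSL, Nat.card B = 24 := fun h79 => by
    obtain ⟨B, ⟨eB⟩⟩ := PSL2Platonic.exists_S4 (F := F) h2 (FiniteField.isSquare_two_iff.mpr (by omega))
    exact ⟨B, by rw [Nat.card_congr eB.toEquiv, card_s4]⟩
  have hA5 : q = 9 ∨ q = 11 → ∃ B : Subgroup PSL, Nat.card B = 60 := fun h => by
    obtain ⟨B, ⟨eB⟩⟩ := PSL2Platonic.exists_A5 (F := F) h2 (by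
      rcases h with h | h
      · obtain ⟨k, -, hk⟩ := FiniteField.card F p
        obtain rfl : p = 3 := (Nat.prime_dvd_prime_iff_eq Fact.out Nat.prime_three).mp
          ((Fact.out : p.Prime).dvd_of_dvd_pow (show p ∣ 3 ^ 2 by
            rw [show (3 : ℕ) ^ 2 = q by omega, hk]; exact dvd_pow_self p k.ne_zero))
        have h3 : (3 : F) = 0 := by exact_mod_cast CharP.cast_eq_zero F 3
        rw [show (5 : F) = 2 by linear_combination h3]
        exact FiniteField.isSquare_two_iff.mpr (by omega)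
      · refine ⟨4, ?_⟩
        have hcast := FiniteField.cast_card_eq_zero F
        rw [h, Nat.cast_ofNat] at hcast
        linear_combination -hcast)
    exact ⟨B, by rw [Nat.card_congr eB.toEquiv, card_a5]⟩
  rcases h with ⟨hn, h13, h5⟩ | ⟨hn, h79⟩
  · rcases (show q = 5 ∨ q = 7 ∨ q = 9 ∨ q = 11 by omega) with hq | hq | hq | hq <;>
      rw [hq] at hcard <;> norm_num [-Nat.card_eq_fintype_card] at hcard
    · obtain rfl : n = 2 := by omega
      exact not_coatom_sylow (ℓ := 2) (e := 2) (K := A) (by omega) (by omega) (by rw [hA]; norm_num)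
        (by omega) (by omega) hM
    · obtain rfl : n = 3 := by omega
      obtain ⟨B, hB⟩ := hS4 (Or.inl hq)
      exact not_coatom_normalizer (ℓ := 3) (K := B) hT (by omega) hN (by omega) (by omega) (by omega)
        (by omega) (by omega) hM
    · obtain rfl : n = 4 := by omega
      obtain ⟨B, hB⟩ := hS4 (Or.inr hq)
      exact not_coatom_sylow (ℓ := 2) (e := 3) (K := B) (by omega) (by omega) (by rw [hB]; norm_num)
        (by omega) (by omega) hM
    · obtain rfl : n = 5 := by omega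
      obtain ⟨B, hB⟩ := hA5 (Or.inr hq)
      exact not_coatom_normalizer (ℓ := 5) (K := B) hT (by omega) hN (by omega) (by omega) (by omega)
        (by omega) (by omega) hM
  · rcases h79 with hq | hq <;> rw [hq] at hcard <;> norm_num [-Nat.card_eq_fintype_card] at hcard
    · obtain rfl : n = 4 := by omega
      obtain ⟨B, hB⟩ := hS4 (Or.inl hq)
      exact not_coatom_sylow (ℓ := 2) (e := 3) (K := B) (by omega) (by omega) (by rw [hB]; norm_num)
        (by omega) (by omega) hM
    · obtain rfl : n = 5 := by omega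
      obtain ⟨B, hB⟩ := hA5 (Or.inl hq)
      exact not_coatom_normalizer (ℓ := 5) (K := B) hT (by omega) hN (by omega) (by omega) (by omega)
        (by omega) (by omega) hM

end CfsgLib.PSL2Max
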