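import Mathlib

/-!
Arithmetic for subfield subgroups of `PSL₂(q)`.
-/

set_option autoImplicit false

namespace CfsgLib.PSL2Max

theorem sq_sub_one (q : ℕ) : q ^ 2 - 1 = (q + 1) * (q - 1) := by
  rw [← one_pow 2, Nat.sq_sub_sq, one_pow]

/-- `p^b + 1 ∣ 2 (p^(2a) - 1)` forces `b ∣ a`. -/
theorem dvd_of_succ_dvd {p a b : ℕ} (hp : p.Prime) (hb : 1 ≤ b) (ha : 1 ≤ a)
    (h : p ^ b + 1 ∣ 2 * (p ^ (2 * a) - 1)) : b ∣ a := by
  have h1 : p ^ b + 1 ∣ p ^ (2 * b) - 1 := by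
    rw [mul_comm 2 b, pow_mul, sq_sub_one]; exact dvd_mul_right _ _
  have h2 : p ^ b + 1 ∣ 2 * (p ^ (2 * Nat.gcd a b) - 1) := by
    have h3 := Nat.dvd_gcd h (Dvd.dvd.mul_left h1 2)
    rwa [Nat.gcd_mul_left, Nat.pow_sub_one_gcd_pow_sub_one, Nat.gcd_mul_left] at h3
  rw [← Nat.gcd_eq_right_iff_dvd]
  by_contra hne
  obtain ⟨t, ht⟩ := Nat.gcd_dvd_right a b
  have hg0 : 0 < Nat.gcd a b := Nat.gcd_pos_of_pos_left _ ha
  have ht2 : 2 ≤ t := by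
    rcases (show t = 0 ∨ t = 1 ∨ 2 ≤ t by omega) with rfl | rfl | h'
    · omega
    · omega
    · exact h'
  have hle : 2 * Nat.gcd a b ≤ b := by
    calc 2 * Nat.gcd a b = Nat.gcd a b * 2 := mul_comm _ _
      _ ≤ Nat.gcd a b * t := Nat.mul_le_mul_left _ ht2
      _ = b := ht.symm
  set g := Nat.gcd a b with hg
  have hp2 := hp.two_le
  have hpg : p ^ (2 * g) ≤ p ^ b := Nat.pow_le_pow_right hp.pos hle
  have hpg2 : 2 ^ 2 ≤ p ^ (2 * g) :=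
    (Nat.pow_le_pow_left hp2 2).trans (Nat.pow_le_pow_right hp.pos (by omega))
  obtain ⟨k, hk⟩ := h2
  have hk1 : k = 1 := by
    rcases (show k = 0 ∨ k = 1 ∨ 2 ≤ k by omega) with rfl | h' | h'
    · omega
    · exact h'
    · have := Nat.mul_le_mul_left (p ^ b + 1) h'
      omega
  subst hk1
  have hp3 : p ∣ 3 := by
    have h5 : p ∣ 2 * p ^ (2 * g) := Dvd.dvd.mul_left (dvd_pow_self p (by omega)) 2
    rw [show 2 * p ^ (2 * g) = p ^ b + 3 by omega] at h5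
    exact (Nat.dvd_add_right (dvd_pow_self p (by omega))).mp h5
  obtain rfl := (Nat.prime_dvd_prime_iff_eq hp Nat.prime_three).mp hp3
  have h6 : 3 ^ 2 ∣ 2 * 3 ^ (2 * g) := Dvd.dvd.mul_left (pow_dvd_pow 3 (by omega)) 2
  rw [show 2 * 3 ^ (2 * g) = 3 ^ b + 3 by omega] at h6
  have := (Nat.dvd_add_right (pow_dvd_pow 3 (by omega : 2 ≤ b))).mp h6
  norm_num at this

/-- Lagrange forces the larger subfield to be the given one. -/
theorem subfield_eq {p Q q₀ q m r : ℕ} (hp : p.Prime) {n : ℕ} (hq : q = p ^ n) (hQ : 2 ≤ Q) (hq₀ : 2 ≤ q₀)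
    (hm : 2 ≤ m) (hQm : Q ^ m = q) (hr : r.Prime) (hqr : q₀ ^ r = q)
    (h : q₀ * (q₀ ^ 2 - 1) ∣ 2 * (Q * (Q ^ 2 - 1))) : Q = q₀ := by
  obtain ⟨a, -, rfl⟩ := (Nat.dvd_prime_pow hp).mp (show Q ∣ p ^ n by
    rw [← hq, ← hQm]; exact dvd_pow_self Q (by omega))
  obtain ⟨b, -, rfl⟩ := (Nat.dvd_prime_pow hp).mp (show q₀ ∣ p ^ n by
    rw [← hq, ← hqr]; exact dvd_pow_self q₀ hr.ne_zero)
  have ha : 1 ≤ a := by
    by_contra h'
    obtain rfl : a = 0 := by omega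
    simp at hQ
  have hb : 1 ≤ b := by
    by_contra h'
    obtain rfl : b = 0 := by omega
    simp at hq₀
  have hcop : Nat.Coprime (p ^ b + 1) (p ^ a) :=
    Nat.Coprime.pow_right a ((hp.coprime_iff_not_dvd.mpr fun hd =>
      hp.ne_one (Nat.dvd_one.mp ((Nat.dvd_add_right (dvd_pow_self p (by omega))).mp hd))).symm)
  have h1 : p ^ b + 1 ∣ p ^ a * (2 * ((p ^ a) ^ 2 - 1)) := by
    refine (Dvd.dvd.mul_left ?_ _).trans (h.trans (by rw [mul_left_comm]))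
    rw [sq_sub_one]; exact dvd_mul_right _ _
  have h2 := hcop.dvd_of_dvd_mul_left h1
  rw [← pow_mul, mul_comm a 2] at h2
  obtain ⟨k, rfl⟩ := dvd_of_succ_dvd hp hb ha h2
  rw [← hqr, ← pow_mul, ← pow_mul] at hQm
  have hkm := Nat.pow_right_injective hp.two_le hQm
  rw [mul_assoc] at hkm
  have hkm' : k * m = r := Nat.eq_of_mul_eq_mul_left (by omega) hkm
  rcases hr.eq_one_or_self_of_dvd k ⟨m, hkm'.symm⟩ with rfl | rfl
  · rw [mul_one]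
  · have : k * 2 ≤ k * m := Nat.mul_le_mul_left _ hm
    have := hr.two_le
    omega

/-- For odd `r` the group `PGL₂(q₀)` has order not dividing that of `PSL₂(q₀^r)`. -/
theorem not_dvd_half {q₀ r N : ℕ} (hodd : Odd q₀) (h3 : 3 ≤ q₀) (hr : Odd r)
    (hN : 2 * N = q₀ ^ r * ((q₀ ^ r) ^ 2 - 1)) : ¬ (q₀ ^ 2 - 1) ∣ N := by
  intro h
  have hS : ∀ k, ∃ S, (q₀ ^ 2) ^ k = (q₀ ^ 2 - 1) * S + 1 ∧ S % 2 = k % 2 := by
    intro k
    induction k with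
    | zero => exact ⟨0, by simp, rfl⟩
    | succ k ih =>
      obtain ⟨S, hS, hS2⟩ := ih
      refine ⟨S * q₀ ^ 2 + 1, ?_, ?_⟩
      · rw [pow_succ, hS]
        have : 1 ≤ q₀ ^ 2 := Nat.one_le_pow _ _ (by omega)
        obtain ⟨c, hc⟩ : ∃ c, q₀ ^ 2 = c + 1 := ⟨q₀ ^ 2 - 1, by omega⟩
        rw [hc, Nat.add_sub_cancel]; ring
      · rw [Nat.add_mod, Nat.mul_mod, Nat.pow_mod, Nat.odd_iff.mp hodd, hS2]
        omega
  obtain ⟨S, hS', hS2⟩ := hS r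
  rw [Nat.odd_iff.mp hr] at hS2
  have e : (q₀ ^ r) ^ 2 - 1 = (q₀ ^ 2 - 1) * S := by
    rw [← pow_mul, mul_comm r 2, pow_mul, hS', Nat.add_sub_cancel]
  obtain ⟨t, ht⟩ := h
  rw [e, ht] at hN
  have hpos : 0 < q₀ ^ 2 - 1 := by
    have := Nat.pow_le_pow_left h3 2
    omega
  have h2 : 2 * t = q₀ ^ r * S := Nat.eq_of_mul_eq_mul_left hpos (by linarith)
  have := congrArg (· % 2) h2
  simp [Nat.mul_mod, Nat.pow_mod, Nat.odd_iff.mp hodd, hS2] at this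

end CfsgLib.PSL2Max
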