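import Mathlib
import Cfsg.Agent.Lib.PSL2Max.Poly
import Cfsg.Agent.Lib.PSL2Max.Arith
import Cfsg.Agent.Lib.DicksonFull.FieldCase

/-!
The remaining maximal subgroups of `PSL₂(q)`: `A₅`, `S₄` and the subfield type.
-/

set_option autoImplicit false

namespace CfsgLib.PSL2Max

open CfsgLib.DicksonFull
open CfsgLib.PSL2 (mk)

theorem two_ne_five : (2 : ZMod 5) ≠ 0 := by decide

theorem five_sq : IsSquare (5 : ZMod 5) := ⟨0, by decide⟩

variable {F : Type*} [Field F] [Fintype F]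

local notation "SL" => Matrix.SpecialLinearGroup (Fin 2) F
local notation "PSL" => Matrix.ProjectiveSpecialLinearGroup (Fin 2) F

variable (p : ℕ) [Fact p.Prime] [CharP F p]

include p in
/-- An element of order four in `scaled S` when `S` has `5` and `F` has `25` elements. -/
theorem exists_order_four (hp : p = 5) (hF : Fintype.card F = 25) (S : Subfield F) :
    ∃ g ∈ scaled S, g ^ 4 = 1 ∧ g ^ 2 ≠ 1 := by
  subst hp
  have h2 : (2 : F) ≠ 0 := two_ne 5 (by norm_num)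
  obtain ⟨r, hr⟩ : IsSquare (2 : F) := FiniteField.isSquare_two_iff.mpr (by rw [hF]; norm_num)
  have hr0 : r ≠ 0 := fun e => h2 (by rw [hr, e, mul_zero])
  have h5 : (5 : F) = 0 := by exact_mod_cast CharP.cast_eq_zero F 5
  have h4 : (r ^ 4 : F) = -1 := by linear_combination (-(r * r) - 2) * hr + h5
  refine ⟨mk (PSL2.dSL r hr0), mem_scaled hr0 fun i j => ?_, ?_, ?_⟩
  · fin_cases i <;> fin_cases j <;> simp [PSL2.coe_dSL, S.zero_mem, S.one_mem, hr0]
    rw [← hr]
    exact_mod_cast natCast_mem S 2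
  · rw [← map_pow, ← map_one (mk : SL →* PSL), PSL2.mk_eq_mk]
    right
    ext i j
    fin_cases i <;> fin_cases j <;> simp [PSL2.coe_dSL, Matrix.SpecialLinearGroup.coe_pow, pow_succ]
    all_goals first | linear_combination h4 | skip
    all_goals (field_simp; linear_combination h4)
  · intro h
    rw [← map_pow, ← map_one (mk : SL →* PSL), PSL2.mk_eq_mk] at h
    simp only [Matrix.SpecialLinearGroup.coe_pow, PSL2.coe_dSL, pow_two] at h
    rcases h with h | h <;> have h' := congrFun (congrFun h 0) 0 <;>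
      simp [Matrix.mul_apply, Fin.sum_univ_two, PSL2.coe_dSL, ← hr] at h'
    · exact one_ne_zero (show (1 : F) = 0 by first | linear_combination h' | linear_combination -h')
    · have h3 : (3 : F) = 0 := by first | linear_combination h' | linear_combination -h'
      exact one_ne_zero (show (1 : F) = 0 by linear_combination 2 * h3 - h5)

/-- `A₅` maximal. -/
theorem case_a5 (hp2 : p ≠ 2) (h5' : 5 ≤ Fintype.card F) {M : Subgroup PSL} (hM : IsCoatom M)
    (e : M ≃* alternatingGroup (Fin 5)) :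
    (∃ (F₀ : Type) (_ : Field F₀) (_ : Fintype F₀) (r : ℕ), r.Prime ∧ Odd r ∧
      Fintype.card F = Fintype.card F₀ ^ r ∧ Nonempty (M ≃* Matrix.ProjectiveSpecialLinearGroup (Fin 2) F₀)) ∨
    ((Fintype.card F % 10 = 1 ∨ Fintype.card F % 10 = 9) ∧
      (Fintype.card F = p ∨ (Fintype.card F = p ^ 2 ∧ (p % 10 = 3 ∨ p % 10 = 7)))) := by
  classical
  have hp := (Fact.out : p.Prime)
  have h2 := two_ne (F := F) p hp2
  haveI : Fact (Nat.Prime 5) := ⟨by norm_num⟩
  obtain ⟨n, -, hn⟩ := FiniteField.card F p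
  have hcM : Nat.card M = 60 := by rw [Nat.card_congr e.toEquiv, card_a5]
  have hc := two_card (F := F) p hp2
  have h5G : 5 ∣ Fintype.card F * (Fintype.card F ^ 2 - 1) :=
    hc ▸ ((dvd_trans (show 5 ∣ 60 by norm_num) (hcM ▸ M.card_subgroup_dvd_card)).mul_left 2)
  have hpodd : p % 2 = 1 := Nat.odd_iff.mp (hp.odd_of_ne_two hp2)
  have hqodd : Fintype.card F % 2 = 1 :=
    Nat.odd_iff.mp (hn ▸ ((Fact.out : p.Prime).odd_of_ne_two hp2).pow)
  obtain ⟨x, y, hxM, hyM, hx1, hy1, hxy, hx2, hy2, hcomm⟩ : ∃ x y : PSL, x ∈ M ∧ y ∈ M ∧ x ≠ 1 ∧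
      y ≠ 1 ∧ x ≠ y ∧ x ^ 2 = 1 ∧ y ^ 2 = 1 ∧ Commute x y := by
    have hd : ∃ a b : alternatingGroup (Fin 5), a ≠ 1 ∧ b ≠ 1 ∧ a ≠ b ∧ a ^ 2 = 1 ∧ b ^ 2 = 1 ∧
        a * b = b * a := by
      obtain ⟨vx1, vy1, vxy, vx2, vy2, vc, sx, sy⟩ := v4_facts
      let ι : Equiv.Perm (Fin 4) →* Equiv.Perm (Fin 5) :=
        Equiv.Perm.extendDomainHom (Fin.castSuccEmb.toEquivRange)
      have hι : Function.Injective ι := Equiv.Perm.extendDomainHom_injective _
      have hs : ∀ a : Equiv.Perm (Fin 4), Equiv.Perm.sign a = 1 → ι a ∈ alternatingGroup (Fin 5) :=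
        fun a ha => by
          rw [Equiv.Perm.mem_alternatingGroup]
          show Equiv.Perm.sign (Equiv.Perm.extendDomain _ _) = 1
          rw [Equiv.Perm.sign_extendDomain]; exact ha
      refine ⟨⟨ι v4x, hs _ sx⟩, ⟨ι v4y, hs _ sy⟩, fun h => vx1 (hι ?_), fun h => vy1 (hι ?_),
        fun h => vxy (hι (congrArg Subtype.val h)), Subtype.ext ?_, Subtype.ext ?_, Subtype.ext ?_⟩
      · rw [map_one]; exact congrArg Subtype.val h
      · rw [map_one]; exact congrArg Subtype.val h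
      · show ι v4x ^ 2 = 1
        rw [← map_pow, vx2, map_one]
      · show ι v4y ^ 2 = 1
        rw [← map_pow, vy2, map_one]
      · show ι v4x * ι v4y = ι v4y * ι v4x
        rw [← map_mul, ← map_mul, vc]
    obtain ⟨a, b, h1, h2', h3, h4, h5, h6⟩ := hd
    refine ⟨(e.symm a : M), (e.symm b : M), (e.symm a).2, (e.symm b).2, ?_, ?_, ?_, ?_, ?_, ?_⟩
    · exact fun h => h1 (e.symm.injective ((Subtype.ext h : e.symm a = 1).trans (map_one _).symm))
    · exact fun h => h2' (e.symm.injective ((Subtype.ext h : e.symm b = 1).trans (map_one _).symm))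
    · exact fun h => h3 (e.symm.injective (Subtype.ext h))
    · rw [← SubgroupClass.coe_pow, ← map_pow, h4, map_one]; rfl
    · rw [← SubgroupClass.coe_pow, ← map_pow, h5, map_one]; rfl
    · show (e.symm a : PSL) * (e.symm b : M) = (e.symm b : PSL) * (e.symm a : M)
      rw [← Subgroup.coe_mul, ← Subgroup.coe_mul, ← map_mul, ← map_mul, h6]
  have horder : ∀ L : SL, mk L ∈ M → mk L ^ 2 = 1 ∨ mk L ^ 3 = 1 ∨ mk L ^ 5 = 1 := fun L hL => by
    rcases a5_orders (e ⟨_, hL⟩) with h | h | h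
    · left; exact congrArg Subtype.val (e.injective (by rw [map_pow, h, map_one]) : (⟨_, hL⟩ : M) ^ 2 = 1)
    · right; left
      exact congrArg Subtype.val (e.injective (by rw [map_pow, h, map_one]) : (⟨_, hL⟩ : M) ^ 3 = 1)
    · right; right
      exact congrArg Subtype.val (e.injective (by rw [map_pow, h, map_one]) : (⟨_, hL⟩ : M) ^ 5 = 1)
  have step : ∀ (k : ℕ) (S : Subfield F), Nat.card S = p ^ k → k ≠ n → (∀ r : F, r ^ 2 = 5 → r ∈ S) →
      p ^ k ∣ Nat.card M ∧ (∃ m, m.Prime ∧ (n : ℕ) = k * m) ∧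
        ∃ N : GL (Fin 2) F, M.map (PSL2.diagAut N).toMonoidHom = scaled S := fun k S hS hk h5 =>
    poly_step p hp2 hn hM hxM hyM hx1 hy1 hxy hx2 hy2 hcomm hS hk (scal_one hxM hyM fun L hL => by
      rcases horder L hL with h | h | h
      exacts [trace_mem_23 (Or.inl h), trace_mem_23 (Or.inr h), trace_mem_5 h2 h5 h])
  have h5F : ∀ r : F, r ^ 2 = 5 → r ^ 2 = ZMod.castHom (dvd_refl p) F ((5 : ℕ) : ZMod p) := fun r hr => by
    rw [map_natCast, hr]; norm_num
  by_cases hp5 : p = 5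
  · left
    obtain ⟨S, hS⟩ := exists_subfield_card p hn (one_dvd (n : ℕ))
    have hn1 : (1 : ℕ) ≠ n := fun h => by
      refine hM.1 (Subgroup.eq_top_of_le_card M ?_)
      rw [← h, pow_one, hp5] at hn
      rw [hn] at hc
      norm_num [-Nat.card_eq_fintype_card] at hc
      omega
    obtain ⟨-, ⟨m, hm, hnm⟩, N, hN⟩ := step 1 S hS hn1 fun r hr =>
      sqrt_mem_square p _ ⟨0, by rw [hp5.symm]; simp⟩ r (h5F r hr)
    rw [one_mul] at hnm
    have hmo : Odd m := hm.odd_of_ne_two fun h2' => by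
      rw [hnm, h2', hp5] at hn
      obtain ⟨g, hg, hg4, hg2⟩ := exists_order_four p hp5 (by rw [hn]; norm_num) S
      rw [← hN] at hg
      obtain ⟨z, hz, rfl⟩ := hg
      rw [← map_pow, MulEquiv.coe_toMonoidHom, MulEquiv.map_eq_one_iff] at hg4
      rw [← map_pow, MulEquiv.coe_toMonoidHom, Ne, MulEquiv.map_eq_one_iff] at hg2
      set w := e ⟨z, hz⟩ with hw
      have hw4 : w ^ 4 = 1 := by
        rw [hw, ← map_pow, show (⟨z, hz⟩ : M) ^ 4 = 1 from Subtype.ext hg4, map_one]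
      refine hg2 ?_
      have hw2 : w ^ 2 = 1 := by
        rcases a5_orders w with h | h | h
        · exact h
        · have : w = 1 := by rw [pow_succ, h, one_mul] at hw4; exact hw4
          rw [this, one_pow]
        · have : w = 1 := by rw [pow_succ, hw4, one_mul] at h; exact h
          rw [this, one_pow]
      exact congrArg Subtype.val (e.injective (by rw [map_pow, ← hw, hw2, map_one]) : (⟨z, hz⟩ : M) ^ 2 = 1)
    refine psl_type (ZMod 5) ?_ m hm hmo (by rw [hn, hnm, hp5, ZMod.card])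
    obtain ⟨A, ⟨eA⟩⟩ := PSL2Platonic.exists_A5 (F := ZMod 5) two_ne_five five_sq
    have hA : A = ⊤ := Subgroup.eq_top_of_card_eq A (by
      have hc3 := two_card (F := ZMod 5) 5 (by norm_num)
      rw [ZMod.card] at hc3
      rw [Nat.card_congr eA.toEquiv, card_a5]
      omega)
    subst hA
    exact ⟨e.trans (eA.symm.trans Subgroup.topEquiv)⟩
  right
  have hcop : Nat.Coprime 5 p := (Nat.coprime_primes (by norm_num) hp).mpr (Ne.symm hp5)
  have hq5 : Fintype.card F % 5 = 1 ∨ Fintype.card F % 5 = 4 := by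
    have hcopq : Nat.Coprime 5 (Fintype.card F) := hn ▸ hcop.pow_right _
    have h := hcopq.dvd_of_dvd_mul_left h5G
    rw [sq_sub_one, Nat.Prime.dvd_mul (by norm_num)] at h
    omega
  refine ⟨by omega, ?_⟩
  have h60 : ∀ k, 1 ≤ k → p ^ k ∣ 60 → (k = 1 ∧ (p = 3 ∨ p = 5)) := fun k hk hd => by
    have hp60 := (dvd_pow_self p (by omega : k ≠ 0)).trans hd
    obtain rfl | rfl : p = 3 ∨ p = 5 := by
      rcases hp.dvd_mul.mp (show p ∣ 4 * 15 from hp60) with h | h
      · exact absurd ((Nat.prime_dvd_prime_iff_eq hp Nat.prime_two).mp (hp.dvd_of_dvd_pow (show p ∣ 2 ^ 2 from h))) hp2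
      · rcases hp.dvd_mul.mp (show p ∣ 3 * 5 from h) with h | h
        · exact Or.inl ((Nat.prime_dvd_prime_iff_eq hp Nat.prime_three).mp h)
        · exact Or.inr ((Nat.prime_dvd_prime_iff_eq hp (by norm_num)).mp h)
    · refine ⟨?_, Or.inl rfl⟩
      by_contra h
      exact absurd ((pow_dvd_pow 3 (show 2 ≤ k by omega)).trans hd) (by norm_num)
    · exact absurd rfl hp5
  by_cases hsq5 : p % 5 = 1 ∨ p % 5 = 4
  · left
    obtain ⟨S, hS⟩ := exists_subfield_card p hn (one_dvd (n : ℕ))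
    by_cases hn1 : (1 : ℕ) = n
    · rw [hn, ← hn1, pow_one]
    exfalso
    have hsq : IsSquare ((5 : ℕ) : ZMod p) := by
      rw [← ZMod.exists_sq_eq_prime_iff_of_mod_four_eq_one (p := 5) (q := p) (by norm_num) hp2]
      rw [← ZMod.natCast_mod p 5]
      rcases hsq5 with hm | hm <;> rw [hm]
      exacts [⟨1, by norm_num⟩, ⟨2, by norm_num⟩]
    obtain ⟨hd, -, -⟩ := step 1 S hS hn1 fun r hr => sqrt_mem_square p _ hsq r (h5F r hr)
    rw [hcM] at hd
    obtain ⟨-, h3 | h3⟩ := h60 1 le_rfl hd <;> omega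
  · right
    have hp10 : p % 10 = 3 ∨ p % 10 = 7 := by
      have h05 : p % 5 ≠ 0 := fun h =>
        hp5 ((Nat.prime_dvd_prime_iff_eq (by norm_num) hp).mp (Nat.dvd_of_mod_eq_zero h)).symm
      omega
    have hev : Even (n : ℕ) := by
      by_contra hodd
      obtain ⟨j, hj⟩ := Nat.not_even_iff_odd.mp hodd
      rw [hn, hj, pow_succ, pow_mul, Nat.mul_mod, Nat.pow_mod] at hq5
      have hsq : p ^ 2 % 5 = 4 := by
        rw [Nat.pow_mod]
        rcases (show p % 5 = 2 ∨ p % 5 = 3 by omega) with h | h <;> rw [h] <;> rfl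
      rw [hsq] at hq5
      have h4 : ∀ j, 4 ^ j % 5 = 1 ∨ 4 ^ j % 5 = 4 := fun j => by
        induction j with
        | zero => simp
        | succ j ih => rw [pow_succ, Nat.mul_mod]; rcases ih with h | h <;> rw [h] <;> norm_num
      rcases (show p % 5 = 2 ∨ p % 5 = 3 by omega) with h | h <;> rcases h4 j with h' | h' <;>
        rw [h, h'] at hq5 <;> omega
    obtain ⟨S, hS⟩ := exists_subfield_card p hn (even_iff_two_dvd.mp hev)
    by_cases hn2 : (2 : ℕ) = n
    · exact ⟨by rw [hn, ← hn2], hp10⟩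
    exfalso
    obtain ⟨hd, -, -⟩ := step 2 S hS hn2 fun r hr => sqrt_mem p hS _ r (h5F r hr)
    rw [hcM] at hd
    obtain ⟨h, -⟩ := h60 2 (by norm_num) hd
    omega

/-- `S₄` maximal. -/
theorem case_s4 (hp2 : p ≠ 2) (h5 : 5 ≤ Fintype.card F) {M : Subgroup PSL} (hM : IsCoatom M)
    (e : M ≃* Equiv.Perm (Fin 4)) :
    (∃ (F₀ : Type) (_ : Field F₀) (_ : Fintype F₀),
      Fintype.card F = Fintype.card F₀ ^ 2 ∧ Nonempty (M ≃* Matrix.ProjGenLinGroup (Fin 2) F₀)) ∨
    (Fintype.card F = p ∧ (p % 8 = 1 ∨ p % 8 = 7)) := by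
  classical
  have hp := (Fact.out : p.Prime)
  have h2 := two_ne (F := F) p hp2
  obtain ⟨n, -, hn⟩ := FiniteField.card F p
  have hcM : Nat.card M = 24 := by rw [Nat.card_congr e.toEquiv, card_s4]
  have h8 := (eight_dvd_iff (F := F) p hp2).mp
    ((show 8 ∣ 24 by norm_num).trans (hcM ▸ M.card_subgroup_dvd_card))
  obtain ⟨r, hr⟩ : IsSquare (2 : F) := FiniteField.isSquare_two_iff.mpr (by omega)
  have hr0 : r ≠ 0 := fun e => h2 (by rw [hr, e, mul_zero])
  obtain ⟨vx1, vy1, vxy, vx2, vy2, vc, -, -⟩ := v4_facts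
  set f : Equiv.Perm (Fin 4) →* PSL := M.subtype.comp e.symm.toMonoidHom with hf
  have hfi : Function.Injective f := M.subtype_injective.comp e.symm.injective
  have hfM : ∀ σ, f σ ∈ M := fun σ => (e.symm σ).2
  have hne : ∀ σ, σ ≠ 1 → f σ ≠ 1 := fun σ hσ h => hσ (hfi (h.trans (map_one f).symm))
  have hlift : ∀ z ∈ M, ∃ σ, f σ = z := fun z hz => ⟨e ⟨z, hz⟩, by simp [hf]⟩
  have step : ∀ (k : ℕ) (S : Subfield F), Nat.card S = p ^ k → k ≠ n →
      (∀ σ, (∀ L : SL, (mk L = f σ ∨ mk L = f σ * f v4x ∨ mk L = f σ * f v4y ∨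
          mk L = f σ * (f v4x * f v4y)) → mk L ≠ 1 ∧ mk L ^ 4 = 1) →
        ∃ c : F, c ≠ 0 ∧ ∀ L : SL, (mk L = f σ ∨ mk L = f σ * f v4x ∨ mk L = f σ * f v4y ∨
          mk L = f σ * (f v4x * f v4y)) → c * L.1.trace ∈ S) →
      p ^ k ∣ Nat.card M ∧ (∃ m, m.Prime ∧ (n : ℕ) = k * m) ∧
        ∃ N : GL (Fin 2) F, M.map (PSL2.diagAut N).toMonoidHom = scaled S := by
    intro k S hS hk hodd
    refine poly_step p hp2 hn hM (hfM v4x) (hfM v4y) (hne _ vx1) (hne _ vy1) (fun h => vxy (hfi h))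
      (by rw [← map_pow, vx2, map_one]) (by rw [← map_pow, vy2, map_one])
      (show f v4x * f v4y = f v4y * f v4x by rw [← map_mul, ← map_mul, vc]) hS hk fun z hz => ?_
    obtain ⟨σ, rfl⟩ := hlift z hz
    rcases v4_parity σ with ⟨a, b, c, d⟩ | ⟨a, b, c, d⟩
    · refine ⟨1, one_ne_zero, fun L hL => ?_⟩
      rw [one_mul]
      refine trace_mem_23 ?_
      rcases hL with h | h | h | h <;> rw [h]
      · simp only [← map_pow, ← map_mul]; exact a.imp (fun h => by rw [h, map_one]) (fun h => by rw [h, map_one])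
      · simp only [← map_pow, ← map_mul]; exact b.imp (fun h => by rw [h, map_one]) (fun h => by rw [h, map_one])
      · simp only [← map_pow, ← map_mul]; exact c.imp (fun h => by rw [h, map_one]) (fun h => by rw [h, map_one])
      · simp only [← map_pow, ← map_mul]; exact d.imp (fun h => by rw [h, map_one]) (fun h => by rw [h, map_one])
    · refine hodd σ fun L hL => ?_
      rcases hL with h | h | h | h <;> rw [h] <;> simp only [← map_pow, ← map_mul]
      · exact ⟨hne _ a.1, by rw [a.2, map_one]⟩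
      · exact ⟨hne _ b.1, by rw [b.2, map_one]⟩
      · exact ⟨hne _ c.1, by rw [c.2, map_one]⟩
      · exact ⟨hne _ d.1, by rw [d.2, map_one]⟩
  have h24 : ∀ k, 1 ≤ k → p ^ k ∣ 24 → k = 1 ∧ p = 3 := fun k hk hd => by
    have hd' := (dvd_pow_self p (by omega : k ≠ 0)).trans hd
    obtain rfl : p = 3 := by
      rcases hp.dvd_mul.mp (show p ∣ 8 * 3 from hd') with h | h
      · exact absurd ((Nat.prime_dvd_prime_iff_eq hp Nat.prime_two).mp (hp.dvd_of_dvd_pow (show p ∣ 2 ^ 3 from h))) hp2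
      · exact (Nat.prime_dvd_prime_iff_eq hp Nat.prime_three).mp h
    refine ⟨?_, rfl⟩
    by_contra h
    exact absurd ((pow_dvd_pow 3 (show 2 ≤ k by omega)).trans hd) (by norm_num)
  have hsqrt : ∀ {k : ℕ} {S : Subfield F}, Nat.card S = p ^ k → r ∈ S → ∀ σ,
      (∀ L : SL, (mk L = f σ ∨ mk L = f σ * f v4x ∨ mk L = f σ * f v4y ∨
          mk L = f σ * (f v4x * f v4y)) → mk L ≠ 1 ∧ mk L ^ 4 = 1) →
        ∃ c : F, c ≠ 0 ∧ ∀ L : SL, (mk L = f σ ∨ mk L = f σ * f v4x ∨ mk L = f σ * f v4y ∨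
          mk L = f σ * (f v4x * f v4y)) → c * L.1.trace ∈ S := by
    intro k S _ hrS σ hall
    refine ⟨1, one_ne_zero, fun L hL => ?_⟩
    rw [one_mul]
    obtain ⟨hL1, hL4⟩ := hall L hL
    rcases (trace_of_pow hL1).2.2.1 hL4 with h | h
    · rw [h]; exact S.zero_mem
    · rcases mul_self_eq_mul_self_iff.mp ((pow_two _).symm.trans (h.trans hr)) with h' | h' <;> rw [h']
      exacts [hrS, S.neg_mem hrS]
  have hpodd : p % 2 = 1 := Nat.odd_iff.mp (hp.odd_of_ne_two hp2)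
  obtain ⟨S, hS⟩ := exists_subfield_card p hn (one_dvd (n : ℕ))
  by_cases hn1 : (1 : ℕ) = n
  · right
    rw [← hn1, pow_one] at hn
    exact ⟨hn, hn ▸ h8⟩
  left
  by_cases hp8 : p % 8 = 1 ∨ p % 8 = 7
  · exfalso
    have hrS : r ∈ S := sqrt_mem_square p ((2 : ℕ) : ZMod p)
      (by
        have := (ZMod.exists_sq_eq_two_iff (p := p) hp2).mpr hp8
        exact_mod_cast this)
      r (by rw [map_natCast, pow_two, ← hr]; norm_num)
    obtain ⟨hd, -, -⟩ := step 1 S hS hn1 (hsqrt hS hrS)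
    rw [hcM] at hd
    obtain ⟨-, rfl⟩ := h24 1 le_rfl hd
    omega
  have hev : Even (n : ℕ) := by
    by_contra hodd
    obtain ⟨j, hj⟩ := Nat.not_even_iff_odd.mp hodd
    rw [hn, hj, pow_succ, pow_mul, Nat.mul_mod, Nat.pow_mod] at h8
    have hsq : p ^ 2 % 8 = 1 := by
      rw [Nat.pow_mod]
      rcases (show p % 8 = 3 ∨ p % 8 = 5 by omega) with h | h <;> rw [h] <;> rfl
    rw [hsq, one_pow] at h8
    omega
  by_cases hn2 : (2 : ℕ) = n
  swap
  · exfalso
    obtain ⟨S', hS'⟩ := exists_subfield_card p hn (even_iff_two_dvd.mp hev)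
    have hrS : r ∈ S' := sqrt_mem p hS' ((2 : ℕ) : ZMod p) r (by rw [map_natCast, pow_two, ← hr]; norm_num)
    obtain ⟨hd, -, -⟩ := step 2 S' hS' hn2 (hsqrt hS' hrS)
    rw [hcM] at hd
    obtain ⟨h, -⟩ := h24 2 (by norm_num) hd
    omega
  obtain ⟨hd, -, N, hN⟩ := step 1 S hS hn1 fun σ hall => ⟨r⁻¹, inv_ne_zero hr0, fun L hL => by
    obtain ⟨hL1, hL4⟩ := hall L hL
    rcases (trace_of_pow hL1).2.2.1 hL4 with h | h
    · rw [h, mul_zero]; exact S.zero_mem
    · rcases mul_self_eq_mul_self_iff.mp ((pow_two _).symm.trans (h.trans hr)) with h' | h' <;> rw [h']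
      · rw [inv_mul_cancel₀ hr0]; exact S.one_mem
      · rw [mul_neg, inv_mul_cancel₀ hr0]; exact S.neg_mem S.one_mem⟩
  rw [hcM] at hd
  obtain ⟨-, rfl⟩ := h24 1 le_rfl hd
  rw [← hn2] at hn
  let φ : ZMod 3 →+* F := ZMod.castHom (dvd_refl 3) F
  have hφS : ∀ a, φ a ∈ S := fun a => by
    show ZMod.castHom (dvd_refl 3) F a ∈ S
    rw [← ZMod.natCast_zmod_val a, map_natCast]; exact natCast_mem S _
  obtain ⟨R, ⟨eR⟩, hRS⟩ := exists_pgl φ S hφS fun a => by
    rcases eq_or_ne a 0 with rfl | ha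
    · simp
    rw [FiniteField.isSquare_iff (by rw [ringChar.eq F 3]; norm_num) ((map_ne_zero φ).mpr ha), hn,
      ← map_pow, show (3 : ℕ) ^ 2 / 2 = (3 - 1) * 2 by norm_num, pow_mul, ZMod.pow_card_sub_one_eq_one ha,
      one_pow, map_one]
  refine ⟨ZMod 3, inferInstance, inferInstance, by rw [hn, ZMod.card], ?_⟩
  rw [← hN] at hRS
  have hR : R = M.map (PSL2.diagAut N).toMonoidHom := Subgroup.eq_of_le_of_card_ge hRS (by
    rw [Subgroup.card_map_of_injective (f := (PSL2.diagAut N).toMonoidHom) (PSL2.diagAut N).injective, hcM,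
      Nat.card_congr eR.toEquiv, SLCard.card_PGL, SLCard.card_SL_two, ZMod.card]
    norm_num)
  subst hR
  exact ⟨(M.equivMapOfInjective _ (PSL2.diagAut N).injective).trans eR⟩

/-- The field case, inside `scaled S`. -/
theorem field_scaled {H : Subgroup PSL} {u v : PSL} (huH : u ∈ H) (hu : orderOf u = p)
    (hvH : v ∈ H) (hv : orderOf v = p) (huv : ¬ Commute v u) (Q : ℕ)
    (hQ : Nat.card (H ⊓ cent u : Subgroup PSL) = Q)
    (hh : Nat.card H = (Q + 1) * Nat.card (H ⊓ bor u : Subgroup PSL)) :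
    ∃ (S : Subfield F) (N : GL (Fin 2) F), Nat.card S = Q ∧
      H.map (PSL2.diagAut N).toMonoidHom ≤ scaled S := by
  obtain ⟨G, π, r, hr, hπ, -, -, hup, hw, hpts, hcard, -, N, hN⟩ :=
    normal_form p huH hu hvH hv huv Q hQ hh
  have hinv : ∀ x ∈ Dickson.param G, x ≠ 0 → (-(r ^ 2)⁻¹) / x ∈ Dickson.param G := by
    intro x hx hx0
    refine hpts _ ⟨wel r hr * (Dickson.up x * wel r hr), G.mul_mem hw (G.mul_mem hx hw), ?_, ?_⟩
    · simp [Dickson.mul_entry, coe_wel, hr, hx0]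
    · simp [Dickson.mul_entry, coe_wel, hr]
      field_simp
  have hk0 : (-(r ^ 2)⁻¹ : F) ≠ 0 := neg_ne_zero.mpr (inv_ne_zero (pow_ne_zero 2 hr))
  have hkA : (-(r ^ 2)⁻¹ : F) ∈ Dickson.param G := by simpa using hinv 1 hup one_ne_zero
  obtain ⟨S, hS⟩ := exists_subfield p (Dickson.param G) hup hk0 hkA hinv
  have hA : ∀ t, t ∈ Dickson.param G ↔ t ∈ S := fun t => by rw [← SetLike.mem_coe, ← hS]; rfl
  have hr2 : r ^ 2 ∈ S := by
    have := S.inv_mem (S.neg_mem ((hA _).mp hkA))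
    simpa using this
  refine ⟨S, N, hcard ▸ Nat.card_congr (Equiv.subtypeEquivRight fun t => (hA t).symm), ?_⟩
  rintro _ ⟨z, hz, rfl⟩
  obtain ⟨g, hg⟩ := hπ ⟨z, hz⟩
  have e := hN g
  rw [hg] at e
  show PSL2.diagAut N z ∈ scaled S
  rw [show PSL2.diagAut N z = mk (g : SL) from e]
  obtain ⟨a, ha, -, he⟩ := shape hw hup hA hpts hr2 g.2
  exact mem_scaled (inv_ne_zero ha) fun i j => by rw [inv_mul_eq_div]; exact he i j

/-- The data of a subfield type maximal subgroup: degree a prime, and `φ M = scaled S`. -/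
theorem field_data {M : Subgroup PSL} (hM : IsCoatom M) {u v : PSL} (huH : u ∈ M) (hu : orderOf u = p)
    (hvH : v ∈ M) (hv : orderOf v = p) (huv : ¬ Commute v u) (Q : ℕ)
    (hQ : Nat.card (M ⊓ cent u : Subgroup PSL) = Q)
    (hh : Nat.card M = (Q + 1) * Nat.card (M ⊓ bor u : Subgroup PSL))
    (hlt : Nat.card M < Nat.card PSL)
    (hfull : ∀ m, Q ^ m = Fintype.card F → m = 1 → Nat.card PSL ≤ Nat.card M) :
    ∃ (K : Type) (_ : Field K) (_ : Fintype K) (m : ℕ) (φ : K →+* F) (S : Subfield F) (N : GL (Fin 2) F),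
      m.Prime ∧ Fintype.card K = Q ∧ Fintype.card F = Q ^ m ∧ (∀ a, φ a ∈ S) ∧
      (Nonempty (M ≃* Matrix.ProjectiveSpecialLinearGroup (Fin 2) K) ∨
        Nonempty (M ≃* Matrix.ProjGenLinGroup (Fin 2) K)) ∧
      M.map (PSL2.diagAut N).toMonoidHom = scaled S := by
  classical
  obtain ⟨K, iK, iK', m₀, hm₀, hKQ, hiso⟩ := field_case p huH hu hvH hv huv Q hQ hh
  obtain ⟨S, N, hSQ, hN⟩ := field_scaled p huH hu hvH hv huv Q hQ hh
  have hm1 : m₀ ≠ 1 := fun h => absurd (hfull m₀ (hKQ ▸ hm₀) h) (not_le.mpr hlt)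
  have hm0 : m₀ ≠ 0 := by
    rintro rfl
    rw [pow_zero] at hm₀
    have := Fintype.one_lt_card (α := F)
    omega
  have hne : S ≠ ⊤ := fun e => by
    have := (eq_top_iff_card S).mp e
    rw [hSQ, ← hm₀, hKQ] at this
    exact hm1 (Nat.pow_right_injective (hKQ ▸ Fintype.one_lt_card) (this.symm.trans (pow_one Q).symm))
  obtain ⟨e, hmax, -⟩ := maximal hM (PSL2.diagAut N) hne hN
  obtain ⟨n, -, hn⟩ := FiniteField.card F p
  obtain ⟨s, -, hs⟩ := (Nat.dvd_prime_pow (Fact.out : p.Prime)).mp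
    (show Q ∣ p ^ (n : ℕ) by rw [← hn, ← hm₀, hKQ]; exact dvd_pow_self Q hm0)
  obtain ⟨m, hm, hnm⟩ := prime_degree p hn (hSQ.trans hs) hne hmax
  obtain ⟨φ⟩ := Cfsg.Agent.S0805.exists_emb (F := F) (K := K) m₀ (Nat.pos_of_ne_zero hm0) hm₀
  refine ⟨K, iK, iK', m, φ, S, N, hm, hKQ, by rw [hn, hnm, pow_mul, ← hs], fun a => ?_, hiso, e⟩
  rw [mem_subfield_iff, hSQ, ← hKQ, ← map_pow, FiniteField.pow_card]

end CfsgLib.PSL2Max
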