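import Mathlib
import Cfsg.Agent.Lib.PSL2Max.Poly2
import Cfsg.Agent.Lib.PSL2Max.Tori

/-!
The possible maximal subgroups of `PSL₂(q)`.
-/

set_option autoImplicit false

namespace CfsgLib.PSL2Max

open CfsgLib.DicksonFull
open CfsgLib.PSL2 (mk)

variable {F : Type*} [Field F] [Fintype F] (p : ℕ) [Fact p.Prime] [CharP F p]

local notation "PSL" => Matrix.ProjectiveSpecialLinearGroup (Fin 2) F
local notation "q" => Fintype.card F

/-- The torus normaliser case. -/
theorem shape_torus (h4 : 4 ≤ q) {M : Subgroup PSL} (hM : IsCoatom M) {x : PSL} (hx : SS p x)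
    (h : M ≤ Subgroup.normalizer ((psl p).T x : Set PSL)) :
    ∃ (T : Subgroup PSL) (n : ℕ), (Nat.gcd 2 (q - 1) * n = q + 1 ∨ Nat.gcd 2 (q - 1) * n = q - 1) ∧
      Nat.card T = n ∧ Subgroup.normalizer (T : Set PSL) = M ∧ Nat.card M = 2 * n ∧
      Nonempty (M ≃* DihedralGroup n) := by
  obtain ⟨n, g, hn, hT, hN2, hdih, hne, -, -⟩ := torus_data p h4 hx
  have e : Subgroup.normalizer ((psl p).T x : Set PSL) = M :=
    (h.eq_or_lt.resolve_right fun hlt => hne (hM.2 _ hlt)).symm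
  rw [e] at hN2 hdih
  exact ⟨_, n, hn, hT, e, hN2, hdih⟩

include p in
/-- The shapes of a maximal subgroup. -/
theorem coatom_shape (h4 : 4 ≤ q) {M : Subgroup PSL} (hM : IsCoatom M) :
    Nat.gcd 2 (q - 1) * Nat.card M = q * (q - 1) ∨
    (∃ (T : Subgroup PSL) (n : ℕ), (Nat.gcd 2 (q - 1) * n = q + 1 ∨ Nat.gcd 2 (q - 1) * n = q - 1) ∧
      Nat.card T = n ∧ Subgroup.normalizer (T : Set PSL) = M ∧ Nat.card M = 2 * n ∧
      Nonempty (M ≃* DihedralGroup n)) ∨
    Nonempty (M ≃* alternatingGroup (Fin 4)) ∨ Nonempty (M ≃* Equiv.Perm (Fin 4)) ∨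
    Nonempty (M ≃* alternatingGroup (Fin 5)) ∨
    ∃ (K : Type) (_ : Field K) (_ : Fintype K) (m : ℕ) (φ : K →+* F) (S : Subfield F) (N : GL (Fin 2) F),
      m.Prime ∧ 3 ≤ Fintype.card K ∧ q = Fintype.card K ^ m ∧ (∀ a, φ a ∈ S) ∧
      Nat.card M ≤ Fintype.card K * (Fintype.card K ^ 2 - 1) ∧
      (Nonempty (M ≃* Matrix.ProjectiveSpecialLinearGroup (Fin 2) K) ∨
        Nonempty (M ≃* Matrix.ProjGenLinGroup (Fin 2) K)) ∧
      M.map (PSL2.diagAut N).toMonoidHom = scaled S := by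
  classical
  have hborel : ∀ u : PSL, orderOf u = p → M ≤ bor u →
      Nat.gcd 2 (q - 1) * Nat.card M = q * (q - 1) := fun u hu h => by
    rw [h.eq_or_lt.resolve_right fun hlt => by
      have := index_bor p hu
      rw [hM.2 _ hlt, Subgroup.index_top] at this
      omega, card_bor p hu]
  rcases kind (psl (F := F) p) M with h | ⟨x, hx, hxH, h⟩ | ⟨x, hx, hxH, ⟨e⟩⟩ | h | h | h |
    ⟨u, huH, hu, h⟩ | ⟨u, v, huH, hu, hvH, hv, huv, Q, hQ, h3, hh, hB, -⟩
  · subst h
    obtain ⟨u, hu⟩ := exists_order_p (F := F) p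
    exact Or.inl (hborel u hu bot_le)
  · exact Or.inr (Or.inl (shape_torus p h4 hM hx (h.trans Subgroup.le_normalizer)))
  · refine Or.inr (Or.inl (shape_torus p h4 hM hx fun g hg => ?_))
    have hidx : ((tor (psl p) M x).subgroupOf M).index = 2 := by
      have h1 := ((tor (psl p) M x).subgroupOf M).card_mul_index
      rw [Nat.card_congr (Subgroup.subgroupOfEquivOfLe (show tor (psl p) M x ≤ M from inf_le_left)).toEquiv,
        Nat.card_congr e.toEquiv, DihedralGroup.nat_card, mul_comm 2] at h1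
      exact Nat.eq_of_mul_eq_mul_left Nat.card_pos h1
    haveI hn := Subgroup.normal_of_index_eq_two hidx
    exact mem_norm hx (Subgroup.mem_subgroupOf.mp
      (hn.conj_mem ⟨x, hxH⟩ (Subgroup.mem_subgroupOf.mpr (self_mem_tor hx hxH)) ⟨g, hg⟩)).2
  · exact Or.inr (Or.inr (Or.inl h))
  · exact Or.inr (Or.inr (Or.inr (Or.inl h)))
  · exact Or.inr (Or.inr (Or.inr (Or.inr (Or.inl h))))
  · exact Or.inl (hborel u hu h)
  · refine Or.inr (Or.inr (Or.inr (Or.inr (Or.inr ?_))))
    have hsq : Q * (Q ^ 2 - 1) = (Q + 1) * (Q * (Q - 1)) := by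
      rw [← one_pow 2, Nat.sq_sub_sq, one_pow]; ring
    have hlt : Nat.card M < Nat.card PSL := lt_of_le_of_ne
      (Nat.le_of_dvd Nat.card_pos M.card_subgroup_dvd_card)
      fun e => hM.1 (Subgroup.eq_top_of_le_card M e.ge)
    obtain ⟨K, iK, iK', m, φ, S, N, hm, hKQ, hF, hφS, hiso, e⟩ :=
      field_data p hM huH hu hvH hv huv Q hQ hh hlt fun m hm' h1 => by
        subst h1
        rw [pow_one] at hm'
        subst hm'
        have hc := card_psl (F := F)
        obtain ⟨K', D, -, hD, -, -⟩ := borel_compl (psl p) huH hu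
        rw [hQ] at hD
        rw [hsq] at hc
        rcases gcd_cases (F := F) p with ⟨hg, hev⟩ | ⟨hg, -⟩ <;> rw [hg] at hc <;>
          rcases hB with h | h
        · exfalso
          rw [hD, show 2 * (q * D) = q * (2 * D) by ring] at h
          have := Nat.eq_of_mul_eq_mul_left (show 0 < q by omega) h
          omega
        · rw [hh, h]; omega
        · rw [hh]
          have h2 : (q + 1) * (q * (q - 1)) = 2 * ((q + 1) * Nat.card (M ⊓ bor u : Subgroup PSL)) := by
            rw [← h]; ring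
          omega
        · rw [hh, h]; omega
    refine ⟨K, iK, iK', m, φ, S, N, hm, hKQ ▸ h3, hKQ ▸ hF, hφS, ?_, hiso, e⟩
    rw [hKQ, hh, hsq]
    exact Nat.mul_le_mul_left _ (by rcases hB with h | h <;> omega)

end CfsgLib.PSL2Max
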