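import Mathlib
import Cfsg.Agent.Lib.PSL2Max.Pgl
import Cfsg.Agent.Lib.PSL2Max.Poly
import Cfsg.Agent.Lib.Perm.AutAltGen

/-!
Subgroups of `PGL₂(q)` normalising an alternating subgroup of `PSL₂(q)`.
-/

set_option autoImplicit false

namespace CfsgLib.PSL2Max

open Matrix CfsgLib.DicksonFull
open CfsgLib.PSL2 (mk diagAut conjSL)

variable {F : Type*} [Field F] [Fintype F]

local notation "M2" => Matrix (Fin 2) (Fin 2) F
local notation "SL" => Matrix.SpecialLinearGroup (Fin 2) F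
local notation "PSL" => Matrix.ProjectiveSpecialLinearGroup (Fin 2) F
local notation "PGL" => Matrix.ProjGenLinGroup (Fin 2) F

theorem commute_or_anti {G : GL (Fin 2) F} {A : SL} (h : act (pgm G) (mk A) = mk A) :
    G.1 * A.1 = A.1 * G.1 ∨ G.1 * A.1 = -(A.1 * G.1) := by
  rw [act_pgm, PSL2.diagAut_apply] at h
  rcases eq_or_neg h with e | e
  · left
    have e' := congrArg (fun B : SL => B.1 * G.1) e
    simp only [PSL2.coe_conjSL] at e'
    rw [mul_assoc (G.1 * A.1), Units.inv_mul, mul_one] at e'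
    exact e'.symm
  · right
    have e' := congrArg (fun B : SL => B.1 * G.1) e
    simp only [Matrix.SpecialLinearGroup.coe_neg, PSL2.coe_conjSL, neg_mul] at e'
    rw [mul_assoc (G.1 * A.1), Units.inv_mul, mul_one] at e'
    rw [e', neg_neg]

/-- The centraliser of a Klein four group in `PGL₂`. -/
theorem cent_klein (h2 : (2 : F) ≠ 0) {x y : PSL} (hx1 : x ≠ 1) (hy1 : y ≠ 1) (hxy : x ≠ y) (hx2 : x ^ 2 = 1)
    (hy2 : y ^ 2 = 1) (hc : Commute x y) {g : PGL} (hgx : act g x = x) (hgy : act g y = y) :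
    g = 1 ∨ g = phi x ∨ g = phi y ∨ g = phi (x * y) := by
  obtain ⟨A, rfl⟩ := mk_surj x
  obtain ⟨K, rfl⟩ := mk_surj y
  have hA0 := (PSL2Klein.invol_iff h2).mp ⟨hx1, by rw [← pow_two]; exact hx2⟩
  have hK0 := (PSL2Klein.invol_iff h2).mp ⟨hy1, by rw [← pow_two]; exact hy2⟩
  have hanti : K.1 * A.1 = -(A.1 * K.1) := by
    rcases eq_or_neg (show mk (A * K) = mk (K * A) by rw [map_mul, map_mul]; exact hc) with e | e
    · exfalso
      rcases PSL2Klein.eq_or_eq_neg h2 hA0 hK0 e with rfl | rfl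
      · exact hxy rfl
      · exact hxy (mk_neg A).symm
    · exact congrArg Subtype.val e
  have hAK : A.1 * K.1 = -(K.1 * A.1) := by rw [hanti, neg_neg]
  have hnA := SL2Centralizer.not_scalar_of_trace (g := A) (by rw [hA0]; exact PSL2Klein.zero_sq_ne_four h2)
  have key : ∀ G : GL (Fin 2) F, Commute G.1 A.1 → Commute G.1 K.1 → pgm G = 1 := by
    intro G hGA hGK
    obtain ⟨u, v, huv⟩ := SL2Centralizer.exists_of_commute hnA hGA
    refine pgm_one_of_scalar (z := u) ?_
    have e := hGK.eq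
    rw [huv, add_mul, mul_add, smul_mul_assoc, smul_mul_assoc, mul_smul_comm, mul_smul_comm, one_mul, mul_one,
      add_right_inj, hanti, smul_neg, eq_neg_iff_add_eq_zero, ← two_smul F, smul_smul] at e
    have hv : v = 0 := by
      by_contra hv
      have e0 := (smul_eq_zero.mp e).resolve_left (mul_ne_zero h2 hv)
      have := congrArg Matrix.det e0
      rw [Matrix.det_mul, A.2, K.2, one_mul, Matrix.det_zero] at this
      exact one_ne_zero this
    rw [huv, hv, zero_smul, add_zero]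
  have fin : ∀ (G : GL (Fin 2) F) (Z : SL), mk Z ^ 2 = 1 → Commute (G.1 * Z.1) A.1 → Commute (G.1 * Z.1) K.1 →
      pgm G = phi (mk Z) := by
    intro G Z hZ h1 h2'
    have h := key (G * Matrix.SpecialLinearGroup.toGL Z) h1 h2'
    rw [map_mul, mul_eq_one_iff_eq_inv, ← phi_mk, ← map_inv] at h
    rw [h, inv_eq_iff_mul_eq_one.mpr (by rw [← pow_two]; exact hZ)]
  obtain ⟨G, rfl⟩ := Matrix.ProjGenLinGroup.mk_surjective g
  have cA : A.1 * A.1 = A.1 * A.1 := rfl
  rcases commute_or_anti hgx with eA | eA <;> rcases commute_or_anti hgy with eK | eK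
  · exact Or.inl (key G eA eK)
  · refine Or.inr (Or.inl (fin G A hx2 ?_ ?_))
    · show G.1 * A.1 * A.1 = A.1 * (G.1 * A.1)
      rw [← mul_assoc, ← eA]
    · show G.1 * A.1 * K.1 = K.1 * (G.1 * A.1)
      rw [mul_assoc, hAK, mul_neg, ← mul_assoc, eK, neg_mul, neg_neg, mul_assoc]
  · refine Or.inr (Or.inr (Or.inl (fin G K hy2 ?_ ?_)))
    · show G.1 * K.1 * A.1 = A.1 * (G.1 * K.1)
      rw [mul_assoc, hanti, mul_neg, ← mul_assoc, eA, neg_mul, neg_neg, mul_assoc]
    · show G.1 * K.1 * K.1 = K.1 * (G.1 * K.1)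
      rw [← mul_assoc, ← eK]
  · refine Or.inr (Or.inr (Or.inr (fin G (A * K) ?_ ?_ ?_)))
    · rw [map_mul, hc.mul_pow, hx2, hy2, mul_one]
    · show G.1 * (A.1 * K.1) * A.1 = A.1 * (G.1 * (A.1 * K.1))
      rw [mul_assoc, mul_assoc A.1 K.1 A.1, hanti, mul_neg, mul_neg, ← mul_assoc, eA, neg_mul, neg_neg,
        mul_assoc]
    · show G.1 * (A.1 * K.1) * K.1 = K.1 * (G.1 * (A.1 * K.1))
      rw [← mul_assoc K.1, show K.1 * G.1 = -(G.1 * K.1) by rw [eK, neg_neg], neg_mul,
        mul_assoc G.1 K.1, ← mul_assoc K.1 A.1, hanti, neg_mul, mul_neg, neg_neg, mul_assoc]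

/-- A subgroup of `PGL₂` stabilising an alternating subgroup of `PSL₂` embeds into the symmetric group. -/
theorem alt_embed (h2 : (2 : F) ≠ 0) {n : ℕ} (hn : 4 ≤ n)
    (h3 : ∀ a : alternatingGroup (Fin n), a ^ 3 = 1 → a ≠ 1 → Equiv.Perm.IsThreeCycle (a : Equiv.Perm (Fin n)))
    {M : Subgroup PGL} {B : Subgroup PSL} (e : B ≃* alternatingGroup (Fin n))
    (hst : ∀ g ∈ M, ∀ y ∈ B, act g y ∈ B) {x y : PSL} (hx : x ∈ B) (hy : y ∈ B) (hx1 : x ≠ 1) (hy1 : y ≠ 1)
    (hxy : x ≠ y) (hx2 : x ^ 2 = 1) (hy2 : y ^ 2 = 1) (hc : Commute x y) :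
    ∃ f : M →* Equiv.Perm (Fin n), Function.Injective f ∧ ∀ (g : M) (z : B),
      ((e ⟨act (g : PGL) z, hst g g.2 z z.2⟩ : alternatingGroup (Fin n)) : Equiv.Perm (Fin n)) =
        f g * (e z : Equiv.Perm (Fin n)) * (f g)⁻¹ := by
  classical
  let r : M →* MulAut B := MonoidHom.mk' (fun g =>
      { toFun := fun z => ⟨act (g : PGL) z, hst g g.2 z z.2⟩
        invFun := fun z => ⟨act (g : PGL)⁻¹ z, hst _ (M.inv_mem g.2) z z.2⟩
        left_inv := fun z => Subtype.ext (by
          show act (g : PGL)⁻¹ (act (g : PGL) z) = (z : PSL)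
          rw [← MulAut.mul_apply, ← map_mul, inv_mul_cancel, map_one]; rfl)
        right_inv := fun z => Subtype.ext (by
          show act (g : PGL) (act (g : PGL)⁻¹ z) = (z : PSL)
          rw [← MulAut.mul_apply, ← map_mul, mul_inv_cancel, map_one]; rfl)
        map_mul' := fun z z' => Subtype.ext (map_mul (act (g : PGL)) _ _) })
    (fun g g' => MulEquiv.ext fun z => Subtype.ext (by
      show act ((g : PGL) * (g' : PGL)) z = act (g : PGL) (act (g' : PGL) z)
      rw [map_mul]; rfl))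
  let ψ : M →* MulAut (alternatingGroup (Fin n)) := (MulAut.congr e).toMonoidHom.comp r
  have hψ : ∀ (g : M) (z : B), ψ g (e z) = e ⟨act (g : PGL) z, hst g g.2 z z.2⟩ := fun g z => by
    show e (r g (e.symm (e z))) = _
    rw [MulEquiv.symm_apply_apply]; rfl
  have hinj := AutAltGen.conjNormal_injective n hn
  have hrange : ∀ g : M, ψ g ∈ (MulAut.conjNormal : Equiv.Perm (Fin n) →* MulAut (alternatingGroup (Fin n))).range :=
    fun g => by
      obtain ⟨σ, hσ⟩ := AutAltGen.exists_conjNormal n hn (ψ g) fun a ha => h3 _ (by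
        rw [← map_pow, show a ^ 3 = 1 from Subtype.ext (by
          rw [SubgroupClass.coe_pow, ← ha.orderOf, pow_orderOf_eq_one]; rfl), map_one]) (fun e1 => by
        rw [MulEquiv.map_eq_one_iff] at e1
        exact ha.ne_one (by rw [e1]; rfl))
      exact ⟨σ, hσ⟩
  let f : M →* Equiv.Perm (Fin n) :=
    (MonoidHom.ofInjective hinj).symm.toMonoidHom.comp (ψ.codRestrict _ hrange)
  have hf : ∀ g : M, MulAut.conjNormal (f g) = ψ g := fun g =>
    congrArg Subtype.val ((MonoidHom.ofInjective hinj).apply_symm_apply ⟨ψ g, hrange g⟩)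
  refine ⟨f, ?_, fun g z => ?_⟩
  · rw [injective_iff_map_eq_one]
    intro g hg
    have hfix : ∀ z : B, act (g : PGL) z = z := fun z => by
      have h := hψ g z
      rw [← hf, hg, map_one] at h
      rw [MulAut.one_apply] at h
      exact congrArg Subtype.val (e.injective h.symm)
    obtain ⟨z, hzB, hz⟩ : ∃ z ∈ B, (g : PGL) = phi z := by
      rcases cent_klein h2 hx1 hy1 hxy hx2 hy2 hc (hfix ⟨x, hx⟩) (hfix ⟨y, hy⟩) with h | h | h | h
      · exact ⟨1, one_mem _, by rw [h, map_one]⟩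
      · exact ⟨x, hx, h⟩
      · exact ⟨y, hy, h⟩
      · exact ⟨x * y, mul_mem hx hy, h⟩
    have hcen : MulAut.conjNormal ((e ⟨z, hzB⟩ : alternatingGroup (Fin n)) : Equiv.Perm (Fin n)) =
        (1 : MulAut (alternatingGroup (Fin n))) := MulEquiv.ext fun a => Subtype.ext (by
      obtain ⟨w, rfl⟩ := e.surjective a
      rw [MulAut.conjNormal_apply, MulAut.one_apply]
      have h := hfix w
      rw [hz, act_phi, MulAut.conj_apply] at h
      have h' : (⟨z, hzB⟩ : B) * w * (⟨z, hzB⟩)⁻¹ = w := Subtype.ext h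
      have := congrArg (fun v => ((e v : alternatingGroup (Fin n)) : Equiv.Perm (Fin n))) h'
      simpa using this)
    have h1 : (⟨z, hzB⟩ : B) = 1 :=
      e.injective ((Subtype.ext (hinj (hcen.trans (map_one _).symm))).trans (map_one e).symm)
    exact Subtype.ext (by rw [hz, show z = 1 from congrArg Subtype.val h1, map_one]; rfl)
  · rw [← hψ, ← hf, MulAut.conjNormal_apply]

end CfsgLib.PSL2Max
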