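import Mathlib
import Cfsg.Agent.Lib.PSL2Max.Pgl
import Cfsg.Agent.Lib.PSL2Max.PglTorus
import Cfsg.Agent.Lib.PSL2Max.Poly2
import Cfsg.Agent.S0805

/-!
Maximal subgroups of `PGL₂(q)` of subfield type.
-/

set_option autoImplicit false

namespace CfsgLib.PSL2Max

open Matrix CfsgLib.DicksonFull
open CfsgLib.PSL2 (mk diagAut conjSL uu vv)

variable {F : Type*} [Field F] [Fintype F] (p : ℕ) [Fact p.Prime] [CharP F p]

local notation "SL" => Matrix.SpecialLinearGroup (Fin 2) F
local notation "PSL" => Matrix.ProjectiveSpecialLinearGroup (Fin 2) F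
local notation "PGL" => Matrix.ProjGenLinGroup (Fin 2) F
local notation "q" => Fintype.card F

theorem card_pgl (hp2 : p ≠ 2) : Nat.card PGL = 2 * Nat.card PSL := by
  rw [two_card p hp2, SLCard.card_PGL, SLCard.card_SL_two]

theorem q_odd (hp2 : p ≠ 2) : q % 2 = 1 :=
  FiniteField.odd_card_of_char_ne_two (F := F) (by rw [ringChar.eq F p]; exact hp2)

theorem finite_pgl : Finite PGL := Finite.of_surjective _ Matrix.ProjGenLinGroup.mk_surjective

theorem conj_data {M : Subgroup PGL} (N : GL (Fin 2) F) :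
    (M.map (MulAut.conj (pgm N)).toMonoidHom).comap phi = (M.comap phi).map (diagAut N).toMonoidHom ∧
    Nonempty (M ≃* M.map (MulAut.conj (pgm N)).toMonoidHom) :=
  ⟨by rw [comap_conj, act_pgm], ⟨M.equivMapOfInjective _ (MulAut.conj (pgm N)).injective⟩⟩

theorem phat_comap {K : Type*} [Field K] (ι : K →+* F) : (phat ι).comap phi = scaled ι.fieldRange := by
  ext x; exact phi_mem_phat

theorem phat_mono {K : Type*} [Field K] (ι : K →+* F) {S : Subfield F} (h : ι.fieldRange ≤ S) :
    phat ι ≤ phat S.subtype := by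
  rintro _ ⟨G, rfl⟩
  let j : K →+* S := ι.codRestrict S fun x => h ⟨x, rfl⟩
  exact ⟨Matrix.GeneralLinearGroup.map j G, congrArg pgm (Units.ext rfl)⟩

theorem phat_ne_top {K : Type*} [Field K] (ι : K →+* F) (h : ι.fieldRange ≠ ⊤) : phat ι ≠ ⊤ := fun e =>
  scaled_ne_top h (by rw [← phat_comap, e, Subgroup.comap_top])

theorem card_field_range {K : Type*} [Field K] [Fintype K] (ι : K →+* F) :
    Nat.card ι.fieldRange = Fintype.card K := by
  rw [← Nat.card_eq_fintype_card]
  exact (Nat.card_congr ι.rangeRestrictFieldEquiv.toEquiv).symm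

include p in
theorem phat_not_le (hp2 : p ≠ 2) {K : Type*} [Field K] [Fintype K] (ι : K →+* F) {r : ℕ} (hr : Odd r)
    (hq : q = Fintype.card K ^ r) : ¬ phat ι ≤ (phi (F := F)).range := by
  intro hle
  have hqo := q_odd (F := F) p hp2
  have hKo : Fintype.card K % 2 = 1 := by
    rw [hq] at hqo
    rw [← Nat.odd_iff] at hqo ⊢
    exact (Nat.odd_pow_iff hr.pos.ne').mp hqo
  have hrc : ringChar K ≠ 2 := fun e => by
    have := (FiniteField.even_card_iff_char_two (F := K)).mp e
    omega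
  obtain ⟨ν, hν⟩ := FiniteField.exists_nonsquare hrc
  have hν0 : ν ≠ 0 := fun e => hν (e ▸ IsSquare.zero)
  have hιν : ι ν ≠ 0 := fun e => hν0 (ι.injective (by rw [e, map_zero]))
  have hsq : IsSquare (ι ν) := by
    have := isSquare_det_of_mem (hle ⟨Matrix.GeneralLinearGroup.mkOfDetNeZero !![ν, 0; 0, 1]
      (by simp [Matrix.det_fin_two, hν0]), rfl⟩)
    simpa [Matrix.GeneralLinearGroup.mkOfDetNeZero, Matrix.det_fin_two] using this
  obtain ⟨S, hS, hS2⟩ := Cfsg.Agent.S0805.pow_decomp (Fintype.card K) (Fintype.card_pos) r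
  have hSo : Odd S := Nat.odd_iff.mpr ((hS2 hKo).trans (Nat.odd_iff.mp hr))
  have h2 : q / 2 = Fintype.card K / 2 * S := by
    rw [hq, hS]
    obtain ⟨j, hj⟩ : ∃ j, Fintype.card K = 2 * j + 1 := ⟨Fintype.card K / 2, by omega⟩
    rw [hj, Nat.add_sub_cancel, mul_assoc, show (2 * j + 1) / 2 = j by omega]
    omega
  have hF2 : ringChar F ≠ 2 := by rw [ringChar.eq F p]; exact hp2
  have e1 := (FiniteField.isSquare_iff hF2 hιν).mp hsq
  have e2 : ν ^ (Fintype.card K / 2) = -1 :=
    (FiniteField.pow_dichotomy hrc hν0).resolve_left fun e => hν ((FiniteField.isSquare_iff hrc hν0).mpr e)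
  rw [h2, pow_mul, ← map_pow, e2, map_neg, map_one, hSo.neg_one_pow] at e1
  exact Ring.neg_one_ne_one_of_char_ne_two hF2 e1

include p in
/-- A maximal subgroup inside a subfield `PGL₂` is that subgroup, of odd prime degree. -/
theorem subfield_concl (hp2 : p ≠ 2) {K : Type*} [Field K] [Fintype K] (ι : K →+* F) {M : Subgroup PGL}
    (h : Setup M) (hne : ι.fieldRange ≠ ⊤) (hle : M ≤ phat ι) :
    M = phat ι ∧ ∃ r, r.Prime ∧ Odd r ∧ q = Fintype.card K ^ r := by
  have e : M = phat ι := h.eq_of_le hle (phat_ne_top ι hne)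
  refine ⟨e, ?_⟩
  obtain ⟨n, -, hn⟩ := FiniteField.card F p
  haveI : CharP K p := RingHom.charP ι ι.injective p
  obtain ⟨s, -, hs⟩ := FiniteField.card K p
  have hmax : ∀ S', ι.fieldRange ≤ S' → S' = ι.fieldRange ∨ S' = ⊤ := fun S' hS' =>
    or_iff_not_imp_right.mpr fun hS'T => by
      have hr : S'.subtype.fieldRange = S' := by
        ext x; exact ⟨fun ⟨y, hy⟩ => hy ▸ y.2, fun hx => ⟨⟨x, hx⟩, rfl⟩⟩
      have e' : M = phat S'.subtype := h.eq_of_le (hle.trans (phat_mono ι hS'))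
        (phat_ne_top S'.subtype (by rw [hr]; exact hS'T))
      have e2 : scaled ι.fieldRange = scaled S' := by rw [← hr, ← phat_comap, ← phat_comap, ← e, ← e']
      exact le_antisymm (fun t ht => uu_mem_iff.mp (e2 ▸ uu_mem_iff.mpr ht)) hS'
  obtain ⟨r, hr, hnr⟩ := prime_degree p hn ((card_field_range ι).trans hs) hne hmax
  have hq : q = Fintype.card K ^ r := by rw [hn, hnr, pow_mul, hs]
  refine ⟨r, hr, hr.odd_of_ne_two fun h2 => ?_, hq⟩
  subst h2
  obtain ⟨g, hg, hgL⟩ := h.sup
  obtain ⟨G, rfl⟩ := hle hg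
  refine hgL (mem_range_of_isSquare ?_)
  have hd : ((Matrix.GeneralLinearGroup.map ι G)).1.det = ι G.1.det := (RingHom.map_det ι G.1).symm
  rw [hd]
  have hG : G.1.det ≠ 0 := ((Matrix.isUnit_iff_isUnit_det _).mp G.isUnit).ne_zero
  have hF2 : ringChar F ≠ 2 := by rw [ringChar.eq F p]; exact hp2
  rw [FiniteField.isSquare_iff hF2 (fun e => hG (ι.injective (by rw [e, map_zero]))), ← map_pow, hq]
  have hKo : Fintype.card K % 2 = 1 := by
    have := q_odd (F := F) p hp2
    rw [hq] at this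
    rw [← Nat.odd_iff] at this ⊢
    exact (Nat.odd_pow_iff two_ne_zero).mp this
  obtain ⟨j, hj⟩ : ∃ j, Fintype.card K = 2 * j + 1 := ⟨Fintype.card K / 2, by omega⟩
  rw [show Fintype.card K ^ 2 / 2 = (Fintype.card K - 1) * (j + 1) by
    rw [hj, Nat.add_sub_cancel, show (2 * j + 1) ^ 2 = 1 + 2 * (2 * j * (j + 1)) by ring,
      Nat.add_mul_div_left _ _ (by norm_num : 0 < 2)]
    norm_num, pow_mul, FiniteField.pow_card_sub_one_eq_one _ hG, one_pow, map_one]

include p in
/-- The subfield case from inclusion in `scaled`. -/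
theorem subfield_case (hp2 : p ≠ 2) {K : Type*} [Field K] [Fintype K] (ι : K →+* F) {M : Subgroup PGL}
    (h : Setup M) (hle : M.comap phi ≤ scaled ι.fieldRange)
    (hcard : Nat.card (Matrix.ProjGenLinGroup (Fin 2) K) ≤ 2 * Nat.card (M.comap phi)) :
    M = phat ι ∧ ∃ r, r.Prime ∧ Odd r ∧ q = Fintype.card K ^ r := by
  haveI := finite_pgl (F := F)
  have h2 := two_ne (F := F) p hp2
  obtain ⟨eP⟩ := phat_iso ι
  have hsc : Nat.card (scaled ι.fieldRange) ≤ 2 * Nat.card (M.comap phi) := by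
    refine le_trans ?_ hcard
    rw [← Nat.card_congr eP.toEquiv]
    exact Nat.card_le_card_of_injective (fun x : scaled ι.fieldRange => (⟨phi x.1, phi_mem_phat.mpr x.2⟩ : phat ι))
      fun a b e => Subtype.ext (phi_injective (congrArg Subtype.val e))
  have hne : ι.fieldRange ≠ ⊤ := fun e => by
    have hq := (eq_top_iff_card _).mp e
    rw [card_field_range] at hq
    rw [SLCard.card_PGL, SLCard.card_SL_two, hq, ← two_card p hp2] at hcard
    exact h.bar_ne_top (Subgroup.eq_top_of_le_card _ (Nat.le_of_mul_le_mul_left hcard (by norm_num)))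
  have hsq : ∀ z ∈ scaled ι.fieldRange, z * z ∈ M.comap phi := by
    intro z hz
    set H := (M.comap phi).subgroupOf (scaled ι.fieldRange)
    have h1 := H.card_mul_index
    have hH : Nat.card H = Nat.card (M.comap phi) := Nat.card_congr (Subgroup.subgroupOfEquivOfLe hle).toEquiv
    rw [hH] at h1
    have hi : H.index ≤ 2 := Nat.le_of_mul_le_mul_left (h1.le.trans (by rw [mul_comm]; exact hsc) :
      Nat.card (M.comap phi) * H.index ≤ Nat.card (M.comap phi) * 2) Nat.card_pos
    have hi0 : H.index ≠ 0 := Subgroup.index_ne_zero_of_finite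
    rcases (show H.index = 1 ∨ H.index = 2 by omega) with e | e
    · exact Subgroup.mem_subgroupOf.mp (show (⟨z * z, mul_mem hz hz⟩ : scaled ι.fieldRange) ∈ H by
        rw [Subgroup.index_eq_one.mp e]; trivial)
    · exact Subgroup.mem_subgroupOf.mp (Subgroup.mul_self_mem_of_index_two e (⟨z, hz⟩ : scaled ι.fieldRange))
  set S := ι.fieldRange
  have hhalf : (2 : F)⁻¹ ∈ S := S.inv_mem (by exact_mod_cast natCast_mem S 2)
  have hh : (2 : F)⁻¹ + (2 : F)⁻¹ = 1 := by field_simp; norm_num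
  have hu : uu (1 : F) ∈ M.comap phi := by
    have := hsq _ (uu_mem_iff.mpr hhalf)
    rwa [← map_mul, ← ofAdd_add, hh] at this
  have hv : vv (1 : F) ∈ M.comap phi := by
    have := hsq (vv ((2 : F)⁻¹)) (by
      rw [PSL2.vv_eq]
      refine mem_scaled one_ne_zero fun i j => ?_
      fin_cases i <;> fin_cases j <;> simp [PSL2.coe_vSL, S.one_mem, S.zero_mem, hhalf])
    rwa [← map_mul, ← ofAdd_add, hh] at this
  refine subfield_concl p hp2 ι h hne fun g hg => mem_phat h2 ?_ ?_
  · exact hle (by rw [← Setup.stable g hg]; exact ⟨_, hu, rfl⟩)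
  · exact hle (by rw [← Setup.stable g hg]; exact ⟨_, hv, rfl⟩)

end CfsgLib.PSL2Max
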