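import Mathlib
import Cfsg.Agent.Lib.PSL2Max.PglSub
import Cfsg.Agent.Lib.PSL2Max.PglAlt
import Cfsg.Agent.Lib.DicksonFull.Solvabilizer

/-!
The polyhedral, Borel and trivial cases for maximal subgroups of `PGL₂(q)`.
-/

set_option autoImplicit false

namespace CfsgLib.PSL2Max

open Matrix CfsgLib.DicksonFull
open CfsgLib.PSL2 (mk diagAut conjSL uu vv)

theorem a4_three : ∀ a : alternatingGroup (Fin 4), a ^ 3 = 1 → a ≠ 1 →
    (a : Equiv.Perm (Fin 4)).support.card = 3 := by decide +kernel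

theorem a5_three : ∀ a : alternatingGroup (Fin 5), a ^ 3 = 1 → a ≠ 1 →
    (a : Equiv.Perm (Fin 5)).support.card = 3 := by decide +kernel

theorem s4_even : ∀ σ : Equiv.Perm (Fin 4), Equiv.Perm.sign σ = 1 → ∃ τ, τ ^ 2 = σ := by decide +kernel

theorem a5_klein : ∃ a b : alternatingGroup (Fin 5),
    a ≠ 1 ∧ b ≠ 1 ∧ a ≠ b ∧ a ^ 2 = 1 ∧ b ^ 2 = 1 ∧ a * b = b * a :=
  ⟨⟨Equiv.swap 0 1 * Equiv.swap 2 3, Equiv.Perm.mem_alternatingGroup.mpr (by decide +kernel)⟩,
    ⟨Equiv.swap 0 2 * Equiv.swap 1 3, Equiv.Perm.mem_alternatingGroup.mpr (by decide +kernel)⟩,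
    by decide +kernel⟩

theorem s5_square : ∃ (a : alternatingGroup (Fin 5)) (s : Equiv.Perm (Fin 5)),
    a ≠ 1 ∧ a ^ 5 = 1 ∧ s * (a : Equiv.Perm (Fin 5)) * s⁻¹ = (a : Equiv.Perm (Fin 5)) ^ 2 :=
  ⟨⟨finRotate 5, Equiv.Perm.mem_alternatingGroup.mpr (by decide +kernel)⟩, by decide +kernel⟩

variable {F : Type*} [Field F] [Fintype F] (p : ℕ) [Fact p.Prime] [CharP F p]

local notation "SL" => Matrix.SpecialLinearGroup (Fin 2) F
local notation "PSL" => Matrix.ProjectiveSpecialLinearGroup (Fin 2) F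
local notation "PGL" => Matrix.ProjGenLinGroup (Fin 2) F
local notation "q" => Fintype.card F

theorem stable_mem {M : Subgroup PGL} (g : PGL) (hg : g ∈ M) (y : PSL) (hy : y ∈ M.comap phi) :
    act g y ∈ M.comap phi := by
  rw [← Setup.stable g hg]; exact ⟨y, hy, rfl⟩

include p in
theorem case_bot (h5 : 5 ≤ q) {M : Subgroup PGL} (h : Setup M) : M.comap phi ≠ ⊥ := by
  intro hb
  haveI := finite_pgl (F := F)
  obtain ⟨g, hg, hgL⟩ := h.sup
  by_cases hx : ∃ x : PSL, x ≠ 1 ∧ act g x = x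
  · obtain ⟨x, hx1, hgx⟩ := hx
    have hB : Subgroup.zpowers x ≠ ⊥ := fun e => hx1 (by simpa using e)
    have hB' : Subgroup.zpowers x ≠ ⊤ := fun e => by
      haveI := isSimple (F := F) (by omega)
      have hcomm : ∀ a b : PSL, a * b = b * a := fun a b => by
        obtain ⟨i, rfl⟩ := (e ▸ Subgroup.mem_top a : a ∈ Subgroup.zpowers x)
        obtain ⟨j, rfl⟩ := (e ▸ Subgroup.mem_top b : b ∈ Subgroup.zpowers x)
        exact ((Commute.refl x).zpow_zpow i j).eq
      haveI : Group.IsSolvable PSL := Group.isSolvable_of_comm hcomm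
      have := IsSimpleGroup.comm_iff_isSolvable.mpr ‹Group.IsSolvable PSL›
      obtain ⟨u, hu⟩ := exists_order_p (F := F) p
      have hT := index_bor p hu
      rw [show bor u = ⊤ from eq_top_iff.mpr fun y _ => (mem_bor (psl p) hu).mpr (this _ _), Subgroup.index_top] at hT
      omega
    have e := h.eq_stab (by omega) hB hB' fun k hk y hy => by
      obtain ⟨i, rfl⟩ := hy
      have hkx : act k x = x := by
        rcases h.mem_bar hg hgL hk with ⟨z, hz, e⟩ | ⟨z, hz, e⟩ <;>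
          rw [hb, Subgroup.coe_bot, Set.mem_singleton_iff] at hz <;> subst hz <;> rw [map_one] at e
        · rw [← e, map_one]; rfl
        · rw [show k = g⁻¹ from (inv_eq_of_mul_eq_one_right e.symm).symm]
          conv_lhs => rw [← hgx]
          rw [← MulAut.mul_apply, ← map_mul, inv_mul_cancel, map_one]; rfl
      rw [map_zpow, hkx]
      exact Subgroup.zpow_mem _ (Subgroup.mem_zpowers x) i
    refine hx1 (Subgroup.mem_bot.mp (hb ▸ (show x ∈ M.comap phi from ?_)))
    rw [Subgroup.mem_comap, e, mem_stab]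
    intro y
    rw [act_phi, MulAut.conj_apply]
    have hc : ∀ y ∈ Subgroup.zpowers x, x * y * x⁻¹ = y := fun y ⟨i, hi⟩ => by
      subst hi; rw [((Commute.refl x).zpow_right i).eq, mul_inv_cancel_right]
    refine ⟨fun hy => by rw [hc y hy]; exact hy, fun hy => ?_⟩
    have := hc _ hy
    rwa [mul_left_cancel (mul_right_cancel this)] at hy
  · push Not at hx
    have hg2 : g * g ∈ (phi (F := F)).range := by
      rw [Subgroup.mul_mem_iff_of_index_two h.index_two]
    obtain ⟨z, hz⟩ := hg2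
    have hzb : z ∈ M.comap phi := show phi z ∈ M by rw [hz]; exact mul_mem hg hg
    rw [hb, Subgroup.mem_bot] at hzb
    rw [hzb, map_one] at hz
    have hinv : Function.Involutive (act g).toMonoidHom := fun y => by
      show act g (act g y) = y
      rw [← MulAut.mul_apply, ← map_mul, ← hz, map_one]; rfl
    have hfp : MonoidHom.FixedPointFree (act g).toMonoidHom := fun y hy => by_contra fun h1 => hx y h1 hy
    obtain ⟨u, hu⟩ := exists_order_p (F := F) p
    have hT := index_bor p hu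
    rw [show bor u = ⊤ from eq_top_iff.mpr fun y _ => (mem_bor (psl p) hu).mpr
      (hfp.commute_all_of_involutive hinv _ _), Subgroup.index_top] at hT
    omega

theorem case_borel (hp2 : p ≠ 2) (h5 : 5 ≤ q) {M : Subgroup PGL} (h : Setup M) {u : PSL}
    (huM : u ∈ M.comap phi) (hu : orderOf u = p) (hle : M.comap phi ≤ bor u) :
    M.comap phi = bor u ∧ Nat.card M = q * (q - 1) := by
  have hidx := index_bor p hu
  have hne : bor u ≠ ⊤ := fun e => by rw [e, Subgroup.index_top] at hidx; omega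
  have hc1 : cent u ≠ ⊥ := fun e => by
    have := self_mem_cent u
    rw [e, Subgroup.mem_bot] at this
    rw [this, orderOf_one] at hu
    exact (Fact.out : p.Prime).ne_one hu.symm
  have hc2 : cent u ≠ ⊤ := fun e => hne (top_le_iff.mp (e ▸ cent_le_bor (psl p) u))
  have hM := h.eq_stab (by omega) hc1 hc2 fun g hg y hy => by
    have ho : orderOf (act g u) = p := by rw [(act g).orderOf_eq, hu]
    have hgu := mem_cent_of_mem_bor p hu (hle (stable_mem g hg u huM))
      (by rw [← ho]; exact pow_orderOf_eq_one _)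
    rw [← cent_eq (psl p) hu ho (mem_cent.mp hgu)]
    exact mem_cent.mpr ((mem_cent.mp hy).map (act g))
  have e : M.comap phi = bor u := by
    ext y
    rw [Subgroup.mem_comap, hM, mem_stab, bor, Subgroup.mem_normalizer_iff]
    simp only [act_phi, MulAut.conj_apply, SetLike.mem_coe]
  refine ⟨e, ?_⟩
  have hb := card_bor p hu
  rcases gcd_cases (F := F) p with ⟨-, he⟩ | ⟨hg2, -⟩
  · have := q_odd (F := F) p hp2; omega
  · rw [hg2] at hb
    rw [h.card, e, hb]

/-- What a subgroup `A₄` gives. -/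
theorem a4_data (hp2 : p ≠ 2) (h5 : 5 ≤ q) {M : Subgroup PGL} (h : Setup M)
    (e : (M.comap phi : Subgroup PSL) ≃* alternatingGroup (Fin 4)) :
    Nonempty (M ≃* Equiv.Perm (Fin 4)) ∧ ∃ V : Subgroup PSL, V ≤ M.comap phi ∧ Nat.card V = 4 ∧
      M = stab V ∧ Subgroup.normalizer (V : Set PSL) = M.comap phi := by
  classical
  haveI := finite_pgl (F := F)
  have h2 := two_ne (F := F) p hp2
  obtain ⟨vx1, vy1, vxy, vx2, vy2, vc, sx, sy⟩ := v4_facts
  set B := M.comap phi
  set j : alternatingGroup (Fin 4) →* PSL := B.subtype.comp e.symm.toMonoidHom with hj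
  have hji : Function.Injective j := B.subtype_injective.comp e.symm.injective
  set x₀ : alternatingGroup (Fin 4) := ⟨v4x, Equiv.Perm.mem_alternatingGroup.mpr sx⟩
  set y₀ : alternatingGroup (Fin 4) := ⟨v4y, Equiv.Perm.mem_alternatingGroup.mpr sy⟩
  obtain ⟨f, hf, -⟩ := alt_embed h2 (n := 4) le_rfl
    (fun a h1 h2' => card_support_eq_three_iff.mp (a4_three a h1 h2')) e
    (fun g hg y hy => stable_mem g hg y hy) (x := j x₀) (y := j y₀) (e.symm x₀).2 (e.symm y₀).2
    (fun h => vx1 (congrArg Subtype.val (hji (h.trans (map_one j).symm))))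
    (fun h => vy1 (congrArg Subtype.val (hji (h.trans (map_one j).symm))))
    (fun h => vxy (congrArg Subtype.val (hji h)))
    (by rw [← map_pow, show x₀ ^ 2 = 1 from Subtype.ext vx2, map_one])
    (by rw [← map_pow, show y₀ ^ 2 = 1 from Subtype.ext vy2, map_one])
    (show j x₀ * j y₀ = j y₀ * j x₀ by rw [← map_mul, ← map_mul]; exact congrArg j (Subtype.ext vc))
  have hcB : Nat.card B = 12 := by rw [Nat.card_congr e.toEquiv, card_a4]
  have hcM : Nat.card M = 24 := by rw [h.card, hcB]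
  refine ⟨⟨MulEquiv.ofBijective f
    ((Nat.bijective_iff_injective_and_card f).mpr ⟨hf, by rw [hcM, card_s4]⟩)⟩, ?_⟩
  have hjr : j.range = B := by
    rw [hj, MonoidHom.range_comp, MonoidHom.range_eq_top.mpr e.symm.surjective, ← MonoidHom.range_eq_map,
      Subgroup.range_subtype]
  set V := kleinA4.map j with hV
  have hVB : V ≤ B := hjr ▸ Subgroup.map_le_range j kleinA4
  have hcV : Nat.card V = 4 := by
    rw [hV, ← Nat.card_congr (kleinA4.equivMapOfInjective j hji).toEquiv, card_kleinA4]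
  have hVm : ∀ y, y ∈ V ↔ y ∈ B ∧ y ^ 2 = 1 := fun y => by
    constructor
    · rintro ⟨a, ha, rfl⟩
      exact ⟨(e.symm a).2, by rw [← map_pow, show a ^ 2 = 1 from ha, map_one]⟩
    · rintro ⟨hy, hy2⟩
      refine ⟨e ⟨y, hy⟩, ?_, ?_⟩
      · show (e ⟨y, hy⟩) ^ 2 = 1
        rw [← map_pow, show (⟨y, hy⟩ : B) ^ 2 = 1 from Subtype.ext hy2, map_one]
      · show ((e.symm (e ⟨y, hy⟩) : B) : PSL) = y
        rw [MulEquiv.symm_apply_apply]
  have hV1 : V ≠ ⊥ := fun e' => by rw [e', Subgroup.card_bot] at hcV; omega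
  have hV2 : V ≠ ⊤ := fun e' => by
    have hle : (⊤ : Subgroup PSL) ≤ B := e' ▸ hVB
    exact h.bar_ne_top (top_le_iff.mp hle)
  have hM := h.eq_stab (by omega) hV1 hV2 fun g hg y hy => by
    obtain ⟨hyB, hy2⟩ := (hVm y).mp hy
    exact (hVm _).mpr ⟨stable_mem g hg y hyB, by rw [← map_pow, hy2, map_one]⟩
  refine ⟨V, hVB, hcV, hM, le_antisymm (fun y hy => ?_) (fun y hy => ?_)⟩
  · rw [Subgroup.mem_normalizer_iff] at hy
    rw [show B = M.comap phi from rfl, Subgroup.mem_comap, hM, mem_stab]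
    simpa only [act_phi, MulAut.conj_apply, SetLike.mem_coe] using hy
  · rw [Subgroup.mem_normalizer_iff]
    have := mem_stab.mp (hM ▸ (hy : phi y ∈ M) : phi y ∈ stab V)
    simpa only [act_phi, MulAut.conj_apply, SetLike.mem_coe] using this

theorem conj_four {G : Type*} [Group G] [Finite G] {H V W : Subgroup G} (h8 : ¬ 8 ∣ Nat.card H)
    (hV : V ≤ H) (hW : W ≤ H) (cV : Nat.card V = 4) (cW : Nat.card W = 4) :
    ∃ s ∈ H, W.map (MulAut.conj s).toMonoidHom = V := by
  haveI : Fact (Nat.Prime 2) := ⟨Nat.prime_two⟩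
  have key : ∀ U : Subgroup G, U ≤ H → Nat.card U = 4 → ∃ P : Sylow 2 H, (P : Subgroup H) = U.subgroupOf H := by
    intro U hU cU
    have hc : Nat.card (U.subgroupOf H) = 4 := by rw [Nat.card_congr (Subgroup.subgroupOfEquivOfLe hU).toEquiv, cU]
    obtain ⟨P, hP⟩ := (IsPGroup.of_card (p := 2) (n := 2) (by rw [hc]; norm_num) : IsPGroup 2 (U.subgroupOf H)).exists_le_sylow
    refine ⟨P, (Subgroup.eq_of_le_of_card_ge hP ?_).symm⟩
    obtain ⟨k, hk⟩ := P.2.exists_card_eq
    rw [hc, hk]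
    have hd : 2 ^ k ∣ Nat.card H := hk ▸ Subgroup.card_subgroup_dvd_card _
    have : k ≤ 2 := by
      by_contra hlt
      exact h8 (dvd_trans (show 8 ∣ 2 ^ k from pow_dvd_pow 2 (show 3 ≤ k by omega)) hd)
    exact Nat.pow_le_pow_right (by norm_num) this |>.trans_eq (by norm_num)
  obtain ⟨P, hP⟩ := key V hV cV
  obtain ⟨Q, hQ⟩ := key W hW cW
  obtain ⟨s, hs⟩ := MulAction.exists_smul_eq H Q P
  refine ⟨s, s.2, Subgroup.eq_of_le_of_card_ge ?_ ?_⟩
  · rintro _ ⟨y, hy, rfl⟩
    have h1 : (⟨y, hW hy⟩ : H) ∈ (Q : Subgroup H) := by rw [hQ]; exact Subgroup.mem_subgroupOf.mpr hy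
    have h2 : s * ⟨y, hW hy⟩ * s⁻¹ ∈ (P : Subgroup H) := by
      rw [← hs, Sylow.coe_subgroup_smul]
      exact Subgroup.smul_mem_pointwise_smul _ (MulAut.conj s) _ h1
    rw [hP, Subgroup.mem_subgroupOf] at h2
    exact h2
  · rw [cV, ← Nat.card_congr (W.equivMapOfInjective _ (MulAut.conj (s : G)).injective).toEquiv, cW]

theorem pgl_case_a4 (hp2 : p ≠ 2) (h5 : 5 ≤ q) {M : Subgroup PGL} (h : Setup M)
    (e : (M.comap phi : Subgroup PSL) ≃* alternatingGroup (Fin 4)) :
    (q % 8 = 3 ∨ q % 8 = 5) ∧ ((q = p ∧ Nonempty (M ≃* Equiv.Perm (Fin 4))) ∨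
      (p = 3 ∧ ∃ ι : ZMod p →+* F, ∃ r, r.Prime ∧ Odd r ∧ q = p ^ r ∧
        Nonempty (M ≃* Matrix.ProjGenLinGroup (Fin 2) (ZMod p)))) := by
  classical
  haveI := finite_pgl (F := F)
  have hp := (Fact.out : p.Prime)
  obtain ⟨⟨eS⟩, V, -, hcV, -, hN⟩ := a4_data p hp2 h5 h e
  have hcB : Nat.card (M.comap phi) = 12 := by rw [Nat.card_congr e.toEquiv, card_a4]
  have h8 : ¬ 8 ∣ Nat.card PSL := eight_not_dvd hcV hN (by rw [hcB]; norm_num)
  have hq8 : q % 8 = 3 ∨ q % 8 = 5 := by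
    rw [eight_dvd_iff p hp2] at h8
    have := q_odd (F := F) p hp2
    omega
  refine ⟨hq8, ?_⟩
  obtain ⟨n, hn0, hn⟩ := FiniteField.card F p
  by_cases hn1 : (n : ℕ) = 1
  · exact Or.inl ⟨by rw [hn, hn1, pow_one], ⟨eS⟩⟩
  right
  have hpo : p % 2 = 1 := Nat.odd_iff.mp (hp.odd_of_ne_two hp2)
  have hno : Odd (n : ℕ) := by
    by_contra hne
    obtain ⟨j, hj⟩ := Nat.not_odd_iff_even.mp hne
    have hsq : p ^ 2 % 8 = 1 := by
      rw [Nat.pow_mod]
      rcases (show p % 8 = 1 ∨ p % 8 = 3 ∨ p % 8 = 5 ∨ p % 8 = 7 by omega) with h | h | h | h <;> rw [h] <;> rfl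
    rw [hn, hj, ← two_mul, pow_mul, Nat.pow_mod, hsq, one_pow] at hq8
    norm_num at hq8
  let ι : ZMod p →+* F := ZMod.castHom (dvd_refl p) F
  set S := ι.fieldRange with hSdef
  have hcS : Nat.card S = p ^ 1 := by rw [card_field_range, ZMod.card, pow_one]
  obtain ⟨vx1, vy1, vxy, vx2, vy2, vc, sx, sy⟩ := v4_facts
  set j : alternatingGroup (Fin 4) →* PSL := (M.comap phi).subtype.comp e.symm.toMonoidHom with hj
  have hji : Function.Injective j := (M.comap phi).subtype_injective.comp e.symm.injective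
  set x₀ : alternatingGroup (Fin 4) := ⟨v4x, Equiv.Perm.mem_alternatingGroup.mpr sx⟩
  set y₀ : alternatingGroup (Fin 4) := ⟨v4y, Equiv.Perm.mem_alternatingGroup.mpr sy⟩
  have hscal : ∀ L : SL, mk L ∈ M.comap phi → L.1.trace ∈ S := fun L hL => by
    refine trace_mem_23 ?_
    rcases a4_orders (e ⟨_, hL⟩) with h' | h'
    · left; exact congrArg Subtype.val (e.injective (by rw [map_pow, h', map_one]) : (⟨_, hL⟩ : M.comap phi) ^ 2 = 1)
    · right; exact congrArg Subtype.val (e.injective (by rw [map_pow, h', map_one]) : (⟨_, hL⟩ : M.comap phi) ^ 3 = 1)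
  obtain ⟨N, hN'⟩ := std p (two_ne p hp2) (x := j x₀) (y := j y₀) (e.symm x₀).2 (e.symm y₀).2
    (fun h => vx1 (congrArg Subtype.val (hji (h.trans (map_one j).symm))))
    (fun h => vy1 (congrArg Subtype.val (hji (h.trans (map_one j).symm))))
    (fun h => vxy (congrArg Subtype.val (hji h)))
    (by rw [← map_pow, show x₀ ^ 2 = 1 from Subtype.ext vx2, map_one])
    (by rw [← map_pow, show y₀ ^ 2 = 1 from Subtype.ext vy2, map_one])
    (show j x₀ * j y₀ = j y₀ * j x₀ by rw [← map_mul, ← map_mul]; exact congrArg j (Subtype.ext vc))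
    S (scal_one (e.symm x₀).2 (e.symm y₀).2 hscal)
  obtain ⟨hbar, ⟨eM⟩⟩ := conj_data (M := M) N
  set M' := M.map (MulAut.conj (pgm N)).toMonoidHom with hM'
  have h' : Setup M' := h.conj (pgm N)
  have hle : M'.comap phi ≤ scaled S := hbar ▸ hN'
  have e' : (M'.comap phi : Subgroup PSL) ≃* alternatingGroup (Fin 4) :=
    (MulEquiv.subgroupCongr hbar).trans
      (((M.comap phi).equivMapOfInjective _ (diagAut N).injective).symm.trans e)
  obtain ⟨⟨eS'⟩, V', hV'B, hcV', hM'V, -⟩ := a4_data p hp2 h5 h' e'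
  -- an outer element of the subfield group normalising `V'`
  have hqp : q = Fintype.card (ZMod p) ^ (n : ℕ) := by rw [ZMod.card, hn]
  obtain ⟨g, hg, hgL⟩ := SetLike.not_le_iff_exists.mp (phat_not_le p hp2 ι hno hqp)
  set W := V'.map (act g).toMonoidHom with hW
  have hWS : W ≤ scaled S := by
    rintro _ ⟨y, hy, rfl⟩
    rw [← phi_mem_phat]
    show phi (act g y) ∈ phat ι
    rw [phi_act]
    exact mul_mem (mul_mem hg (phi_mem_phat.mpr (hle (hV'B hy)))) (inv_mem hg)
  have hcW : Nat.card W = 4 := by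
    rw [hW, ← Nat.card_congr (V'.equivMapOfInjective _ (act g).injective).toEquiv, hcV']
  obtain ⟨s, hs, hsW⟩ := conj_four (fun hd => h8 (hd.trans (scaled S).card_subgroup_dvd_card))
    (hV'B.trans hle) hWS hcV' hcW
  have hg₁ : phi s * g ∈ stab V' := by
    rw [mem_stab]
    have key : ∀ y ∈ V', act (phi s * g) y ∈ V' := fun y hy => by
      rw [map_mul, MulAut.mul_apply, act_phi, ← hsW]
      exact ⟨_, ⟨y, hy, rfl⟩, rfl⟩
    intro y
    refine ⟨key y, fun hy => ?_⟩
    obtain ⟨z, hz⟩ := Finite.surjective_of_injective (f := fun v : V' => (⟨act (phi s * g) v, key v v.2⟩ : V'))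
      (fun a b e => Subtype.ext ((act (phi s * g)).injective (congrArg Subtype.val e))) ⟨_, hy⟩
    exact (act (phi s * g)).injective (congrArg Subtype.val hz) ▸ z.2
  rw [← hM'V] at hg₁
  have hg₁P : phi s * g ∈ phat ι := mul_mem (phi_mem_phat.mpr hs) hg
  have hg₁L : phi s * g ∉ (phi (F := F)).range := fun hh =>
    hgL (((phi (F := F)).range.mul_mem_cancel_left ⟨s, rfl⟩).mp hh)
  have hMP : M' ≤ phat ι := fun k hk => by
    rcases h'.mem_bar hg₁ hg₁L hk with ⟨z, hz, e1⟩ | ⟨z, hz, e1⟩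
    · exact e1 ▸ phi_mem_phat.mpr (hle hz)
    · have : (phi s * g) * k ∈ phat ι := e1 ▸ phi_mem_phat.mpr (hle hz)
      exact ((phat ι).mul_mem_cancel_left hg₁P).mp this
  have hne : S ≠ ⊤ := fun e1 => by
    have hq := (eq_top_iff_card S).mp e1
    rw [hcS, hn] at hq
    exact hn1 (Nat.pow_right_injective hp.two_le hq).symm
  obtain ⟨eP, r, hr, hro, hqr⟩ := subfield_concl p hp2 ι h' hne hMP
  obtain ⟨eI⟩ := phat_iso ι
  have eK : M ≃* Matrix.ProjGenLinGroup (Fin 2) (ZMod p) := eM.trans ((MulEquiv.subgroupCongr eP).trans eI)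
  rw [ZMod.card] at hqr
  refine ⟨?_, ι, r, hr, hro, hqr, ⟨eK⟩⟩
  have hc := Nat.card_congr (eS.symm.trans eK).toEquiv
  rw [card_s4, SLCard.card_PGL, SLCard.card_SL_two, ZMod.card] at hc
  by_contra h3
  have := hp.two_le
  have h4 : p ≠ 4 := fun e1 => by rw [e1] at hp; norm_num at hp
  have h5' : 5 ≤ p := by omega
  have := Nat.mul_le_mul h5' (Nat.sub_le_sub_right (Nat.pow_le_pow_left h5' 2) 1)
  omega

theorem pgl_case_a5 (hp2 : p ≠ 2) (h5 : 5 ≤ q) {M : Subgroup PGL} (h : Setup M)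
    (e : (M.comap phi : Subgroup PSL) ≃* alternatingGroup (Fin 5)) :
    p = 5 ∧ ∃ r, r.Prime ∧ Odd r ∧ q = p ^ r ∧
      Nonempty (M ≃* Matrix.ProjGenLinGroup (Fin 2) (ZMod p)) := by
  classical
  haveI := finite_pgl (F := F)
  have hp := (Fact.out : p.Prime)
  have h2 := two_ne (F := F) p hp2
  set B := M.comap phi
  obtain ⟨a, b, ha1, hb1, hab, ha2, hb2, hc⟩ := a5_klein
  set j : alternatingGroup (Fin 5) →* PSL := B.subtype.comp e.symm.toMonoidHom with hj
  have hji : Function.Injective j := B.subtype_injective.comp e.symm.injective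
  have hx1 : j a ≠ 1 := fun h => ha1 (hji (h.trans (map_one j).symm))
  have hy1 : j b ≠ 1 := fun h => hb1 (hji (h.trans (map_one j).symm))
  have hxy : j a ≠ j b := fun h => hab (hji h)
  have hx2 : j a ^ 2 = 1 := by rw [← map_pow, ha2, map_one]
  have hy2 : j b ^ 2 = 1 := by rw [← map_pow, hb2, map_one]
  have hxc : Commute (j a) (j b) := show j a * j b = j b * j a by rw [← map_mul, ← map_mul, hc]
  obtain ⟨f, hf, hfe⟩ := alt_embed h2 (n := 5) (by norm_num)
    (fun a h1 h2' => card_support_eq_three_iff.mp (a5_three a h1 h2')) e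
    (fun g hg y hy => stable_mem g hg y hy) (e.symm a).2 (e.symm b).2 hx1 hy1 hxy hx2 hy2 hxc
  have hcB : Nat.card B = 60 := by rw [Nat.card_congr e.toEquiv, card_a5]
  have hfs : Function.Surjective f := ((Nat.bijective_iff_injective_and_card f).mpr ⟨hf, by
    rw [h.card, hcB, Nat.card_perm, Nat.card_eq_fintype_card, Fintype.card_fin]; rfl⟩).2
  have hp5 : p = 5 := by
    by_contra hp5
    obtain ⟨c, s, hc1, hc5, hcs⟩ := s5_square
    obtain ⟨g, hg⟩ := hfs s
    set z : B := e.symm c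
    have hgz : act (g : PGL) (z : PSL) = (z : PSL) ^ 2 := by
      have h1 := hfe g z
      rw [hg, MulEquiv.apply_symm_apply, hcs, ← SubgroupClass.coe_pow] at h1
      have h2' := congrArg e.symm (Subtype.ext h1 : _ = c ^ 2)
      rw [MulEquiv.symm_apply_apply, map_pow] at h2'
      exact congrArg Subtype.val h2'
    obtain ⟨L, hL⟩ := mk_surj (z : PSL)
    have hL1 : mk L ≠ 1 := fun e1 => hc1 (e.symm.injective (by
      rw [map_one]; exact Subtype.ext (hL.symm.trans e1)))
    have hz5 : mk L ^ 5 = 1 := by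
      rw [hL, ← SubgroupClass.coe_pow, ← map_pow, hc5, map_one]; rfl
    obtain ⟨G, hG⟩ := Matrix.ProjGenLinGroup.mk_surjective (g : PGL)
    rw [← hL, ← hG] at hgz
    change diagAut G (mk L) = mk L ^ 2 at hgz
    rw [PSL2.diagAut_apply, ← map_pow] at hgz
    have ht : L.1.trace ^ 2 = ((L ^ 2).1.trace) ^ 2 := by
      rcases eq_or_neg hgz with e1 | e1 <;> rw [e1]
      · rw [PSL2.coe_conjSL, Matrix.trace_units_conj]
      · rw [Matrix.SpecialLinearGroup.coe_neg, Matrix.trace_neg, neg_sq, PSL2.coe_conjSL, Matrix.trace_units_conj]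
    have ht2 : (L ^ 2).1.trace = L.1.trace ^ 2 - 2 := by
      rw [Matrix.SpecialLinearGroup.coe_pow, pow_two, SL2Orders.sq_eq, Matrix.trace_sub, Matrix.trace_smul,
        Matrix.trace_one, Fintype.card_fin, smul_eq_mul]
      push_cast
      ring
    rw [ht2] at ht
    have h5' := (trace_of_pow hL1).2.2.2 hz5
    set t := L.1.trace
    rcases mul_eq_zero.mp (show (t ^ 2 - 1) * (t ^ 2 - 4) = 0 by linear_combination -ht) with e1 | e1
    · rw [sub_eq_zero.mp e1] at h5'
      norm_num at h5'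
      exact pow_ne_zero 2 h2 (by linear_combination -h5')
    · have ho : orderOf (mk L) = p := by
        refine ((psl (F := F) p).order_cases _ hL1).resolve_left fun hs => ?_
        exact (ss_iff p).mp hs (sub_eq_zero.mp e1)
      have hd := orderOf_dvd_of_pow_eq_one hz5
      rw [ho] at hd
      exact hp5 ((Nat.prime_dvd_prime_iff_eq hp (by norm_num)).mp hd)
  refine ⟨hp5, ?_⟩
  let ι : ZMod p →+* F := ZMod.castHom (dvd_refl p) F
  set S := ι.fieldRange with hSdef
  have hroot : ∀ r : F, r ^ 2 = 5 → r ∈ S := fun r hr => by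
    have h50 : (5 : F) = 0 := by
      have := CharP.cast_eq_zero F p
      rw [hp5, Nat.cast_ofNat] at this
      exact this
    rw [h50] at hr
    rw [pow_eq_zero_iff two_ne_zero] at hr
    exact hr ▸ S.zero_mem
  have hscal : ∀ L : SL, mk L ∈ B → L.1.trace ∈ S := fun L hL => by
    rcases a5_orders (e ⟨_, hL⟩) with h' | h' | h'
    · exact trace_mem_23 (Or.inl (congrArg Subtype.val
        (e.injective (by rw [map_pow, h', map_one]) : (⟨_, hL⟩ : B) ^ 2 = 1)))
    · exact trace_mem_23 (Or.inr (congrArg Subtype.val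
        (e.injective (by rw [map_pow, h', map_one]) : (⟨_, hL⟩ : B) ^ 3 = 1)))
    · exact trace_mem_5 h2 hroot (congrArg Subtype.val
        (e.injective (by rw [map_pow, h', map_one]) : (⟨_, hL⟩ : B) ^ 5 = 1))
  obtain ⟨N, hN'⟩ := std p h2 (e.symm a).2 (e.symm b).2 hx1 hy1 hxy hx2 hy2 hxc S
    (scal_one (e.symm a).2 (e.symm b).2 hscal)
  obtain ⟨hbar, ⟨eM⟩⟩ := conj_data (M := M) N
  obtain ⟨eP, r, hr, hro, hqr⟩ := subfield_case p hp2 ι (h.conj (pgm N)) (hbar ▸ hN') (by
    rw [hbar, ← Nat.card_congr (B.equivMapOfInjective (diagAut N).toMonoidHom (diagAut N).injective).toEquiv, hcB,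
      SLCard.card_PGL, SLCard.card_SL_two, ZMod.card, hp5]
    norm_num)
  obtain ⟨eI⟩ := phat_iso ι
  exact ⟨r, hr, hro, by rw [hqr, ZMod.card], ⟨eM.trans ((MulEquiv.subgroupCongr eP).trans eI)⟩⟩

include p in
theorem pgl_case_s4 (hp2 : p ≠ 2) (h5 : 5 ≤ q) {M : Subgroup PGL} (h : Setup M) :
    ¬ Nonempty ((M.comap phi : Subgroup PSL) ≃* Equiv.Perm (Fin 4)) := by
  rintro ⟨e⟩
  classical
  haveI := finite_pgl (F := F)
  have h2 := two_ne (F := F) p hp2
  obtain ⟨vx1, vy1, vxy, vx2, vy2, vc, sx, sy⟩ := v4_facts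
  set j : Equiv.Perm (Fin 4) →* PSL := (M.comap phi).subtype.comp e.symm.toMonoidHom with hj
  have hji : Function.Injective j := (M.comap phi).subtype_injective.comp e.symm.injective
  set B := (alternatingGroup (Fin 4)).map j with hB
  have hst : ∀ g ∈ M, ∀ y ∈ B, act g y ∈ B := by
    rintro g hg _ ⟨σ, hσ, rfl⟩
    obtain ⟨τ, rfl⟩ := s4_even σ (Equiv.Perm.mem_alternatingGroup.mp hσ)
    set w : M.comap phi := ⟨_, stable_mem g hg (j τ) (e.symm τ).2⟩
    refine ⟨e w ^ 2, Equiv.Perm.mem_alternatingGroup.mpr ?_, ?_⟩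
    · rw [map_pow]; exact Int.units_sq _
    · show ((e.symm (e w ^ 2) : M.comap phi) : PSL) = act g (j (τ ^ 2))
      rw [map_pow, map_pow, map_pow, MulEquiv.symm_apply_apply, SubgroupClass.coe_pow]
  obtain ⟨f, hf, -⟩ := alt_embed h2 (n := 4) le_rfl
    (fun a h1 h2' => card_support_eq_three_iff.mp (a4_three a h1 h2'))
    ((alternatingGroup (Fin 4)).equivMapOfInjective j hji).symm hst (x := j v4x) (y := j v4y)
    ⟨v4x, Equiv.Perm.mem_alternatingGroup.mpr sx, rfl⟩ ⟨v4y, Equiv.Perm.mem_alternatingGroup.mpr sy, rfl⟩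
    (fun h => vx1 (hji (h.trans (map_one j).symm))) (fun h => vy1 (hji (h.trans (map_one j).symm)))
    (fun h => vxy (hji h)) (by rw [← map_pow, vx2, map_one]) (by rw [← map_pow, vy2, map_one])
    (show j v4x * j v4y = j v4y * j v4x by rw [← map_mul, ← map_mul, vc])
  have := Nat.card_le_card_of_injective f hf
  rw [h.card, Nat.card_congr e.toEquiv, card_s4] at this
  omega

end CfsgLib.PSL2Max
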