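import Mathlib
import Cfsg.Agent.Lib.PSL2Max.Basic
import Cfsg.Agent.Lib.PSL2Max.Arith
import Cfsg.Agent.Lib.PSL2Max.Tori

/-!
Maximality in `PSL₂(q)` of the traces of maximal subgroups of `PGL₂(q)`.
-/

set_option autoImplicit false

namespace CfsgLib.PSL2Max

open CfsgLib.DicksonFull

theorem a4_no_six : ∀ a : Equiv.Perm (Fin 4), a ^ 3 = 1 ∨ a ^ 4 = 1 := by decide +kernel

variable {F : Type*} [Field F] [Fintype F]

local notation "PSL" => Matrix.ProjectiveSpecialLinearGroup (Fin 2) F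

/-- `A₄` is maximal in `PSL₂(p)`. -/
theorem coatom_a4 (p : ℕ) [Fact p.Prime] [CharP F p] (hF : Fintype.card F = p) (h5 : 5 ≤ p) (h8 : p % 8 = 3 ∨ p % 8 = 5)
    (h10 : p % 10 ≠ 1 ∧ p % 10 ≠ 9) {H : Subgroup PSL} (e : H ≃* alternatingGroup (Fin 4)) : IsCoatom H := by
  classical
  have hp2 : p ≠ 2 := by omega
  have hcard := two_card (F := F) p hp2
  rw [hF] at hcard
  have hc : Nat.card H = 12 := by rw [Nat.card_congr e.toEquiv, card_a4]
  have hbig : 5 * 24 ≤ 2 * Nat.card PSL := by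
    rw [hcard]
    exact Nat.mul_le_mul h5 (by have := Nat.pow_le_pow_left h5 2; omega)
  refine coatom_of ?_ fun K hHK hK => ?_
  · intro hT
    rw [hT, Subgroup.card_top] at hc
    omega
  · have hKG := K.card_subgroup_dvd_card
    rcases over_cases p hp2 hHK hK
      (pair_of_iso H e pair_a4) with h | h | h | ⟨Q, m, hQ, hm, hQm, -⟩
    · omega
    · exfalso
      rw [h] at hKG
      have h16 : 16 ∣ p * (p ^ 2 - 1) := by
        rw [← hcard]; exact Nat.mul_dvd_mul_left 2 (dvd_trans (show (8 : ℕ) ∣ 24 by norm_num) hKG)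
      have hcop : Nat.Coprime 16 p :=
        Nat.Coprime.pow_left 4 ((Nat.coprime_primes Nat.prime_two Fact.out).mpr (Ne.symm hp2))
      obtain ⟨c, hc16⟩ := hcop.dvd_of_dvd_mul_left h16
      obtain ⟨j, hj⟩ : ∃ j, p = 8 * j + 3 ∨ p = 8 * j + 5 := ⟨p / 8, by omega⟩
      rcases hj with hj | hj <;> rw [hj] at hc16 <;> ring_nf at hc16 <;> omega
    · exfalso
      rw [h] at hKG
      by_cases hp5 : p = 5
      · subst hp5
        rw [show (5 : ℕ) * (5 ^ 2 - 1) = 120 by norm_num] at hcard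
        exact hK (Subgroup.eq_top_of_le_card K (by omega))
      have h5' : 5 ∣ p * (p ^ 2 - 1) := by
        rw [← hcard]; exact (dvd_trans (by norm_num) hKG).mul_left 2
      have hcop : Nat.Coprime 5 p :=
        (Nat.coprime_primes (by norm_num) Fact.out).mpr (Ne.symm hp5)
      have h5'' := hcop.dvd_of_dvd_mul_left h5'
      rw [sq_sub_one, Nat.Prime.dvd_mul (by norm_num)] at h5''
      omega
    · exfalso
      rw [hF] at hQm
      exact Nat.Prime.not_prime_pow hm (hQm.symm ▸ (Fact.out : p.Prime))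


/-- `PSL₂(q₀)` is maximal in `PSL₂(q₀ ^ r)` for odd primes `r`. -/
theorem coatom_field (p : ℕ) [Fact p.Prime] [CharP F p] (q r : ℕ) (hF : Fintype.card F = q ^ r) (hq : Odd q)
    (hq3 : 3 ≤ q) (hr : r.Prime) (hr3 : Odd r) (hp2 : p ≠ 2) {H : Subgroup PSL}
    (hc : 2 * Nat.card H = q * (q ^ 2 - 1)) (hpair : ∃ a ∈ H, ∃ b ∈ H, IsPair a b) : IsCoatom H := by
  classical
  have hp := (Fact.out : p.Prime)
  have hr2 : r ≠ 2 := fun e => by rw [e] at hr3; exact absurd hr3 (by decide)
  obtain ⟨n, -, hn⟩ := FiniteField.card F p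
  have hcard := two_card (F := F) p hp2
  rw [hF] at hcard
  refine coatom_of ?_ fun M hHM hM => ?_
  · intro hT
    rw [hT, Subgroup.card_top, hcard] at hc
    have h1 : q ^ 3 ≤ q ^ r := Nat.pow_le_pow_right (by omega) (by
      have := hr.two_le
      omega)
    have h4 : q * 1 < q ^ 3 := by
      rw [mul_one]; exact lt_self_pow₀ (by omega) (by norm_num)
    have : q * (q ^ 2 - 1) < q ^ r * ((q ^ r) ^ 2 - 1) :=
      Nat.mul_lt_mul_of_lt_of_le (by omega) (Nat.sub_le_sub_right (Nat.pow_le_pow_left (by omega) 2) 1) (by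
        have := Nat.pow_le_pow_left (show 3 ≤ q ^ r by omega) 2
        omega)
    omega
  · have hMc := Subgroup.card_dvd_of_le hHM
    have hMG := M.card_subgroup_dvd_card
    have hge : 3 * 8 ≤ q * (q ^ 2 - 1) := Nat.mul_le_mul hq3 (by
      have := Nat.pow_le_pow_left hq3 2
      omega)
    have hsmall : (q = 3 ∧ Nat.card H = 12) ∨ (q = 5 ∧ Nat.card H = 60) ∨ 168 ≤ Nat.card H := by
      rcases (show q = 3 ∨ q = 5 ∨ 7 ≤ q by obtain ⟨j, rfl⟩ := hq; omega) with rfl | rfl | h7
      · norm_num [-Nat.card_eq_fintype_card] at hc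
        exact Or.inl ⟨rfl, by omega⟩
      · norm_num [-Nat.card_eq_fintype_card] at hc
        exact Or.inr (Or.inl ⟨rfl, by omega⟩)
      · have := Nat.mul_le_mul h7 (Nat.sub_le_sub_right (Nat.pow_le_pow_left h7 2) 1)
        omega
    rcases over_cases p hp2 hHM hM hpair with h | h | h | ⟨Q, m, hQ, hm, hQm, hK'⟩
    · omega
    · rcases hsmall with ⟨rfl, -⟩ | h' | h'
      · exfalso
        refine not_dvd_half hq (le_refl 3) hr3 hcard ?_
        rw [h] at hMG
        exact (show (3 : ℕ) ^ 2 - 1 ∣ 24 by norm_num).trans hMG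
      all_goals omega
    · rcases hsmall with ⟨rfl, -⟩ | h' | h'
      · exfalso
        rw [h] at hMG
        have h5 : 5 ∣ 3 ^ r * ((3 ^ r) ^ 2 - 1) :=
          hcard ▸ ((dvd_trans (show (5 : ℕ) ∣ 60 by norm_num) hMG).mul_left 2)
        have h5' := (Nat.Coprime.pow_right r (by norm_num : Nat.Coprime 5 3)).dvd_of_dvd_mul_left h5
        obtain ⟨j, rfl⟩ := hr3
        rw [← pow_mul, show (2 * j + 1) * 2 = 4 * j + 2 by ring] at h5'
        have : (3 : ℕ) ^ (4 * j + 2) % 5 = 4 := by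
          rw [pow_add, pow_mul, Nat.mul_mod, Nat.pow_mod]
          norm_num
        revert h5' this
        generalize (3 : ℕ) ^ (4 * j + 2) = x
        omega
      all_goals omega
    · have hd : q * (q ^ 2 - 1) ∣ 2 * (Q * (Q ^ 2 - 1)) := by
        rw [← hc]
        refine Nat.mul_dvd_mul_left 2 (hMc.trans ?_)
        rcases hK' with e' | e' <;> rw [← e']
        exact dvd_mul_left _ _
      obtain rfl := subfield_eq hp hn (by omega) (by omega) hm hQm hr hF.symm hd
      rcases hK' with e' | e'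
      · omega
      · exfalso
        rw [e'] at hMG
        exact not_dvd_half hq hq3 hr3 hcard ((dvd_mul_left _ _).trans hMG)


variable (p : ℕ) [Fact p.Prime] [CharP F p]

local notation "q" => Fintype.card F

include p in
/-- A Borel subgroup is maximal. -/
theorem coatom_bor (hp2 : p ≠ 2) (h5 : 5 ≤ q) {u : PSL} (hu : orderOf u = p) : IsCoatom (bor u : Subgroup PSL) := by
  classical
  have hg : Nat.gcd 2 (q - 1) = 2 := by
    rcases gcd_cases (F := F) p with ⟨-, he⟩ | ⟨hg, -⟩
    · exact absurd (FiniteField.odd_card_of_char_ne_two (F := F) (by rw [ringChar.eq F p]; exact hp2)) (by omega)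
    · exact hg
  have hodd : q % 2 = 1 := FiniteField.odd_card_of_char_ne_two (F := F) (by rw [ringChar.eq F p]; exact hp2)
  have hb := card_bor p hu
  rw [hg] at hb
  have hidx := index_bor p hu
  have hcard := two_card (F := F) p hp2
  refine coatom_of (fun e => by rw [e, Subgroup.index_top] at hidx; omega) fun K hK hKT => ?_
  have hd : q * (q - 1) ∣ 2 * Nat.card K := hb ▸ Nat.mul_dvd_mul_left 2 (Subgroup.card_dvd_of_le hK)
  have hKG := K.card_subgroup_dvd_card
  have hbig : 20 ≤ q * (q - 1) := Nat.mul_le_mul h5 (by omega : 4 ≤ q - 1)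
  have hsmall : ∀ c, 0 < c → Nat.card K = c → c ≤ 24 → q * (q - 1) ≤ 2 * c := fun c hc0 hc _ =>
    Nat.le_of_dvd (by omega) (hc ▸ hd)
  have h8q : q ≤ 11 → q = 5 ∨ q = 7 ∨ q = 9 ∨ q = 11 := fun h => by omega
  have hq11 : ∀ c, 0 < c → Nat.card K = c → c ≤ 60 → q ≤ 11 := fun c hc0 hc hc' => by
    by_contra h
    have h1 := Nat.le_of_dvd (show 0 < 2 * c by omega) (hc ▸ hd)
    have := Nat.mul_le_mul (show 12 ≤ q by omega) (show 11 ≤ q - 1 by omega)
    omega
  rcases proper_cases p hKT with ⟨k, hk, h⟩ | ⟨⟨e⟩⟩ | ⟨⟨e⟩⟩ | ⟨⟨e⟩⟩ | ⟨v, hv, hle⟩ |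
    ⟨Q, m, L, _, _, hL, hQ, hm, hQm, hle, -, -⟩
  · exfalso
    rw [hg] at hk
    have hk' : k ≤ (q + 1) / 2 := by
      rcases hk with hk | hk <;> have := Nat.le_of_dvd (by omega) hk <;> omega
    have hK2 : Nat.card K ≤ 2 * k := by
      rcases h with ⟨-, hc⟩ | ⟨⟨e⟩⟩
      · omega
      · rw [Nat.card_congr e.toEquiv, DihedralGroup.nat_card]
    have h1 := Nat.le_of_dvd (by have := Nat.card_pos (α := K); omega) hd
    have h2 : 4 * q ≤ q * (q - 1) := by rw [mul_comm 4]; exact Nat.mul_le_mul_left _ (by omega)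
    omega
  · exfalso
    rw [Nat.card_congr e.toEquiv, card_a4] at hd
    have h1 := Nat.le_of_dvd (by norm_num) hd
    rcases h8q (hq11 12 (by norm_num) (by rw [Nat.card_congr e.toEquiv, card_a4]) (by norm_num)) with h | h | h | h <;>
      rw [h] at hd <;> norm_num at hd
  · exfalso
    rw [Nat.card_congr e.toEquiv, card_s4] at hd
    rcases h8q (hq11 24 (by norm_num) (by rw [Nat.card_congr e.toEquiv, card_s4]) (by norm_num)) with h | h | h | h <;>
      rw [h] at hd <;> norm_num at hd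
  · exfalso
    rw [Nat.card_congr e.toEquiv, card_a5] at hd hKG
    rcases h8q (hq11 60 (by norm_num) (by rw [Nat.card_congr e.toEquiv, card_a5]) le_rfl) with h | h | h | h <;>
      rw [h] at hd hcard <;> norm_num at hd
    norm_num [-Nat.card_eq_fintype_card] at hcard
    exact hKT (Subgroup.eq_top_of_le_card K (by rw [Nat.card_congr e.toEquiv, card_a5]; omega))
  · have := card_bor p hv
    rw [hg] at this
    have := Subgroup.card_le_of_le hle
    omega
  · exfalso
    have h1 := Nat.le_of_dvd (by have := Nat.card_pos (α := K); omega) hd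
    have h2 : Q ^ 2 ≤ q := hQm ▸ Nat.pow_le_pow_right (by omega) hm
    have h3 : Q ^ 2 * (Q ^ 2 - 1) ≤ q * (q - 1) := Nat.mul_le_mul h2 (by omega)
    have h4 : 3 * (Q * (Q ^ 2 - 1)) ≤ Q ^ 2 * (Q ^ 2 - 1) := by
      rw [← mul_assoc]; exact Nat.mul_le_mul_right _ (by rw [sq]; exact Nat.mul_le_mul_right _ hQ)
    have h5 : 0 < Q * (Q ^ 2 - 1) := Nat.mul_pos (by omega) (by
      have := Nat.pow_le_pow_left hQ 2
      omega)
    omega

/-- A torus normaliser is maximal for `q` large. -/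
theorem coatom_torus (hp2 : p ≠ 2) (h7 : q ≠ 7) (h9 : q ≠ 9) (h11 : q ≠ 11) (h5 : 5 ≤ q) {w : PSL}
    (hw : SS p w) {n : ℕ} (hn : 2 * n = q + 1 ∨ 2 * n = q - 1) (h3 : 3 ≤ n)
    (hT : Nat.card ((psl p).T w) = n) (hN : Nat.card (Subgroup.normalizer ((psl p).T w : Set PSL)) = 2 * n) :
    IsCoatom (Subgroup.normalizer ((psl p).T w : Set PSL)) := by
  classical
  have hg : Nat.gcd 2 (q - 1) = 2 := by
    rcases gcd_cases (F := F) p with ⟨-, he⟩ | ⟨hg, -⟩
    · exact absurd (FiniteField.odd_card_of_char_ne_two (F := F) (by rw [ringChar.eq F p]; exact hp2)) (by omega)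
    · exact hg
  have hcard := two_card (F := F) p hp2
  obtain ⟨n', g, -, -, -, -, hne, hgN, hgT⟩ := torus_data p (show 4 ≤ q by omega) hw
  haveI := (psl (F := F) p).T_cyclic w hw
  obtain ⟨t', ht⟩ := IsCyclic.exists_ofOrder_eq_natCard (α := (psl (F := F) p).T w)
  set t : PSL := (t' : PSL)
  have hot : orderOf t = n := by rw [Subgroup.orderOf_coe, ht, hT]
  have ht1 : t ≠ 1 := fun e => by rw [e, orderOf_one] at hot; omega
  obtain ⟨hts, hTt⟩ := (psl p).T_eq w t hw t'.2 ht1
  have hinv : g * t * g⁻¹ = t⁻¹ := ((psl p).T_norm w g hw ((mem_norm_iff hw).mp hgN) hgT).1 t t'.2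
  have ht2 : t⁻¹ ≠ t := fun e => by
    have h2 : orderOf t ∣ 2 := orderOf_dvd_of_pow_eq_one (by rw [pow_two]; nth_rw 1 [← e]; exact inv_mul_cancel t)
    have := Nat.le_of_dvd (by norm_num) h2
    omega
  refine coatom_of hne fun K hK hKT => ?_
  rw [hN]
  have htK : t ∈ K := hK (Subgroup.le_normalizer t'.2)
  have hgK : g ∈ K := hK hgN
  have hTK : (psl (F := F) p).T w ≤ K := Subgroup.le_normalizer.trans hK
  have hKG := K.card_subgroup_dvd_card
  rcases proper_cases p hKT with ⟨k, hk, h⟩ | ⟨⟨e⟩⟩ | ⟨⟨e⟩⟩ | ⟨⟨e⟩⟩ | ⟨v, hv, hle⟩ |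
    ⟨Q, m, L, _, _, hL, hQ, hm, hQm, -, htor, -⟩
  · rcases h with ⟨hcy, -⟩ | ⟨⟨e⟩⟩
    · exfalso
      have h1 : (⟨g, hgK⟩ : K) * ⟨t, htK⟩ = ⟨t, htK⟩ * ⟨g, hgK⟩ := (IsCyclic.commGroup (α := K)).mul_comm _ _
      have h2 : g * t = t * g := congrArg Subtype.val h1
      rw [h2, mul_inv_cancel_right] at hinv
      exact ht2 hinv.symm
    · have ho : orderOf (e ⟨t, htK⟩) = n := by rw [e.orderOf_eq, Subgroup.orderOf_mk, hot]
      have hnk : n ∣ k := by
        rcases he : e ⟨t, htK⟩ with i | i <;> rw [he] at ho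
        · rw [← ho]
          exact orderOf_dvd_of_pow_eq_one (by
            rw [DihedralGroup.r_pow, ZMod.natCast_self, mul_zero]; rfl)
        · rw [DihedralGroup.orderOf_sr] at ho; omega
      rw [Nat.card_congr e.toEquiv, DihedralGroup.nat_card]
      rw [hg] at hk
      refine Nat.mul_le_mul_left 2 (Nat.le_of_dvd (by omega) ?_)
      rcases hk with hk | hk <;> rcases hn with hn' | hn'
      · rwa [show n = (q + 1) / 2 by omega]
      · exfalso
        have h' := hnk.trans hk
        rw [show (q + 1) / 2 = n + 1 by omega] at h'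
        have := Nat.le_of_dvd one_pos ((Nat.dvd_add_right dvd_rfl).mp h')
        omega
      · exfalso
        have h' := Nat.dvd_sub (dvd_refl n) (hnk.trans hk)
        rw [show n - (q - 1) / 2 = 1 by omega] at h'
        have := Nat.le_of_dvd one_pos h'
        omega
      · rwa [show n = (q - 1) / 2 by omega]
  · exfalso
    set a := e ⟨t, htK⟩ with ha
    have ho : orderOf a = n := by rw [ha, e.orderOf_eq, Subgroup.orderOf_mk, hot]
    have h1 : a ^ 3 = 1 := by
      rcases a4_orders a with h | h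
      · have := Nat.le_of_dvd (by norm_num) (orderOf_dvd_of_pow_eq_one h)
        omega
      · exact h
    have h2 : e ⟨g, hgK⟩ * a * (e ⟨g, hgK⟩)⁻¹ = a⁻¹ := by
      rw [ha, ← map_inv, ← map_inv, ← map_mul, ← map_mul]
      exact congrArg e (Subtype.ext hinv)
    rw [a4_no_inversion a _ h1 h2, orderOf_one] at ho
    omega
  · exfalso
    set a := e ⟨t, htK⟩ with ha
    have ho : orderOf a = n := by rw [ha, e.orderOf_eq, Subgroup.orderOf_mk, hot]
    have hn4 : n ≤ 4 := by
      rcases a4_no_six a with h | h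
      · have := Nat.le_of_dvd (by norm_num) (orderOf_dvd_of_pow_eq_one h)
        omega
      · have := Nat.le_of_dvd (by norm_num) (orderOf_dvd_of_pow_eq_one h)
        omega
    obtain hq : q = 5 := by omega
    rw [Nat.card_congr e.toEquiv, card_s4] at hKG
    rw [hq] at hcard
    norm_num [-Nat.card_eq_fintype_card] at hcard
    omega
  · exfalso
    set a := e ⟨t, htK⟩ with ha
    have ho : orderOf a = n := by rw [ha, e.orderOf_eq, Subgroup.orderOf_mk, hot]
    have hn5 : n ≤ 5 := by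
      rcases a5_orders a with h | h | h <;>
        have := Nat.le_of_dvd (by norm_num) (orderOf_dvd_of_pow_eq_one h) <;> omega
    have hK60 : Nat.card K = 60 := by rw [Nat.card_congr e.toEquiv, card_a5]
    rw [hK60] at hKG
    rcases (show q = 5 ∨ q = 13 by
      rcases hn with hn | hn <;> rcases (show n = 3 ∨ n = 4 ∨ n = 5 by omega) with h | h | h <;> omega) with hq | hq <;>
      rw [hq] at hcard <;> norm_num [-Nat.card_eq_fintype_card] at hcard
    · exact hKT (Subgroup.eq_top_of_le_card K (by omega))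
    all_goals omega
  · exfalso
    have hcm := (psl (F := F) p).borel_comm v g t hv ((mem_bor (psl p) hv).mp (hle hgK))
      ((mem_bor (psl p) hv).mp (hle htK))
    rw [hinv] at hcm
    have hmem : t⁻¹ * t⁻¹ ∈ (psl (F := F) p).T w := mul_mem (inv_mem t'.2) (inv_mem t'.2)
    have hne1 : t⁻¹ * t⁻¹ ≠ 1 := fun e => ht2 (mul_eq_one_iff_eq_inv.mp e |>.trans (inv_inv t))
    have hp1 := ((psl (F := F) p).u_cen v _ _ hv hcm (Commute.refl v)).2
    refine ((psl p).T_eq w _ hw hmem hne1).1.2 ?_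
    rcases (Nat.dvd_prime (Fact.out : p.Prime)).mp (orderOf_dvd_of_pow_eq_one hp1) with h | h
    · exact absurd (orderOf_eq_one_iff.mp h) hne1
    · rw [h]
  · exfalso
    have h1 := htor t htK hts
    rw [show tor (psl p) K t = (psl p).T w by rw [tor, hTt]; exact inf_eq_right.mpr hTK, hT] at h1
    have h2 : Q ^ 2 ≤ q := hQm ▸ Nat.pow_le_pow_right (by omega) hm
    have hQ4 : Q ≤ 3 := by
      by_contra h
      have h3 : 4 * Q ≤ Q ^ 2 := by rw [sq]; exact Nat.mul_le_mul_right _ (by omega)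
      omega
    obtain rfl : Q = 3 := by omega
    omega

end CfsgLib.PSL2Max
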