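import Mathlib
import Cfsg.Agent.Lib.PSL2Max.PglCases
import Cfsg.Agent.Lib.PSL2Max.PglTorus
import Cfsg.Agent.Lib.PSL2Platonic

/-!
The possible maximal subgroups of `PGL₂(q)` not containing `PSL₂(q)`.
-/

set_option autoImplicit false

namespace CfsgLib.PSL2Max

open Matrix CfsgLib.DicksonFull
open CfsgLib.PSL2 (mk diagAut conjSL)

variable {F : Type*} [Field F] [Fintype F] (p : ℕ) [Fact p.Prime] [CharP F p]

local notation "PSL" => Matrix.ProjectiveSpecialLinearGroup (Fin 2) F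
local notation "PGL" => Matrix.ProjGenLinGroup (Fin 2) F
local notation "q" => Fintype.card F

include p in
theorem klein_not_five (hp2 : p ≠ 2) (hq : q = 5) {M : Subgroup PGL} (h : Setup M) :
    Nat.card (M.comap phi) ≠ 4 := by
  intro hc
  haveI := finite_pgl (F := F)
  have hcard := two_card (F := F) p hp2
  rw [hq] at hcard
  norm_num [-Nat.card_eq_fintype_card] at hcard
  obtain ⟨A, ⟨eA⟩⟩ := PSL2Platonic.exists_A4 (F := F) (two_ne p hp2)
  set j : alternatingGroup (Fin 4) →* PSL := A.subtype.comp eA.symm.toMonoidHom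
  have hji : Function.Injective j := A.subtype_injective.comp eA.symm.injective
  obtain ⟨s, -, hs⟩ := conj_four (H := (⊤ : Subgroup PSL)) (V := M.comap phi) (W := kleinA4.map j)
    (by rw [Subgroup.card_top]; omega) le_top le_top hc
    (by rw [← Nat.card_congr (kleinA4.equivMapOfInjective j hji).toEquiv, card_kleinA4])
  set B := M.comap phi with hB
  have hne : B ≠ ⊥ := fun e => by rw [e, Subgroup.card_bot] at hc; omega
  have hM := h.eq_stab (by omega) hne h.bar_ne_top fun g hg y hy => stable_mem g hg y hy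
  have hN : Subgroup.normalizer (B : Set PSL) ≤ B := fun y hy => by
    rw [hB, Subgroup.mem_comap, hM, mem_stab]
    rw [Subgroup.mem_normalizer_iff] at hy
    simpa only [act_phi, MulAut.conj_apply, SetLike.mem_coe] using hy
  set k : alternatingGroup (Fin 4) →* PSL := (MulAut.conj s).toMonoidHom.comp j
  have hk : kleinA4.map k = B := by rw [← Subgroup.map_map]; exact hs
  have hle : k.range ≤ B := by
    refine le_trans ?_ hN
    have := kleinA4.le_normalizer_map k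
    rwa [Subgroup.normalizer_eq_top, ← MonoidHom.range_eq_map, hk] at this
  have h12 : Nat.card k.range = 12 := by
    rw [← Nat.card_congr (MonoidHom.ofInjective
      (show Function.Injective k from (MulAut.conj s).injective.comp hji)).toEquiv, card_a4]
  have := Subgroup.card_le_of_le hle
  omega

/-- The shapes. -/
theorem pgl_shape (hp2 : p ≠ 2) (h5 : 5 ≤ q) {M : Subgroup PGL} (h : Setup M) :
    (∃ u : PSL, orderOf u = p ∧ M.comap phi = bor u ∧ Nat.card M = q * (q - 1)) ∨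
    (∃ (w : PSL) (n : ℕ), SS p w ∧ (2 * n = q + 1 ∨ 2 * n = q - 1) ∧ ¬ (q = 5 ∧ 2 * n = q - 1) ∧
      M.comap phi = Subgroup.normalizer ((psl p).T w : Set PSL) ∧ Nat.card ((psl p).T w) = n ∧
      Nat.card (M.comap phi) = 2 * n ∧ Nonempty (M ≃* DihedralGroup (2 * n))) ∨
    (q = p ∧ (q % 8 = 3 ∨ q % 8 = 5) ∧ Nonempty ((M.comap phi : Subgroup PSL) ≃* alternatingGroup (Fin 4)) ∧
      Nonempty (M ≃* Equiv.Perm (Fin 4))) ∨
    (∃ (K : Type) (_ : Field K) (_ : Fintype K) (r : ℕ), r.Prime ∧ Odd r ∧ q = Fintype.card K ^ r ∧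
      Nonempty (M ≃* Matrix.ProjGenLinGroup (Fin 2) K)) := by
  classical
  have htorus : ∀ x : PSL, SS p x → x ∈ M.comap phi →
      M.comap phi ≤ Subgroup.normalizer ((psl p).T x : Set PSL) →
      ∃ (w : PSL) (n : ℕ), SS p w ∧ (2 * n = q + 1 ∨ 2 * n = q - 1) ∧ ¬ (q = 5 ∧ 2 * n = q - 1) ∧
      M.comap phi = Subgroup.normalizer ((psl p).T w : Set PSL) ∧ Nat.card ((psl p).T w) = n ∧
      Nat.card (M.comap phi) = 2 * n ∧ Nonempty (M ≃* DihedralGroup (2 * n)) := fun x hx hxM hN => by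
    obtain ⟨w, n, hw, hn, he, hT, hc, hd⟩ := torus_case p hp2 h5 h hx hxM hN
    refine ⟨w, n, hw, hn, fun ⟨h1, h2⟩ => klein_not_five p hp2 h1 h ?_, he, hT, hc, hd⟩
    omega
  rcases kind (psl (F := F) p) (M.comap phi) with hb | ⟨x, hx, hxH, hle⟩ | ⟨x, hx, hxH, ⟨e⟩⟩ | ⟨⟨e⟩⟩ | hS |
    ⟨⟨e⟩⟩ | ⟨u, huH, hu, hle⟩ | ⟨u, v, huH, hu, hvH, hv, huv, Q, hQ, h3, hh, hB, -⟩
  · exact absurd hb (case_bot p h5 h)
  · exact Or.inr (Or.inl (htorus x hx hxH (hle.trans Subgroup.le_normalizer)))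
  · refine Or.inr (Or.inl (htorus x hx hxH fun g hg => ?_))
    have hidx : ((tor (psl p) (M.comap phi) x).subgroupOf (M.comap phi)).index = 2 := by
      have h1 := ((tor (psl p) (M.comap phi) x).subgroupOf (M.comap phi)).card_mul_index
      rw [Nat.card_congr (Subgroup.subgroupOfEquivOfLe
          (show tor (psl p) (M.comap phi) x ≤ M.comap phi from inf_le_left)).toEquiv,
        Nat.card_congr e.toEquiv, DihedralGroup.nat_card, mul_comm 2] at h1
      exact Nat.eq_of_mul_eq_mul_left Nat.card_pos h1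
    haveI hn := Subgroup.normal_of_index_eq_two hidx
    exact mem_norm hx (Subgroup.mem_subgroupOf.mp
      (hn.conj_mem ⟨x, hxH⟩ (Subgroup.mem_subgroupOf.mpr (self_mem_tor hx hxH)) ⟨g, hg⟩)).2
  · obtain ⟨hq8, ⟨hqp, hS⟩ | ⟨-, ι, r, hr, hro, hqr, hI⟩⟩ := pgl_case_a4 p hp2 h5 h e
    · exact Or.inr (Or.inr (Or.inl ⟨hqp, hq8, ⟨e⟩, hS⟩))
    · exact Or.inr (Or.inr (Or.inr ⟨ZMod p, inferInstance, inferInstance, r, hr, hro, by rw [hqr, ZMod.card], hI⟩))
  · exact absurd hS (pgl_case_s4 p hp2 h5 h)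
  · obtain ⟨-, r, hr, hro, hqr, hI⟩ := pgl_case_a5 p hp2 h5 h e
    exact Or.inr (Or.inr (Or.inr ⟨ZMod p, inferInstance, inferInstance, r, hr, hro, by rw [hqr, ZMod.card], hI⟩))
  · obtain ⟨he, hc⟩ := case_borel p hp2 h5 h huH hu hle
    exact Or.inl ⟨u, hu, he, hc⟩
  · obtain ⟨K, iK, iK', m₀, hm₀, hKQ, -⟩ := field_case p huH hu hvH hv huv Q hQ hh
    obtain ⟨S, N, hSQ, hN⟩ := field_scaled p huH hu hvH hv huv Q hQ hh
    have hm0 : m₀ ≠ 0 := by rintro rfl; simp at hm₀; omega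
    obtain ⟨ι⟩ := Cfsg.Agent.S0805.exists_emb (F := F) (K := K) m₀ (Nat.pos_of_ne_zero hm0) hm₀
    have hS : ι.fieldRange = S := subfield_eq_of_card (by rw [card_field_range, hKQ, hSQ])
    obtain ⟨hbar, ⟨eM⟩⟩ := conj_data (M := M) N
    obtain ⟨eP, r, hr, hro, hqr⟩ := subfield_case p hp2 ι (h.conj (pgm N)) (hbar ▸ hS ▸ hN) (by
      rw [hbar, ← Nat.card_congr ((M.comap phi).equivMapOfInjective (diagAut N).toMonoidHom (diagAut N).injective).toEquiv,
        SLCard.card_PGL, SLCard.card_SL_two, hKQ, hh, sq_sub_one,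
        show Q * ((Q + 1) * (Q - 1)) = (Q + 1) * (Q * (Q - 1)) by ring, mul_left_comm 2]
      exact Nat.mul_le_mul_left _ (by rcases hB with h | h <;> omega))
    obtain ⟨eI⟩ := phat_iso ι
    exact Or.inr (Or.inr (Or.inr ⟨K, iK, iK', r, hr, hro, hqr,
      ⟨eM.trans ((MulEquiv.subgroupCongr eP).trans eI)⟩⟩))

end CfsgLib.PSL2Max
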